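import Groth.Agent.GeomLoci.GenericCounts

/-!
# The numbers of geometric components near a point of the base
-/

set_option autoImplicit false
set_option linter.style.haveILetI false
set_option linter.unusedSectionVars false
set_option backward.isDefEq.respectTransparency false

universe u

open AlgebraicGeometry CategoryTheory CategoryTheory.Limits Topology

namespace Groth.Agent.GeomLoci

theorem exists_nGeom_eq_nhds {X Y : Scheme.{u}} (f : X ⟶ Y) [LocallyOfFiniteType f] [QuasiCompact f] (y : Y) :
    ∃ V : Set Y, IsOpen V ∧ y ∈ V ∧ ∀ y' ∈ closure {y} ∩ V,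
      MoreMor.nGeomIrredComp f y' = MoreMor.nGeomIrredComp f y ∧
        MoreMor.nGeomConnComp f y' = MoreMor.nGeomConnComp f y := by
  obtain ⟨_, ⟨U, hU, rfl⟩, hyU, -⟩ := Y.isBasis_affineOpens.exists_subset_of_mem_open (Set.mem_univ y) isOpen_univ
  obtain ⟨b, rfl⟩ : y ∈ Set.range hU.fromSpec := by rw [hU.range_fromSpec]; exact hyU
  let R := Γ(Y, U)
  let A := R ⧸ b.asIdeal
  haveI : b.asIdeal.IsPrime := b.2
  let i : Spec (CommRingCat.of A) ⟶ Y :=
    Spec.map (CommRingCat.ofHom (Ideal.Quotient.mk b.asIdeal)) ≫ hU.fromSpec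
  let f' := pullback.snd f i
  haveI : QuasiCompact f' := inferInstance
  obtain ⟨a, ha, hcount⟩ := exists_nGeom_eq f'
  obtain ⟨r, rfl⟩ := Ideal.Quotient.mk_surjective a
  have hi : ∀ P : Spec (CommRingCat.of A), i P =
      hU.fromSpec (PrimeSpectrum.comap (Ideal.Quotient.mk b.asIdeal) P) := fun P => Scheme.Hom.comp_apply _ _ _
  have hbot : PrimeSpectrum.comap (Ideal.Quotient.mk b.asIdeal) ⟨⊥, Ideal.isPrime_bot⟩ = b :=
    PrimeSpectrum.ext (by show Ideal.comap (Ideal.Quotient.mk b.asIdeal) ⊥ = _; exact Ideal.mk_ker)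
  have hbase : ∀ P : Spec (CommRingCat.of A), Ideal.Quotient.mk b.asIdeal r ∉ P.asIdeal →
      MoreMor.nGeomIrredComp f (i P) = MoreMor.nGeomIrredComp f (hU.fromSpec b) ∧
        MoreMor.nGeomConnComp f (i P) = MoreMor.nGeomConnComp f (hU.fromSpec b) := by
    intro P hP
    have hP' := Triage.GeomCount.nGeom_baseChange f f' (pullback.fst f i) i (IsPullback.of_hasPullback f i) P
    have h0 := Triage.GeomCount.nGeom_baseChange f f' (pullback.fst f i) i (IsPullback.of_hasPullback f i)
      ⟨⊥, Ideal.isPrime_bot⟩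
    obtain ⟨hI, hC⟩ := hcount P hP
    rw [hi ⟨⊥, Ideal.isPrime_bot⟩, hbot] at h0
    exact ⟨hP'.1.symm.trans (hI.trans h0.1), hP'.2.symm.trans (hC.trans h0.2)⟩
  refine ⟨hU.fromSpec '' (PrimeSpectrum.basicOpen r : Set (PrimeSpectrum R)),
    hU.fromSpec.isOpenEmbedding.isOpenMap _ (PrimeSpectrum.basicOpen r).isOpen, ⟨b, ?_, rfl⟩, ?_⟩
  · exact fun h => ha (Ideal.Quotient.eq_zero_iff_mem.2 h)
  · rintro _ ⟨hcl, c, hc, rfl⟩
    have hbc : b.asIdeal ≤ c.asIdeal := by
      have h1 : c ∈ closure {b} := by
        rw [hU.fromSpec.isOpenEmbedding.isInducing.closure_eq_preimage_closure_image, Set.image_singleton]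
        exact hcl
      rw [PrimeSpectrum.closure_singleton] at h1
      exact h1
    haveI : c.asIdeal.IsPrime := c.2
    let P : Spec (CommRingCat.of A) := ⟨c.asIdeal.map (Ideal.Quotient.mk b.asIdeal),
      Ideal.map_isPrime_of_surjective Ideal.Quotient.mk_surjective (by rw [Ideal.mk_ker]; exact hbc)⟩
    have hcomap : Ideal.comap (Ideal.Quotient.mk b.asIdeal) P.asIdeal = c.asIdeal :=
      (Ideal.comap_map_of_surjective' _ Ideal.Quotient.mk_surjective _).trans
        (by rw [Ideal.mk_ker, sup_eq_left.2 hbc])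
    have hPc : i P = hU.fromSpec c := by rw [hi]; exact congrArg hU.fromSpec (PrimeSpectrum.ext hcomap)
    rw [← hPc]
    exact hbase P fun h => hc (hcomap.le h)

theorem irreducibleSpace_of_encard {T : Type*} [TopologicalSpace T] (h : (irreducibleComponents T).encard = 1) :
    IrreducibleSpace T := by
  obtain ⟨s, hs⟩ := Set.encard_eq_one.1 h
  have hmem : s ∈ irreducibleComponents T := by rw [hs]; exact Set.mem_singleton s
  have huniv : s = Set.univ := Set.eq_univ_of_forall fun x => by
    obtain ⟨t, ht, hxt⟩ := exists_mem_irreducibleComponents_subset_of_isIrreducible {x} isIrreducible_singleton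
    rw [hs] at ht
    exact (Set.mem_singleton_iff.1 ht) ▸ hxt rfl
  have hirr : IsIrreducible (Set.univ : Set T) := huniv ▸ hmem.1
  exact (irreducibleSpace_def T).2 hirr

theorem encard_of_irreducibleSpace {T : Type*} [TopologicalSpace T] [IrreducibleSpace T] :
    (irreducibleComponents T).encard = 1 := by
  rw [irreducibleComponents_eq_singleton, Set.encard_singleton]

theorem connectedSpace_of_card {T : Type*} [TopologicalSpace T]
    (h : ENat.card (_root_.ConnectedComponents T) = 1) : ConnectedSpace T := by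
  obtain ⟨hu⟩ := (ENat.card_eq_one_iff_unique (α := _root_.ConnectedComponents T)).1 h
  obtain ⟨x, -⟩ := ConnectedComponents.surjective_coe (default : _root_.ConnectedComponents T)
  haveI : PreconnectedSpace T := preconnectedSpace_iff_connectedComponent.2 fun y =>
    Set.eq_univ_of_forall fun z => ConnectedComponents.coe_eq_coe'.1 (Subsingleton.elim (z : _root_.ConnectedComponents T) y)
  exact { toNonempty := ⟨x⟩ }

theorem card_of_connectedSpace {T : Type*} [TopologicalSpace T] [ConnectedSpace T] :
    ENat.card (_root_.ConnectedComponents T) = 1 := by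
  haveI : Inhabited (_root_.ConnectedComponents T) := ⟨((Classical.arbitrary T : T) : _root_.ConnectedComponents T)⟩
  haveI : Subsingleton (_root_.ConnectedComponents T) := ⟨?_⟩
  · exact ENat.card_eq_one_iff_unique.2 ⟨Unique.mk' _⟩
  intro a b
  obtain ⟨x, rfl⟩ := ConnectedComponents.surjective_coe a
  obtain ⟨y, rfl⟩ := ConnectedComponents.surjective_coe b
  exact ConnectedComponents.coe_eq_coe'.2 (by rw [PreconnectedSpace.connectedComponent_eq_univ]; trivial)

variable {X Y : Scheme.{u}} (f : X ⟶ Y)

theorem geometricallyIrreducible_of_nGeom (h : ∀ y, MoreMor.nGeomIrredComp f y = 1) :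
    GeometricallyIrreducible f := by
  refine ⟨geometrically_iff_of_isClosedUnderIsomorphisms.mpr fun K _ x => ?_⟩
  let Ω := SeparableClosure K
  let b : Spec (CommRingCat.of Ω) ⟶ Spec (CommRingCat.of K) := Spec.map (CommRingCat.ofHom (algebraMap K Ω))
  haveI : IrreducibleSpace ↥(pullback f (b ≫ x)) := irreducibleSpace_of_encard
    ((nGeom_eq_counts f (b ≫ x) ⟨⊥, Ideal.isPrime_bot⟩).1.symm.trans (h _))
  haveI : Surjective b := ⟨fun q => ⟨⟨⊥, Ideal.isPrime_bot⟩, Subsingleton.elim _ _⟩⟩
  haveI : IrreducibleSpace ↥(pullback (pullback.snd f x) b) :=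
    ((pullbackLeftPullbackSndIso f x b).hom.homeomorph.irreducibleSpace_iff).2 ‹_›
  let p := pullback.fst (pullback.snd f x) b
  show IrreducibleSpace ↥(pullback f x)
  refine (irreducibleSpace_def _).2 ?_
  show IsIrreducible (Set.univ : Set ↥(pullback f x))
  rw [← p.surjective.range_eq, ← Set.image_univ]
  exact (IrreducibleSpace.isIrreducible_univ _).image _ p.continuous.continuousOn

theorem geometricallyConnected_of_nGeom (h : ∀ y, MoreMor.nGeomConnComp f y = 1) :
    GeometricallyConnected f := by
  refine ⟨geometrically_iff_of_isClosedUnderIsomorphisms.mpr fun K _ x => ?_⟩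
  let Ω := SeparableClosure K
  let b : Spec (CommRingCat.of Ω) ⟶ Spec (CommRingCat.of K) := Spec.map (CommRingCat.ofHom (algebraMap K Ω))
  haveI : ConnectedSpace ↥(pullback f (b ≫ x)) := connectedSpace_of_card
    ((nGeom_eq_counts f (b ≫ x) ⟨⊥, Ideal.isPrime_bot⟩).2.symm.trans (h _))
  haveI : Surjective b := ⟨fun q => ⟨⟨⊥, Ideal.isPrime_bot⟩, Subsingleton.elim _ _⟩⟩
  let e := (pullbackLeftPullbackSndIso f x b).hom.homeomorph
  haveI : ConnectedSpace ↥(pullback (pullback.snd f x) b) := e.symm.surjective.connectedSpace e.symm.continuous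
  exact (pullback.fst (pullback.snd f x) b).surjective.connectedSpace
    (pullback.fst (pullback.snd f x) b).continuous

theorem nGeomIrredComp_eq_one (y : Y) [GeometricallyIrreducible (f.fiberToSpecResidueField y)] :
    MoreMor.nGeomIrredComp f y = 1 := by
  haveI : IrreducibleSpace ↥(MoreMor.geomFiber f y) :=
    GeometricallyIrreducible.geometrically_irreducibleSpace _ _ _ (.of_hasPullback _ _)
  exact encard_of_irreducibleSpace

theorem nGeomConnComp_eq_one (y : Y) [GeometricallyConnected (f.fiberToSpecResidueField y)] :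
    MoreMor.nGeomConnComp f y = 1 := by
  haveI : ConnectedSpace ↥(MoreMor.geomFiber f y) :=
    GeometricallyConnected.geometrically_connectedSpace _ _ _ (.of_hasPullback _ _)
  exact card_of_connectedSpace

end Groth.Agent.GeomLoci
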