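import Groth.Agent.GeomLoci.SectNhd
import Groth.Agent.GeomRedFlat5.Open
import Groth.Agent.S2075

/-!
# Neighbourhoods of the components along a section, flat morphisms of finite presentation
-/

set_option autoImplicit false
set_option linter.style.haveILetI false
set_option linter.unusedSectionVars false
set_option backward.isDefEq.respectTransparency false
set_option backward.isDefEq.respectTransparency.types false

open AlgebraicGeometry CategoryTheory Limits Topology Groth.Agent.ConsPropLib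

universe u

namespace Groth.Agent.GeomLoci

/-- A flat model over an affine noetherian base. -/
theorem exists_flat_model {X S : Scheme.{u}} [IsAffine S] (f : X ⟶ S) [Flat f] [LocallyOfFinitePresentation f]
    [QuasiCompact f] [QuasiSeparated f] :
    ∃ (S₀ X₀ : Scheme.{u}) (f₀ : X₀ ⟶ S₀) (q : X ⟶ X₀) (π : S ⟶ S₀), IsNoetherian S₀ ∧ Flat f₀ ∧
      LocallyOfFinitePresentation f₀ ∧ QuasiCompact f₀ ∧ IsPullback q f f₀ π := by
  obtain ⟨I, _, _, D, c, hc, e, hA, hN⟩ := exists_noetherian_limit S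
  haveI := hA
  haveI : ∀ (i j : I) (φ : i ⟶ j), IsAffineHom (D.map φ) := fun i j φ => isAffineHom_of_isAffine _
  haveI : ∀ {i j : I} (φ : i ⟶ j), IsAffineHom (D.map φ) := fun φ => isAffineHom_of_isAffine _
  obtain ⟨i, X₁, u₁, g₁, hX⟩ := hasModel hc (f ≫ e.inv)
  haveI := hX.lfp; haveI := hX.qc; haveI := hX.qs
  haveI : CompactSpace ↥X₁ := QuasiCompact.compactSpace_of_compactSpace u₁
  haveI : QuasiSeparatedSpace ↥X₁ := quasiSeparatedSpace_of_quasiSeparated u₁
  have hY : IsPullback (c.π.app i) (𝟙 c.pt) (𝟙 (D.obj i)) (c.π.app i) :=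
    IsPullback.id_vert (c.π.app i)
  obtain ⟨k, φ, Xk, Yk, fk, gk, pY, pX, hk, hkX, hflat⟩ :=
    Groth.Agent.S2075.result D c hc i u₁ (𝟙 (D.obj i)) (f ≫ e.inv) (𝟙 c.pt) (c.π.app i) g₁ hY hX.sq
  haveI := hflat
  haveI : IsIso gk := hk.isIso_snd_of_isIso
  have small : IsPullback pX (fk ≫ gk) u₁ (D.map φ) := by
    have := hkX.paste_vert hk
    rwa [Category.comp_id] at this
  have hw : g₁ ≫ u₁ = ((f ≫ e.inv) ≫ c.π.app k) ≫ D.map φ := by
    rw [hX.sq.w, Category.assoc (f ≫ e.inv), c.w φ]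
  let q : X ⟶ Xk := small.lift g₁ ((f ≫ e.inv) ≫ c.π.app k) hw
  have hq : IsPullback q (f ≫ e.inv) (fk ≫ gk) (c.π.app k) := by
    refine IsPullback.of_right ?_ (small.lift_snd _ _ _) small
    rw [small.lift_fst, c.w φ]
    exact hX.sq
  haveI : QuasiCompact (fk ≫ gk) := MorphismProperty.of_isPullback small inferInstance
  haveI : LocallyOfFinitePresentation (fk ≫ gk) := MorphismProperty.of_isPullback small inferInstance
  exact ⟨D.obj k, Xk, fk ≫ gk, q, e.inv ≫ c.π.app k, hN k, inferInstance, inferInstance, inferInstance,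
    hq.of_iso (Iso.refl _) (Iso.refl _) e (Iso.refl _) (by simp) (by simp) (by simp) (by simp)⟩

variable {X Y : Scheme.{u}} (f : X ⟶ Y) [LocallyOfFinitePresentation f] [Flat f]

theorem subset_interior_of_qs (hqs : ∀ V : Y.Opens, IsAffineOpen V → IsQuasiSeparated ((f ⁻¹ᵁ V : X.Opens) : Set X))
    (g : Y ⟶ X) (hg : g ≫ f = 𝟙 Y) {y : Y}
    (h : ∀ x ∈ connectedComponentIn (f.base ⁻¹' {y}) (g.base y), GeomRedFlat5.E f x) :
    connectedComponentIn (f.base ⁻¹' {y}) (g.base y) ⊆ interior (MoreMor.sectionComponents f g) := by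
  intro x hx
  obtain ⟨P⟩ := exists_piece f g hg hqs hx
  haveI := P.open_j; haveI := P.open_i; haveI := P.affine; haveI := P.qc; haveI := P.lft; haveI := P.qs
  haveI : Flat P.f' := by
    have h1 : IsPullback (𝟙 P.X') P.f' (P.f' ≫ P.i) P.i :=
      IsPullback.mk ⟨by simp⟩ ⟨PullbackCone.IsLimit.mk _ (fun s => s.fst) (fun s => by simp)
        (fun s => (cancel_mono P.i).1 (by rw [Category.assoc]; exact s.condition))
        (fun s m hm _ => by simpa using hm)⟩
    haveI : Flat (P.f' ≫ P.i) := by rw [P.hw]; infer_instance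
    exact MorphismProperty.of_isPullback h1 inferInstance
  haveI : LocallyOfFinitePresentation P.f' := by
    have h1 : IsPullback (𝟙 P.X') P.f' (P.f' ≫ P.i) P.i :=
      IsPullback.mk ⟨by simp⟩ ⟨PullbackCone.IsLimit.mk _ (fun s => s.fst) (fun s => by simp)
        (fun s => (cancel_mono P.i).1 (by rw [Category.assoc]; exact s.condition))
        (fun s m hm _ => by simpa using hm)⟩
    haveI : LocallyOfFinitePresentation (P.f' ≫ P.i) := by rw [P.hw]; infer_instance
    exact MorphismProperty.of_isPullback h1 inferInstance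
  haveI : QuasiSeparated P.f' := inferInstance
  obtain ⟨S₀, X₀, f₀, q, π, _, _, _, _, hq⟩ := exists_flat_model P.f'
  -- the universal section
  haveI : IsLocallyNoetherian X₀ := LocallyOfFiniteType.isLocallyNoetherian f₀
  let f₁ := pullback.snd f₀ f₀
  let s₁ : X₀ ⟶ pullback f₀ f₀ := pullback.lift (𝟙 _) (𝟙 _) rfl
  let π₁ : P.Y' ⟶ X₀ := P.g' ≫ q
  let q₁ : P.X' ⟶ pullback f₀ f₀ := pullback.lift q (P.f' ≫ π₁)
    (by simp only [π₁, Category.assoc, hq.w, reassoc_of% P.hg'])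
  have hπ : π₁ ≫ f₀ = π := by simp only [π₁, Category.assoc, hq.w, reassoc_of% P.hg']
  have hq₁ : IsPullback q₁ P.f' f₁ π₁ := by
    refine IsPullback.of_right ?_ (pullback.lift_snd _ _ _) (IsPullback.of_hasPullback f₀ f₀)
    rw [pullback.lift_fst, hπ]
    exact hq
  have hs₁ : P.g' ≫ q₁ = π₁ ≫ s₁ := by
    apply pullback.hom_ext
    · rw [Category.assoc, Category.assoc, pullback.lift_fst, pullback.lift_fst, Category.comp_id]
    · rw [Category.assoc, Category.assoc, pullback.lift_snd, pullback.lift_snd, reassoc_of% P.hg',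
        Category.comp_id]
  have hbc := S1324.result f₁ s₁ (pullback.lift_snd _ _ _) P.f' q₁ π₁ hq₁ P.g' P.hg' hs₁
  let v₀ := P.f' P.x'
  have hx₁ : q₁ P.x' ∈ connectedComponentIn (f₁.base ⁻¹' {π₁ v₀}) (s₁.base (π₁ v₀)) := by
    have h1 : P.x' ∈ q₁ ⁻¹' MoreMor.sectionComponents f₁ s₁ := hbc ▸ P.hmem
    have h2 : f₁ (q₁ P.x') = π₁ v₀ := by
      rw [← Scheme.Hom.comp_apply, hq₁.w, Scheme.Hom.comp_apply]
    change q₁ P.x' ∈ connectedComponentIn (f₁ ⁻¹' {f₁ (q₁ P.x')}) (s₁ (f₁ (q₁ P.x'))) at h1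
    rwa [h2] at h1
  have hgood : ∀ v ∈ connectedComponentIn (f₁.base ⁻¹' {π₁ v₀}) (s₁.base (π₁ v₀)), GoodAt f₁ v := by
    intro v hv
    have hfv : f₁ v = π₁ v₀ := connectedComponentIn_subset (f₁.base ⁻¹' {π₁ v₀}) (s₁.base (π₁ v₀)) hv
    obtain ⟨z, hz, hz'⟩ := Scheme.exists_preimage_of_isPullback hq₁ v v₀ hfv
    refine goodAt_of f₁ (fun T τ w _ U hU => (pullback.snd f₁ τ).isOpenMap.image_mem_nhds hU) ?_
    rw [← hz]
    refine (GeomRedFlat5.E_iff_of_isPullback hq₁ z).1 ?_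
    -- the point upstairs lies in the component
    have hzS : z ∈ MoreMor.sectionComponents P.f' P.g' := by
      rw [hbc]
      show q₁ z ∈ connectedComponentIn (f₁ ⁻¹' {f₁ (q₁ z)}) (s₁ (f₁ (q₁ z)))
      rw [hz, hfv]
      exact hv
    have h2 := image_sectionComponents_subset f g P.f' P.g' P.hg' P.j P.i P.hw P.hgw ⟨z, hzS, rfl⟩
    change P.j z ∈ connectedComponentIn (f ⁻¹' {f (P.j z)}) (g (f (P.j z))) at h2
    rw [← Scheme.Hom.comp_apply, ← P.hw, Scheme.Hom.comp_apply, hz', P.hfx] at h2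
    have h3 : GeomRedFlat5.E (P.j ≫ f) z := (GeomRedFlat5.E_comp_openImmersion P.j f z).2 (h _ h2)
    rw [← P.hw] at h3
    exact (GeomRedFlat5.E_comp_mono P.f' P.i z).1 h3
  have hnhds : MoreMor.sectionComponents f₁ s₁ ∈ nhds (q₁ P.x') :=
    mem_interior_iff_mem_nhds.1 (subset_interior_sectionComponents f₁ s₁ (pullback.lift_snd _ _ _) hgood hx₁)
  have hnhds' : MoreMor.sectionComponents P.f' P.g' ∈ nhds P.x' := by
    rw [hbc]
    exact q₁.continuous.continuousAt.preimage_mem_nhds hnhds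
  rw [mem_interior_iff_mem_nhds, ← P.hx']
  exact Filter.mem_of_superset (P.j.isOpenEmbedding.isOpenMap.image_mem_nhds hnhds')
    (image_sectionComponents_subset f g P.f' P.g' P.hg' P.j P.i P.hw P.hgw)

theorem subset_interior_sectionComponents_flat [QuasiSeparatedSpace X] (g : Y ⟶ X) (hg : g ≫ f = 𝟙 Y) {y : Y}
    (h : ∀ x ∈ connectedComponentIn (f.base ⁻¹' {y}) (g.base y), GeomRedFlat5.E f x) :
    connectedComponentIn (f.base ⁻¹' {y}) (g.base y) ⊆ interior (MoreMor.sectionComponents f g) :=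
  subset_interior_of_qs f (fun _ _ => IsQuasiSeparated.of_quasiSeparatedSpace _) g hg h

theorem subset_interior_sectionComponents_fp [QuasiSeparated f] (g : Y ⟶ X) (hg : g ≫ f = 𝟙 Y) {y : Y}
    (h : ∀ x ∈ connectedComponentIn (f.base ⁻¹' {y}) (g.base y), GeomRedFlat5.E f x) :
    connectedComponentIn (f.base ⁻¹' {y}) (g.base y) ⊆ interior (MoreMor.sectionComponents f g) :=
  subset_interior_of_qs f (fun V hV => by
    haveI : IsAffine (V : Scheme.{u}) := hV
    haveI : QuasiSeparatedSpace ↥((f ⁻¹ᵁ V : X.Opens) : Scheme.{u}) := quasiSeparatedSpace_of_quasiSeparated (f ∣_ V)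
    exact (isQuasiSeparated_iff_quasiSeparatedSpace _ (f ⁻¹ᵁ V).isOpen).2
      (inferInstanceAs (QuasiSeparatedSpace ↥((f ⁻¹ᵁ V : X.Opens) : Scheme.{u})))) g hg h

end Groth.Agent.GeomLoci
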