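import Groth.Agent.GeomLoci.SectClopen
import Groth.Agent.ConsPropLib.Loci

/-!
# Constructibility of the section components and of the numbers of geometric components
-/

set_option autoImplicit false
set_option linter.style.haveILetI false
set_option linter.unusedSectionVars false
set_option backward.isDefEq.respectTransparency false

universe u

open AlgebraicGeometry CategoryTheory CategoryTheory.Limits Topology

namespace Groth.Agent.GeomLoci

variable {X Y : Scheme.{u}} (f : X ⟶ Y)

theorem isConstructible_counts [IsNoetherian Y] [LocallyOfFiniteType f] [QuasiCompact f] (n : ℕ∞) :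
    IsConstructible {y : Y | MoreMor.nGeomIrredComp f y = n} ∧
      IsConstructible {y : Y | MoreMor.nGeomConnComp f y = n} := by
  have key : ∀ (F : Y → ℕ∞), (∀ y, ∃ V : Set Y, IsOpen V ∧ y ∈ V ∧ ∀ y' ∈ closure {y} ∩ V, F y' = F y) →
      IsConstructible {y : Y | F y = n} := by
    intro F hF
    refine ConsPropLib.isConstructible_of_dichotomy _ fun T j _ _ _ => ?_
    obtain ⟨V, hV, hyV, h⟩ := hF (j (genericPoint ↥T))
    have hopen : IsOpen (j ⁻¹' V) := hV.preimage j.continuous
    have hmem : ∀ t ∈ j ⁻¹' V, F (j t) = F (j (genericPoint ↥T)) := fun t ht =>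
      h _ ⟨specializes_iff_mem_closure.1 ((genericPoint_specializes t).map j.continuous), ht⟩
    by_cases hn : F (j (genericPoint ↥T)) = n
    · exact Or.inl ⟨_, mem_interior.2 ⟨j ⁻¹' V, fun t ht => (hmem t ht).trans hn, hopen, hyV⟩⟩
    · exact Or.inr ⟨_, mem_interior.2 ⟨j ⁻¹' V, fun t ht h' => hn ((hmem t ht).symm.trans h'), hopen, hyV⟩⟩
  refine ⟨key _ fun y => ?_, key _ fun y => ?_⟩
  · obtain ⟨V, hV, hyV, h⟩ := exists_nGeom_eq_nhds f y
    exact ⟨V, hV, hyV, fun y' hy' => (h y' hy').1⟩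
  · obtain ⟨V, hV, hyV, h⟩ := exists_nGeom_eq_nhds f y
    exact ⟨V, hV, hyV, fun y' hy' => (h y' hy').2⟩

theorem isLocallyConstructible_counts [LocallyOfFinitePresentation f] [QuasiCompact f] [QuasiSeparated f]
    (n : ℕ∞) : IsLocallyConstructible {y : Y | MoreMor.nGeomIrredComp f y = n} ∧
      IsLocallyConstructible {y : Y | MoreMor.nGeomConnComp f y = n} := by
  have key : ∀ (V : Y.Opens), IsAffineOpen V →
      IsConstructible (V.ι ⁻¹' {y : Y | MoreMor.nGeomIrredComp f y = n}) ∧
        IsConstructible (V.ι ⁻¹' {y : Y | MoreMor.nGeomConnComp f y = n}) := by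
    intro V hV
    haveI : IsAffine (V : Scheme.{u}) := hV
    obtain ⟨S₀, X₀, _, π, u₀, _, qX, _, _, _, _, _, _, _, sqX, -⟩ :=
      ConsPropLib.exists_model_pair (pullback.snd f V.ι) (pullback.snd f V.ι)
    haveI : QuasiCompact π := quasiCompact_of_compactSpace π
    have h1 : ∀ v : (V : Scheme.{u}), MoreMor.nGeomIrredComp f (V.ι v) = MoreMor.nGeomIrredComp u₀ (π v) ∧
        MoreMor.nGeomConnComp f (V.ι v) = MoreMor.nGeomConnComp u₀ (π v) := fun v => by
      have h2 := Triage.GeomCount.nGeom_baseChange f _ _ V.ι (IsPullback.of_hasPullback f V.ι) v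
      have h3 := Triage.GeomCount.nGeom_baseChange u₀ _ qX π sqX v
      exact ⟨h2.1.symm.trans h3.1, h2.2.symm.trans h3.2⟩
    obtain ⟨hI, hC⟩ := isConstructible_counts u₀ n
    constructor
    · convert MorLib.LimCons.isConstructible_preimage π hI using 1
      exact Set.ext fun v => by simp only [Set.mem_preimage, Set.mem_ofPred_eq, (h1 v).1]
    · convert MorLib.LimCons.isConstructible_preimage π hC using 1
      exact Set.ext fun v => by simp only [Set.mem_preimage, Set.mem_ofPred_eq, (h1 v).2]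
  exact ⟨ConsPropLib.lc_of_affine fun V hV => (key V hV).1, ConsPropLib.lc_of_affine fun V hV => (key V hV).2⟩

theorem isConstructible_sectionComponents [IsNoetherian Y] [LocallyOfFiniteType f] [QuasiCompact f]
    (s : Y ⟶ X) (hs : s ≫ f = 𝟙 Y) : IsConstructible (MoreMor.sectionComponents f s) := by
  haveI : IsLocallyNoetherian X := LocallyOfFiniteType.isLocallyNoetherian f
  haveI : CompactSpace ↥X := QuasiCompact.compactSpace_of_compactSpace f
  haveI : IsNoetherian X := {}
  refine ConsPropLib.isConstructible_of_dichotomy _ fun T j _ _ _ => ?_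
  let ξ := genericPoint ↥T
  obtain ⟨V, hV, hyV, hclopen⟩ := exists_sectionComponents_clopen_nhds f s hs (f (j ξ))
  let O : Set ↥T := j ⁻¹' (f ⁻¹' V)
  have hO : IsOpen O := (hV.preimage f.continuous).preimage j.continuous
  have hξO : ξ ∈ O := hyV
  have hmem : ∀ t : O, j t ∈ f ⁻¹' (closure {f (j ξ)} ∩ V) := fun t =>
    ⟨specializes_iff_mem_closure.1 (((genericPoint_specializes (t : ↥T)).map j.continuous).map f.continuous), t.2⟩
  let r : O → ↑(f ⁻¹' (closure {f (j ξ)} ∩ V)) := fun t => ⟨j t, hmem t⟩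
  have hr : Continuous r := (j.continuous.comp continuous_subtype_val).subtype_mk _
  have hc := hclopen.preimage hr
  haveI : PreconnectedSpace O :=
    Subtype.preconnectedSpace (((irreducibleSpace_def _).1 inferInstance).isPreirreducible.open_subset hO
      (Set.subset_univ _)).isPreconnected
  rcases isClopen_iff.1 hc with h | h
  · refine Or.inr ⟨ξ, mem_interior.2 ⟨O, fun t ht hS => ?_, hO, hξO⟩⟩
    exact (Set.ext_iff.1 h ⟨t, ht⟩).1 hS
  · refine Or.inl ⟨ξ, mem_interior.2 ⟨O, fun t ht => ?_, hO, hξO⟩⟩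
    exact (Set.ext_iff.1 h ⟨t, ht⟩).2 trivial

theorem isLocallyConstructible_sectionComponents [LocallyOfFinitePresentation f] [QuasiCompact f]
    [QuasiSeparated f] (s : Y ⟶ X) (hs : s ≫ f = 𝟙 Y) :
    IsLocallyConstructible (MoreMor.sectionComponents f s) := by
  intro x
  obtain ⟨_, ⟨V, hV, rfl⟩, hxV, -⟩ :=
    Y.isBasis_affineOpens.exists_subset_of_mem_open (Set.mem_univ (f x)) isOpen_univ
  refine ⟨(f ⁻¹ᵁ V : X.Opens), (f ⁻¹ᵁ V).isOpen.mem_nhds hxV, (f ⁻¹ᵁ V).isOpen, ?_⟩
  haveI : IsAffine (V : Scheme.{u}) := hV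
  have hc := (isPullback_morphismRestrict f V).flip
  let fV := f ∣_ V
  let sV : (V : Scheme.{u}) ⟶ (f ⁻¹ᵁ V : X.Opens).toScheme := hc.lift (Scheme.Opens.ι V ≫ s) (𝟙 _)
    (by rw [Category.assoc, hs, Category.comp_id, Category.id_comp])
  have hsV : sV ≫ fV = 𝟙 _ := hc.lift_snd _ _ _
  haveI : QuasiCompact fV := MorphismProperty.of_isPullback hc inferInstance
  haveI : QuasiSeparated fV := MorphismProperty.of_isPullback hc inferInstance
  haveI : LocallyOfFinitePresentation fV := MorphismProperty.of_isPullback hc inferInstance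
  haveI : LocallyOfFinitePresentation (sV ≫ fV) := by rw [hsV]; infer_instance
  haveI : QuasiCompact (sV ≫ fV) := by rw [hsV]; infer_instance
  haveI : QuasiSeparated (sV ≫ fV) := by rw [hsV]; infer_instance
  obtain ⟨S₀, W, X₀, π, s₀, f₀, qW, qX, _, _, _, _, _, _, sqX, sqW⟩ := ConsPropLib.exists_model_mor sV fV
  haveI : IsLocallyNoetherian W := LocallyOfFiniteType.isLocallyNoetherian (s₀ ≫ f₀)
  haveI : CompactSpace ↥W := QuasiCompact.compactSpace_of_compactSpace (s₀ ≫ f₀)
  haveI : IsNoetherian W := {}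
  have hπ : qW ≫ s₀ ≫ f₀ = π := by
    rw [reassoc_of% sqW.w, sqX.w, reassoc_of% hsV]
  let f₁ := pullback.snd f₀ (s₀ ≫ f₀)
  let s₁ : W ⟶ pullback f₀ (s₀ ≫ f₀) := pullback.lift s₀ (𝟙 W) (Category.id_comp _).symm
  let q : (f ⁻¹ᵁ V : X.Opens).toScheme ⟶ pullback f₀ (s₀ ≫ f₀) := pullback.lift qX (fV ≫ qW)
    (by rw [Category.assoc, hπ, sqX.w])
  have hq : IsPullback q fV f₁ qW := by
    refine IsPullback.of_right ?_ (pullback.lift_snd _ _ _) (IsPullback.of_hasPullback f₀ (s₀ ≫ f₀))
    rw [hπ, pullback.lift_fst]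
    exact sqX
  have hbc₁ := S1324.result f₁ s₁ (pullback.lift_snd _ _ _) fV q qW hq sV hsV (by
    apply pullback.hom_ext
    · rw [Category.assoc, Category.assoc, pullback.lift_fst, pullback.lift_fst, sqW.w]
    · rw [Category.assoc, Category.assoc, pullback.lift_snd, pullback.lift_snd, reassoc_of% hsV,
        Category.comp_id])
  have hbc := S1324.result f s hs fV (f ⁻¹ᵁ V).ι (Scheme.Opens.ι V) hc sV hsV (hc.lift_fst _ _ _)
  haveI : CompactSpace ↥(f ⁻¹ᵁ V : X.Opens).toScheme := QuasiCompact.compactSpace_of_compactSpace fV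
  haveI : QuasiSeparatedSpace ↥(f ⁻¹ᵁ V : X.Opens).toScheme :=
    quasiSeparatedSpace_of_quasiSeparated fV
  haveI : IsLocallyNoetherian (pullback f₀ (s₀ ≫ f₀)) := LocallyOfFiniteType.isLocallyNoetherian f₁
  haveI : CompactSpace ↥(pullback f₀ (s₀ ≫ f₀)) := QuasiCompact.compactSpace_of_compactSpace f₁
  haveI : IsNoetherian (pullback f₀ (s₀ ≫ f₀)) := {}
  haveI : QuasiCompact q := quasiCompact_of_compactSpace q
  have h := MorLib.LimCons.isConstructible_preimage q
    (isConstructible_sectionComponents f₁ s₁ (pullback.lift_snd _ _ _))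
  rw [← hbc₁, hbc] at h
  exact h

end Groth.Agent.GeomLoci
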