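import Groth.Agent.GeomLoci.GenericCounts
import Groth.Agent.H23.LocNoethTop

/-!
# Counting connected components
-/

set_option autoImplicit false
set_option linter.style.haveILetI false
set_option backward.isDefEq.respectTransparency false

universe u

open AlgebraicGeometry CategoryTheory CategoryTheory.Limits Topology

namespace Groth.Agent.GeomLoci

section Top

variable {F T : Type u} [TopologicalSpace F] [TopologicalSpace T]

theorem card_connectedComponents_congr (e : F ≃ₜ T) :
    ENat.card (_root_.ConnectedComponents F) = ENat.card (_root_.ConnectedComponents T) :=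
  Triage.GeomCount.card_connectedComponents_eq e e.continuous e.surjective fun _ =>
    e.isPreconnected_preimage.2 isPreconnected_connectedComponent

theorem card_connectedComponents_le_of_surjective (p : F → T) (hc : Continuous p) (hs : Function.Surjective p) :
    ENat.card (_root_.ConnectedComponents T) ≤ ENat.card (_root_.ConnectedComponents F) := by
  refine ENat.card_le_card_of_injective (f := Function.surjInv (f := hc.connectedComponentsMap) ?_)
    (Function.injective_surjInv _)
  rintro ⟨y⟩
  obtain ⟨x, rfl⟩ := hs y
  exact ⟨⟦x⟧, rfl⟩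

theorem mk_eq_mk_of_specializes {a b : T} (h : a ⤳ b) :
    _root_.ConnectedComponents.mk a = _root_.ConnectedComponents.mk b := by
  symm
  refine ConnectedComponents.coe_eq_coe'.2 ?_
  exact h.mem_closed isClosed_connectedComponent mem_connectedComponent

/-- The fibres of a map invariant under specialization are clopen in a noetherian sober space. -/
theorem isClopen_fibre_of_specializes [TopologicalSpace.NoetherianSpace T] [QuasiSober T] {S : Type*} (ψ : T → S)
    (h : ∀ a b : T, a ⤳ b → ψ a = ψ b) (s : S) : IsClopen (ψ ⁻¹' {s}) := by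
  have key : ∀ P : Set T, (∀ a b : T, a ⤳ b → (a ∈ P ↔ b ∈ P)) → IsClosed P := by
    intro P hP
    have e : P = ⋃ c ∈ {c ∈ irreducibleComponents T | c ⊆ P}, c := by
      refine Set.Subset.antisymm (fun x hx => ?_) (Set.iUnion₂_subset fun c hc => hc.2)
      obtain ⟨c, hc, hxc⟩ := exists_mem_irreducibleComponents_subset_of_isIrreducible {x} isIrreducible_singleton
      obtain ⟨g, hg⟩ := QuasiSober.sober hc.1 (isClosed_of_mem_irreducibleComponents c hc)
      refine Set.mem_biUnion (show c ∈ _ from ⟨hc, fun y hy => ?_⟩) (hxc rfl)
      exact (hP g y (hg.specializes hy)).1 ((hP g x (hg.specializes (hxc rfl))).2 hx)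
    rw [e]
    exact (Set.Finite.subset TopologicalSpace.NoetherianSpace.finite_irreducibleComponents
      fun c hc => hc.1).isClosed_biUnion fun c hc => isClosed_of_mem_irreducibleComponents c hc.1
  refine ⟨key _ fun a b hab => ?_, isClosed_compl_iff.1 (key _ fun a b hab => ?_)⟩ <;>
    simp only [Set.mem_compl_iff, Set.mem_preimage, h a b hab]

/-- A dense-by-generization subspace has at least as many components. -/
theorem card_connectedComponents_le_subspace (U : Set T) (h : ∀ x, ∃ z ∈ U, z ⤳ x ∨ x ⤳ z) :
    ENat.card (_root_.ConnectedComponents T) ≤ ENat.card (_root_.ConnectedComponents U) := by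
  have hs : Function.Surjective (continuous_subtype_val (p := (· ∈ U))).connectedComponentsMap := by
    rintro ⟨x⟩
    obtain ⟨z, hz, hzx | hxz⟩ := h x
    · exact ⟨_root_.ConnectedComponents.mk ⟨z, hz⟩, mk_eq_mk_of_specializes hzx⟩
    · exact ⟨_root_.ConnectedComponents.mk ⟨z, hz⟩, (mk_eq_mk_of_specializes hxz).symm⟩
  exact ENat.card_le_card_of_injective (Function.injective_surjInv hs)

/-- In a noetherian space, if no two clopen parts of a generization-dense subspace have closures
meeting, the subspace has at most as many components as the whole space. -/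
theorem card_connectedComponents_subspace_le [TopologicalSpace.NoetherianSpace T] [QuasiSober T] (U : Set T)
    (h : ∀ x, ∃ z ∈ U, z ⤳ x)
    (hcon : ∀ x z₁ z₂, ∀ h₁ : z₁ ∈ U, ∀ h₂ : z₂ ∈ U, z₁ ⤳ x → z₂ ⤳ x →
      _root_.ConnectedComponents.mk (⟨z₁, h₁⟩ : U) = _root_.ConnectedComponents.mk ⟨z₂, h₂⟩) :
    ENat.card (_root_.ConnectedComponents U) ≤ ENat.card (_root_.ConnectedComponents T) := by
  classical
  choose z hzU hz using h
  let ψ : T → _root_.ConnectedComponents U := fun x => _root_.ConnectedComponents.mk ⟨z x, hzU x⟩
  have hψU : ∀ u : U, ψ u.1 = _root_.ConnectedComponents.mk u := fun u =>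
    hcon u.1 _ _ _ u.2 (hz u.1) (specializes_refl _)
  have hψ : ∀ a b : T, a ⤳ b → ψ a = ψ b := fun a b hab => hcon b _ _ _ _ ((hz a).trans hab) (hz b)
  have hconst : ∀ a b : T, b ∈ connectedComponent a → ψ b = ψ a := fun a b hb =>
    (isClopen_fibre_of_specializes ψ hψ (ψ a)).connectedComponent_subset (show a ∈ ψ ⁻¹' {ψ a} from rfl) hb
  refine ENat.card_le_card_of_injective (f := (continuous_subtype_val (p := (· ∈ U))).connectedComponentsMap) ?_
  rintro ⟨a⟩ ⟨b⟩ hab
  have h1 := ConnectedComponents.coe_eq_coe'.1 hab.symm
  exact ((hψU a).symm.trans ((hconst _ _ h1).symm)).trans (hψU b)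

end Top

end Groth.Agent.GeomLoci

namespace Groth.Agent.GeomLoci

theorem finite_connectedComponents (T : Type u) [TopologicalSpace T] [TopologicalSpace.NoetherianSpace T] :
    Finite (_root_.ConnectedComponents T) := by
  haveI : Finite (irreducibleComponents T) := TopologicalSpace.NoetherianSpace.finite_irreducibleComponents.to_subtype
  refine Finite.of_surjective
    (fun Z : irreducibleComponents T => _root_.ConnectedComponents.mk Z.2.1.1.choose) ?_
  rintro ⟨x⟩
  refine ⟨⟨irreducibleComponent x, irreducibleComponent_mem_irreducibleComponents x⟩, ?_⟩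
  refine ConnectedComponents.coe_eq_coe'.2 ?_
  exact (isIrreducible_irreducibleComponent.isPreirreducible.isPreconnected).subset_connectedComponent
    mem_irreducibleComponent (irreducibleComponent_mem_irreducibleComponents x).1.1.choose_spec

/-- The geometric number of connected components is finite. -/
theorem nGeomConnComp_ne_top {X Y : Scheme.{u}} (f : X ⟶ Y) [LocallyOfFiniteType f] [QuasiCompact f] (y : Y) :
    MoreMor.nGeomConnComp f y ≠ ⊤ := by
  let Ω := SeparableClosure (Y.residueField y)
  let g := pullback.snd (f.fiberToSpecResidueField y)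
    (Spec.map (CommRingCat.ofHom (algebraMap (Y.residueField y) Ω)))
  haveI : LocallyOfFiniteType (f.fiberToSpecResidueField y) := by
    unfold Scheme.Hom.fiberToSpecResidueField; infer_instance
  haveI : QuasiCompact (f.fiberToSpecResidueField y) := by
    unfold Scheme.Hom.fiberToSpecResidueField; infer_instance
  haveI : LocallyOfFiniteType g := MorphismProperty.pullback_snd _ _ inferInstance
  haveI : QuasiCompact g := MorphismProperty.pullback_snd _ _ inferInstance
  haveI : IsLocallyNoetherian (MoreMor.geomFiber f y) := LocallyOfFiniteType.isLocallyNoetherian g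
  haveI : CompactSpace ↥(MoreMor.geomFiber f y) := QuasiCompact.compactSpace_of_compactSpace g
  haveI : IsNoetherian (MoreMor.geomFiber f y) := { }
  haveI := finite_connectedComponents ↥(MoreMor.geomFiber f y)
  exact (ENat.card_lt_top_of_finite (α := _root_.ConnectedComponents ↥(MoreMor.geomFiber f y))).ne

end Groth.Agent.GeomLoci
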