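import Groth.Agent.GeomLoci.Components
import Groth.Agent.Triage.GeomCount
import Groth.Agent.UnivOpen.UnibranchAlg

/-!
# The numbers of geometric components are constant near a generic point
-/

set_option autoImplicit false
set_option linter.style.haveILetI false
set_option linter.unusedSectionVars false
set_option backward.isDefEq.respectTransparency false

universe u

open AlgebraicGeometry CategoryTheory CategoryTheory.Limits Topology

namespace Groth.Agent.GeomLoci

/-- The numbers of components of `Z` do not change under an extension of a separably closed field. -/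
theorem counts_of_sepClosed_ext {Z : Scheme.{u}} {L Ω : Type u} [Field L] [IsSepClosed L] [Field Ω]
    (p : Z ⟶ Spec (CommRingCat.of L)) (m : Spec (CommRingCat.of Ω) ⟶ Spec (CommRingCat.of L)) :
    (irreducibleComponents ↥(pullback p m)).encard = (irreducibleComponents ↥Z).encard ∧
      ENat.card (_root_.ConnectedComponents ↥(pullback p m)) = ENat.card (_root_.ConnectedComponents ↥Z) := by
  obtain ⟨φ, rfl⟩ := Spec.map_surjective m
  letI : Algebra L Ω := φ.hom.toAlgebra
  have hφ : Spec.map φ = Spec.map (CommRingCat.ofHom (algebraMap L Ω)) := rfl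
  haveI : GeometricallyIrreducible (Spec.map φ) := hφ ▸
    GeomConn5.geometricallyIrreducible_spec_field L Ω fun x hx => Triage.GeomCount.range_of_sepClosed L Ω x hx
  haveI : GeometricallyConnected (Spec.map φ) := hφ ▸
    GeomConn5.geometricallyConnected_spec_field L Ω fun x hx => Triage.GeomCount.range_of_sepClosed L Ω x hx
  haveI : UniversallyOpen (Spec.map φ) := VarGeom.universallyOpen_of_field _
  let q := pullback.fst p (Spec.map φ)
  refine ⟨?_, Triage.GeomCount.card_connectedComponents_eq q q.continuous q.surjective fun z =>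
    (q.isConnected_preimage q.isOpenMap isConnected_connectedComponent isClosed_connectedComponent).isPreconnected⟩
  exact (Set.encard_congr (irreducibleComponentsEquivOfIsPreirreducibleFiber q q.continuous q.isOpenMap
    (fun z => (q.isIrreducible_preimage q.isOpenMap isIrreducible_singleton).isPreirreducible)
    q.surjective).toEquiv).symm

/-- The geometric numbers of components at the image of a separably closed point. -/
theorem nGeom_eq_counts {X Y : Scheme.{u}} (f : X ⟶ Y) {L : Type u} [Field L] [IsSepClosed L]
    (s : Spec (CommRingCat.of L) ⟶ Y) (z : Spec (CommRingCat.of L)) :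
    MoreMor.nGeomIrredComp f (s z) = (irreducibleComponents ↥(pullback f s)).encard ∧
      MoreMor.nGeomConnComp f (s z) = ENat.card (_root_.ConnectedComponents ↥(pullback f s)) := by
  let k := (Spec (CommRingCat.of L)).residueField z
  let Ω := SeparableClosure k
  let b : Spec (CommRingCat.of Ω) ⟶ Spec ((Spec (CommRingCat.of L)).residueField z) :=
    Spec.map (CommRingCat.ofHom (algebraMap k Ω))
  let f' := pullback.snd f s
  have hc := Triage.GeomCount.nGeom_baseChange f f' (pullback.fst f s) s (IsPullback.of_hasPullback f s) z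
  let hsq : IsPullback (pullback.fst (f'.fiberToSpecResidueField z) b ≫ f'.fiberι z)
      (pullback.snd (f'.fiberToSpecResidueField z) b) f' (b ≫ (Spec (CommRingCat.of L)).fromSpecResidueField z) :=
    (IsPullback.of_hasPullback (f'.fiberToSpecResidueField z) b).paste_horiz
      (IsPullback.of_hasPullback f' ((Spec (CommRingCat.of L)).fromSpecResidueField z))
  have h := counts_of_sepClosed_ext f' (b ≫ (Spec (CommRingCat.of L)).fromSpecResidueField z)
  let H := hsq.isoPullback.hom.homeomorph
  refine ⟨?_, ?_⟩
  · rw [← hc.1, ← h.1]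
    exact (Set.encard_congr (irreducibleComponentsEquivOfIsPreirreducibleFiber H H.continuous H.isOpenMap
      (fun z => Set.Subsingleton.isPreirreducible ((Set.subsingleton_singleton).preimage H.injective))
      H.surjective).toEquiv).symm
  · rw [← hc.2, ← h.2]
    exact Triage.GeomCount.card_connectedComponents_eq H H.continuous H.surjective fun z =>
      H.isPreconnected_preimage.2 isPreconnected_connectedComponent

/-- Over a domain, the geometric numbers of components are constant near the generic point. -/
theorem exists_nGeom_eq {A : Type u} [CommRing A] [IsDomain A] {X : Scheme.{u}}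
    (f : X ⟶ Spec (CommRingCat.of A)) [LocallyOfFiniteType f] [QuasiCompact f] :
    ∃ a : A, a ≠ 0 ∧ ∀ y : Spec (CommRingCat.of A), a ∉ y.asIdeal →
      MoreMor.nGeomIrredComp f y = MoreMor.nGeomIrredComp f ⟨⊥, Ideal.isPrime_bot⟩ ∧
        MoreMor.nGeomConnComp f y = MoreMor.nGeomConnComp f ⟨⊥, Ideal.isPrime_bot⟩ := by
  let F := FractionRing A
  let K := AlgebraicClosure F
  haveI : Algebra.IsAlgebraic A F := IsLocalization.isAlgebraic F (nonZeroDivisors A)
  haveI : Algebra.IsAlgebraic A K := Algebra.IsAlgebraic.trans A F K
  have hinj : Function.Injective (algebraMap A K) := by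
    rw [IsScalarTower.algebraMap_eq A F K]
    exact (algebraMap F K).injective.comp (IsFractionRing.injective A F)
  let Ā := integralClosure A K
  haveI : IsFractionRing Ā K :=
    integralClosure.isFractionRing_of_algebraic fun x hx => hinj (by rw [hx, map_zero])
  haveI : Algebra.IsIntegral A Ā := ⟨fun x => integralClosure.isIntegral x⟩
  let π : Spec (CommRingCat.of Ā) ⟶ Spec (CommRingCat.of A) := Spec.map (CommRingCat.ofHom (algebraMap A Ā))
  let f' := pullback.snd f π
  obtain ⟨g, hg, hspread⟩ := spreadsOut_counts (A := Ā) K f'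
  have hne : (Ideal.span {g}).comap (algebraMap A Ā) ≠ ⊥ :=
    Ideal.comap_ne_bot_of_integral_mem hg (Ideal.mem_span_singleton_self g) (Algebra.IsIntegral.isIntegral g)
  obtain ⟨a, ha, ha0⟩ := Submodule.exists_mem_ne_zero_of_ne_bot hne
  refine ⟨a, ha0, ?_⟩
  -- the counts at a point do not see the extension of the base
  have hcount : ∀ (L : Type u) [Field L] [IsSepClosed L] [Algebra A L] [Algebra Ā L] [IsScalarTower A Ā L]
      (y : Spec (CommRingCat.of A)), y.asIdeal = RingHom.ker (algebraMap A L) →
      MoreMor.nGeomIrredComp f y = (irreducibleComponents ↥(pullback f' (geomPt Ā L))).encard ∧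
      MoreMor.nGeomConnComp f y = ENat.card (_root_.ConnectedComponents ↥(pullback f' (geomPt Ā L))) := by
    intro L _ _ _ _ _ y hy
    let z : Spec (CommRingCat.of L) := ⟨⊥, Ideal.isPrime_bot⟩
    have hyz : π (geomPt Ā L z) = y := by
      refine PrimeSpectrum.ext ?_
      show Ideal.comap (algebraMap A Ā) (Ideal.comap (algebraMap Ā L) (⊥ : Ideal L)) = y.asIdeal
      rw [Ideal.comap_comap, ← IsScalarTower.algebraMap_eq, hy]
      rfl
    have h1 := Triage.GeomCount.nGeom_baseChange f f' (pullback.fst f π) π (IsPullback.of_hasPullback f π)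
      (geomPt Ā L z)
    have h2 := nGeom_eq_counts f' (geomPt Ā L) z
    rw [hyz] at h1
    exact ⟨h1.1.symm.trans h2.1, h1.2.symm.trans h2.2⟩
  have hgen := hcount K ⟨⊥, Ideal.isPrime_bot⟩ ((RingHom.injective_iff_ker_eq_bot _).1 hinj).symm
  intro y hy
  let L := AlgebraicClosure y.asIdeal.ResidueField
  let φ : A →+* L := (algebraMap y.asIdeal.ResidueField L).comp (algebraMap A y.asIdeal.ResidueField)
  have hker : RingHom.ker φ = y.asIdeal := by
    rw [RingHom.ker_comp_of_injective _ (algebraMap y.asIdeal.ResidueField L).injective]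
    exact Ideal.ker_algebraMap_residueField _
  have hφ : algebraMap A L = φ := IsScalarTower.algebraMap_eq A y.asIdeal.ResidueField L
  obtain ⟨q, hq, hqy⟩ := Ideal.exists_ideal_over_prime_of_isIntegral_of_isDomain (S := Ā) y.asIdeal
    (by rw [(RingHom.injective_iff_ker_eq_bot _).1 (fun x y h => hinj (congrArg Subtype.val h) : Function.Injective (algebraMap A Ā))]; exact bot_le)
  haveI := hq
  obtain ⟨ψ, hψ, -⟩ := UnivOpen.exists_lift_of_integral φ q (hqy.trans hker.symm)
  letI : Algebra Ā L := ψ.toAlgebra
  haveI : IsScalarTower A Ā L := IsScalarTower.of_algebraMap_eq fun r =>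
    (RingHom.congr_fun hφ r).trans (hψ r).symm
  have hgL : algebraMap Ā L g ≠ 0 := fun h0 => by
    obtain ⟨c, hc⟩ := Ideal.mem_span_singleton'.1 ha
    refine hy ?_
    rw [← hker, RingHom.mem_ker, ← hψ, ← hc, map_mul, show ψ g = 0 from h0, mul_zero]
  have hy' := hcount L y (by rw [hφ]; exact hker.symm)
  obtain ⟨hI, hC⟩ := hspread L hgL
  exact ⟨by rw [hy'.1, hI, ← hgen.1], by rw [hy'.2, hC, ← hgen.2]⟩

end Groth.Agent.GeomLoci
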