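import Groth.Agent.GeomLoci.SectNhd
import Groth.Agent.GeomRedFlat5.Nhd
import Groth.Agent.UnivOpen.SectionUnivOpen

/-!
# Geometrically irreducible section components of constant dimension (EGA IV 15.6.6)
-/

set_option autoImplicit false
set_option linter.style.haveILetI false
set_option linter.unusedSectionVars false
set_option backward.isDefEq.respectTransparency false
set_option backward.isDefEq.respectTransparency.types false

open AlgebraicGeometry CategoryTheory Limits Topology IsLocalRing Groth.Agent.UnivOpen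

universe u

namespace Groth.Agent.GeomLoci

variable {X Y : Scheme.{u}} (f : X ⟶ Y)

theorem exists_dominating_mem [LocallyOfFiniteType f] {g : Y ⟶ X} (hg : g ≫ f = 𝟙 Y)
    (hgi : ∀ (y : Y) (K : Type u) [Field K] [Algebra (IsLocalRing.ResidueField (Y.presheaf.stalk y)) K],
      IsIrreducible ((FBase.bcπ (f.fiberToSpecResidueField y) K ≫ f.fiberι y).base ⁻¹' (connectedComponentIn (f.base ⁻¹' {y}) (g.base y))))
    (hirr : ∀ y : Y, IsIrreducible (connectedComponentIn (f.base ⁻¹' {y}) (g.base y)))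
    {Y' : Scheme.{u}} (τ : Y' ⟶ Y) {c t : Y'} (htc : t ⤳ c) {ξ : X}
    (hfξ : f ξ = τ c) (hξ : ξ ∈ connectedComponentIn (f.base ⁻¹' {τ c}) (g.base (τ c)))
    (hξm : FibDim.FibMax f ξ)
    (hle : topologicalKrullDim ↥(connectedComponentIn (f.base ⁻¹' {τ c}) (g.base (τ c))) ≤
      topologicalKrullDim ↥(connectedComponentIn (f.base ⁻¹' {τ t}) (g.base (τ t))))
    (x' : ↥(pullback f τ)) (hx' : pullback.fst f τ x' ∈ connectedComponentIn (f.base ⁻¹' {τ c}) (g.base (τ c)))
    (hxc : pullback.snd f τ x' = c) :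
    ∃ z', z' ⤳ x' ∧ pullback.snd f τ z' = t ∧
      pullback.fst f τ z' ∈ connectedComponentIn (f.base ⁻¹' {τ t}) (g.base (τ t)) := by
  obtain ⟨ζ, hfζ, hζg, hζm, hζC, hζv, hdc⟩ := exists_component_generic f (apply_section hg (τ c)) (hirr _)
  obtain rfl : ζ = ξ := hξm ζ (specializes_iff_mem_closure.2 (hζC ▸ hξ).1) (hfζ.trans hfξ.symm)
  obtain ⟨ξ₁, hfξ₁, hξ₁g, -, -, -, hdt⟩ := exists_component_generic f (apply_section hg (τ t)) (hirr _)
  rw [dim_component f (apply_section hg _) (hirr _), dim_component f (apply_section hg _) (hirr _), hdc, hdt] at hle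
  have hle' : FibDim.rd f ζ ≤ FibDim.rd f ξ₁ := by exact_mod_cast hle
  -- the generic point of the points over `C` and `c`
  have hS := isIrreducible_preimage_over f τ c rfl _ (connectedComponentIn_subset _ _) (hgi (τ c))
  let S := {v : ↥(pullback f τ) | pullback.snd f τ v = c ∧
    pullback.fst f τ v ∈ connectedComponentIn (f.base ⁻¹' {τ c}) (g.base (τ c))}
  let ω := hS.genericPoint
  have hω : IsGenericPoint ω (closure S) := hS.isGenericPoint_genericPoint_closure
  -- the section of the base change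
  let g' : Y' ⟶ pullback f τ := pullback.lift (τ ≫ g) (𝟙 Y') (by rw [Category.assoc, hg, Category.comp_id, Category.id_comp])
  have hg' : g' ≫ pullback.snd f τ = 𝟙 Y' := pullback.lift_snd _ _ _
  have hg'₁ : g' ≫ pullback.fst f τ = τ ≫ g := pullback.lift_fst _ _ _
  haveI : LocallyOfFiniteType (pullback.snd f τ) := inferInstance
  -- a top point over the generic fibre
  have hgt : pullback.fst f τ (g' t) = g (τ t) := by rw [← Scheme.Hom.comp_apply, hg'₁]; rfl
  have hS₁ := isIrreducible_preimage_over f τ t rfl _ (connectedComponentIn_subset _ _) (hgi (τ t))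
  obtain ⟨v₁, hv₁p, hv₁q, hv₁r⟩ := FibDim.exists_rd_baseChange_eq (IsPullback.of_hasPullback f τ) ξ₁ t hfξ₁
  let S₁ := {v : ↥(pullback f τ) | pullback.snd f τ v = t ∧
    pullback.fst f τ v ∈ connectedComponentIn (f.base ⁻¹' {τ t}) (g.base (τ t))}
  let ω₁ := hS₁.genericPoint
  have hω₁ : IsGenericPoint ω₁ (closure S₁) := hS₁.isGenericPoint_genericPoint_closure
  have hqω₁ : pullback.snd f τ ω₁ = t := by
    have hmem : g' t ∈ S₁ := ⟨apply_section hg' t, by rw [hgt]; exact mem_connectedComponentIn (apply_section hg _)⟩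
    have h1 : pullback.snd f τ ω₁ ⤳ t :=
      ((hω₁.specializes (subset_closure hmem)).map (pullback.snd f τ).continuous).trans (specializes_of_eq (apply_section hg' t))
    have h2 : t ⤳ pullback.snd f τ ω₁ := by
      rw [specializes_iff_mem_closure]
      refine closure_mono ?_ (image_closure_subset_closure_image (pullback.snd f τ).continuous ⟨ω₁, hω₁.mem, rfl⟩)
      exact Set.image_subset_iff.2 fun v hv => hv.1
    exact (h1.antisymm h2).eq
  have hmem₁ : g' t ∈ S₁ := ⟨apply_section hg' t, by rw [hgt]; exact mem_connectedComponentIn (apply_section hg _)⟩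
  have hξ₁C : ξ₁ ∈ connectedComponentIn (f.base ⁻¹' {τ t}) (g.base (τ t)) := by
    obtain ⟨ζ₁, hfζ₁, -, hζ₁m, hζ₁C, hζ₁v, -⟩ := exists_component_generic f (apply_section hg (τ t)) (hirr _)
    rw [hζ₁C]
    exact ⟨specializes_iff_mem_closure.1 (hζ₁v ξ₁ hfξ₁ hξ₁g), hfξ₁⟩
  have hr₁ : FibDim.rd (pullback.snd f τ) v₁ ≤ FibDim.rd (pullback.snd f τ) ω₁ :=
    FibDim.rd_le_of_specializes _ (hω₁.specializes (subset_closure ⟨hv₁q, hv₁p ▸ hξ₁C⟩)) (hqω₁.trans hv₁q.symm)
  have hω₁C : pullback.fst f τ ω₁ ∈ connectedComponentIn (f.base ⁻¹' {τ t}) (g.base (τ t)) := by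
    have hfp : f (pullback.fst f τ ω₁) = τ t := by
      rw [← Scheme.Hom.comp_apply, pullback.condition, Scheme.Hom.comp_apply, hqω₁]
    refine SectComp.mem_component_of_specializes hfp (mem_connectedComponentIn (apply_section hg _)) ?_
    rw [← hgt]
    exact (hω₁.specializes (subset_closure hmem₁)).map (pullback.fst f τ).continuous
  obtain ⟨z, hωz, hzg, hqz, hrz⟩ := FibDim.exists_rd_ge (pullback.snd f τ)
    ((hω₁.specializes (subset_closure hmem₁)).trans (htc.map g'.continuous))
  rw [apply_section hg'] at hqz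
  have hzS : z ∈ S := by
    refine ⟨hqz, ?_⟩
    rw [hζC]
    have hfz : f (pullback.fst f τ z) = τ c := by
      rw [← Scheme.Hom.comp_apply, pullback.condition, Scheme.Hom.comp_apply, hqz]
    have h1 : pullback.fst f τ z ⤳ g (τ c) := by
      have := hzg.map (pullback.fst f τ).continuous
      rwa [← Scheme.Hom.comp_apply g', hg'₁] at this
    exact ⟨specializes_iff_mem_closure.1 (hζv _ hfz h1), hfz⟩
  have hqω : pullback.snd f τ ω = c := by
    have h1 : pullback.snd f τ ω ⤳ c :=
      ((hω.specializes (subset_closure hzS)).map (pullback.snd f τ).continuous).trans (specializes_of_eq hqz)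
    have h2 : c ⤳ pullback.snd f τ ω := by
      rw [specializes_iff_mem_closure]
      refine closure_mono ?_ (image_closure_subset_closure_image (pullback.snd f τ).continuous ⟨ω, hω.mem, rfl⟩)
      exact Set.image_subset_iff.2 fun v hv => hv.1
    exact (h1.antisymm h2).eq
  have hrω : FibDim.rd (pullback.snd f τ) ω ≤ FibDim.rd f ζ := by
    refine (FibDim.rd_baseChange_le (IsPullback.of_hasPullback f τ) ω).trans ?_
    have hpω : pullback.fst f τ ω ⤳ g (τ c) := by
      have := ((hω.specializes (subset_closure hzS)).trans hzg).map (pullback.fst f τ).continuous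
      rwa [← Scheme.Hom.comp_apply g', hg'₁] at this
    have hfp : f (pullback.fst f τ ω) = τ c := by
      rw [← Scheme.Hom.comp_apply, pullback.condition, Scheme.Hom.comp_apply, hqω]
    exact FibDim.rd_le_of_specializes f (hζv _ hfp hpω) (hfξ.trans hfp.symm)
  have hzω : z = ω := by
    by_contra hne
    have := FibDim.rd_lt (pullback.snd f τ) (hω.specializes (subset_closure hzS)) (Ne.symm hne) (hqω.trans hqz.symm)
    omega
  exact ⟨ω₁, hωz.trans (specializes_of_eq hzω |>.trans (hω.specializes (subset_closure ⟨hxc, hx'⟩))), hqω₁, hω₁C⟩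


theorem mem_sectionComponents_of_generization_irred [IsLocallyNoetherian Y] [LocallyOfFiniteType f] (g : Y ⟶ X)
    (hg : g ≫ f = 𝟙 Y)
    (hgi : ∀ (y : Y) (K : Type u) [Field K] [Algebra (IsLocalRing.ResidueField (Y.presheaf.stalk y)) K],
      IsIrreducible ((FBase.bcπ (f.fiberToSpecResidueField y) K ≫ f.fiberι y).base ⁻¹' (connectedComponentIn (f.base ⁻¹' {y}) (g.base y))))
    {y : Y} (hd : ∀ y', y' ⤳ y → topologicalKrullDim ↥(connectedComponentIn (f.base ⁻¹' {y}) (g.base y)) ≤
      topologicalKrullDim ↥(connectedComponentIn (f.base ⁻¹' {y'}) (g.base y')))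
    {x x' : X} (hx : x ∈ connectedComponentIn (f.base ⁻¹' {y}) (g.base y)) (hred : GeomRedFlat5.E f x)
    (hxx : x' ⤳ x) : x' ∈ MoreMor.sectionComponents f g := by
  have hfx : f x = y := connectedComponentIn_subset (f.base ⁻¹' {y}) (g.base y) hx
  by_cases hy : f x' = y
  · show x' ∈ connectedComponentIn (f ⁻¹' {f x'}) (g (f x'))
    rw [hy]
    exact SectComp.mem_component_of_specializes (f := f) (g := g) hy hx hxx
  have hne : x ≠ x' := fun e => hy (e ▸ hfx)
  have hirr := irreducible_of_geomIrreducible f hgi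
  haveI : IsLocallyNoetherian X := LocallyOfFiniteType.isLocallyNoetherian f
  obtain ⟨A, _, _, _, σ, hσc, hση⟩ := UnivOpen.exists_dvr_lift (Y := X) hxx hne
  let c : Spec (CommRingCat.of A) := closedPoint A
  let η : Spec (CommRingCat.of A) := (⟨⊥, Ideal.isPrime_bot⟩ : PrimeSpectrum A)
  have hηne : η ≠ c := fun h => IsDiscreteValuationRing.not_a_field A (congrArg PrimeSpectrum.asIdeal h).symm
  have hcases : ∀ t : Spec (CommRingCat.of A), t ≠ c → t = η := fun t ht => by
    refine PrimeSpectrum.ext ?_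
    by_contra h
    exact ht (PrimeSpectrum.ext (IsLocalRing.eq_maximalIdeal ((t : PrimeSpectrum A).isPrime.isMaximal h)))
  have hηc : η ⤳ c := (PrimeSpectrum.le_iff_specializes
    (⟨⊥, Ideal.isPrime_bot⟩ : PrimeSpectrum A) (closedPoint A : PrimeSpectrum A)).1 bot_le
  let τ := σ ≫ f
  have hτc : τ c = y := by rw [Scheme.Hom.comp_apply, hσc, hfx]
  have hτη : τ η = f x' := by rw [Scheme.Hom.comp_apply, hση η hηne]
  let q := pullback.snd f τ
  let p := pullback.fst f τ
  let σ' : Spec (CommRingCat.of A) ⟶ pullback f τ := pullback.lift σ (𝟙 _) (Category.id_comp _).symm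
  have hpσ : ∀ t, p (σ' t) = σ t := fun t => by rw [← Scheme.Hom.comp_apply, pullback.lift_fst]
  have hqσ : ∀ t, q (σ' t) = t := fun t => by rw [← Scheme.Hom.comp_apply, pullback.lift_snd]; rfl
  obtain ⟨ξ, hfξ, hξg, hξm, hC, hξv, -⟩ := exists_component_generic f (apply_section hg (τ c)) (hirr (τ c))
  have hxC : p (σ' c) ∈ connectedComponentIn (f.base ⁻¹' {τ c}) (g.base (τ c)) := by
    rw [hpσ, hσc, hτc]; exact hx
  obtain ⟨z, hz, hqz, hzC⟩ := exists_dominating_mem f hg hgi hirr τ hηc hfξ
    (by rw [hC]; exact ⟨subset_closure rfl, hfξ⟩) hξm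
    (by rw [hτc]; exact hd _ ((hηc.map τ.continuous).trans (specializes_of_eq hτc))) (σ' c) hxC (hqσ c)
  obtain ⟨w, hw⟩ : σ' c ∈ Set.range (q.fiberι c) := by rw [Scheme.Hom.range_fiberι]; exact hqσ c
  have hopen : ∀ v, v ⤳ q.fiberι c w → q v = q (q.fiberι c w) → FibDim.FibMax q v → EGA43.IsOpenAt q.base v := by
    intro v hv hqv _
    rw [hw] at hv hqv
    rw [hqσ] at hqv
    have hfv : f (p v) = τ c := by rw [← Scheme.Hom.comp_apply, pullback.condition, Scheme.Hom.comp_apply, hqv]
    have hvC : p v ∈ connectedComponentIn (f.base ⁻¹' {τ c}) (g.base (τ c)) :=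
      SectComp.mem_component_of_specializes (f := f) (g := g) hfv hxC (hv.map p.continuous)
    rw [hτc] at hvC
    exact isUnivOpenAt_sectionComponent f hg hgi hd hvC _ τ v rfl
  have hwred : _root_.IsReduced ((q.fiber c).presheaf.stalk w) :=
    UnivOpen.isReduced_fibre_baseChange f τ (hτc.trans hfx.symm) _ hred w
      (by rw [hw, hpσ, hσc, Scheme.Hom.fiberι_asFiber])
  obtain ⟨T, ⟨hT, hTc⟩, hzT, hσT⟩ := FlatDvr.exists_preconnected_generic q rfl w hopen hwred
    (hw ▸ hz) (hw ▸ hηc.map σ'.continuous) (fun h => hηne (hqz.symm.trans h))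
    (fun h => hηne ((hqσ η).symm.trans h))
  show x' ∈ connectedComponentIn (f ⁻¹' {f x'}) (g (f x'))
  rw [← hτη, connectedComponentIn_eq hzC]
  refine (hT.image p p.continuous.continuousOn).subset_connectedComponentIn ⟨z, hzT, rfl⟩ ?_
    ⟨σ' η, hσT, (hpσ η).trans (hση η hηne)⟩
  rintro _ ⟨v, hv, rfl⟩
  show f (p v) = τ η
  rw [← Scheme.Hom.comp_apply, pullback.condition, Scheme.Hom.comp_apply, hcases _ (hTc v hv)]

/-- On a piece, the section components are the trace of the section components. -/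
theorem preimage_sectionComponents_piece [LocallyOfFiniteType f] {X' Y' : Scheme.{u}} (f' : X' ⟶ Y') (g' : Y' ⟶ X') (hg' : g' ≫ f' = 𝟙 Y')
    (g : Y ⟶ X) (hirr : ∀ y : Y, IsIrreducible (connectedComponentIn (f.base ⁻¹' {y}) (g.base y)))
    (j : X' ⟶ X) [IsOpenImmersion j] (i : Y' ⟶ Y) [IsOpenImmersion i] (hw : f' ≫ i = j ≫ f) (hgw : g' ≫ j = i ≫ g) :
    j ⁻¹' MoreMor.sectionComponents f g = MoreMor.sectionComponents f' g' := by
  refine Set.Subset.antisymm (fun v hv => ?_)
    (fun v hv => image_sectionComponents_subset f g f' g' hg' j i hw hgw ⟨v, hv, rfl⟩)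
  have hfj : ∀ w, f (j w) = i (f' w) := fun w => by rw [← Scheme.Hom.comp_apply, ← hw, Scheme.Hom.comp_apply]
  change j v ∈ connectedComponentIn (f ⁻¹' {f (j v)}) (g (f (j v))) at hv
  rw [hfj] at hv
  have hgj : j (g' (f' v)) = g (i (f' v)) := by rw [← Scheme.Hom.comp_apply, hgw, Scheme.Hom.comp_apply]
  have hpre : _root_.IsPreconnected (j ⁻¹' connectedComponentIn (f ⁻¹' {i (f' v)}) (g (i (f' v)))) :=
    ((hirr (i (f' v))).2.preimage j.isOpenEmbedding).isPreconnected
  refine hpre.subset_connectedComponentIn ?_ (fun w hw' => ?_) hv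
  · show j (g' (f' v)) ∈ connectedComponentIn (f ⁻¹' {i (f' v)}) (g (i (f' v)))
    rw [hgj]
    refine mem_connectedComponentIn ?_
    show f (g (i (f' v))) = i (f' v)
    rw [← hgj, hfj, ← Scheme.Hom.comp_apply g', hg']
    rfl
  · refine i.isOpenEmbedding.injective ?_
    rw [← hfj]
    exact connectedComponentIn_subset (f ⁻¹' {i (f' v)}) (g (i (f' v))) hw'

/-- EGA IV 15.6.6, over a locally noetherian base. -/
theorem mem_interior_sectionComponents_irred [IsLocallyNoetherian Y] [LocallyOfFiniteType f] (g : Y ⟶ X)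
    (hg : g ≫ f = 𝟙 Y)
    (hgi : ∀ (y : Y) (K : Type u) [Field K] [Algebra (IsLocalRing.ResidueField (Y.presheaf.stalk y)) K],
      IsIrreducible ((FBase.bcπ (f.fiberToSpecResidueField y) K ≫ f.fiberι y).base ⁻¹' (connectedComponentIn (f.base ⁻¹' {y}) (g.base y))))
    {x : X} (hx : x ∈ MoreMor.sectionComponents f g)
    (hd : ∀ y', y' ⤳ f x → topologicalKrullDim ↥(connectedComponentIn (f.base ⁻¹' {f x}) (g.base (f x))) ≤
      topologicalKrullDim ↥(connectedComponentIn (f.base ⁻¹' {y'}) (g.base y')))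
    (hred : GeomRedFlat5.E f x) :
    x ∈ interior (MoreMor.sectionComponents f g) ∧ ∃ U : X.Opens, x ∈ U ∧ ∀ x' ∈ U, GeomRedFlat5.E f x' := by
  haveI : IsLocallyNoetherian X := LocallyOfFiniteType.isLocallyNoetherian f
  have hirr := irreducible_of_geomIrreducible f hgi
  refine ⟨?_, ?_⟩
  · obtain ⟨P⟩ := exists_piece f g hg (fun _ _ => IsQuasiSeparated.of_quasiSeparatedSpace _) hx
    haveI := P.open_j; haveI := P.open_i; haveI := P.affine; haveI := P.qc; haveI := P.lft
    haveI : IsLocallyNoetherian P.Y' := isLocallyNoetherian_of_isOpenImmersion P.i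
    haveI : IsNoetherian P.Y' := {}
    have hS := preimage_sectionComponents_piece f P.f' P.g' P.hg' g hirr P.j P.i P.hw P.hgw
    have hnhds : MoreMor.sectionComponents P.f' P.g' ∈ nhds P.x' :=
      FibDim.mem_nhds_of_generizations (isConstructible_sectionComponents P.f' P.g' P.hg').isLocallyConstructible
        fun v hv => by
          rw [← hS]
          exact mem_sectionComponents_of_generization_irred f g hg hgi hd hx hred
            ((hv.map P.j.continuous).trans (specializes_of_eq P.hx'))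
    rw [mem_interior_iff_mem_nhds, ← P.hx']
    exact Filter.mem_of_superset (P.j.isOpenEmbedding.isOpenMap.image_mem_nhds hnhds)
      (image_sectionComponents_subset f g P.f' P.g' P.hg' P.j P.i P.hw P.hgw)
  · obtain ⟨U, hxU, -, hU⟩ := GeomRedFlat5.exists_univOpen_nhd f x (fun z hz _ =>
      isUnivOpenAt_sectionComponent f hg hgi hd (SectComp.mem_component_of_closure hx z hz)) hred
    exact ⟨U, hxU, hU⟩

end Groth.Agent.GeomLoci
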