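import Groth.Agent.GeomLoci.DimConstModel
import Groth.Agent.GeomLoci.SectIrredNhd
import Groth.Agent.GeomRedFlat5.Open
import Groth.Agent.FibFlat.Core

/-!
# EGA IV 15.6.6–15.6.7 without noetherian hypotheses
-/

set_option autoImplicit false
set_option linter.style.haveILetI false
set_option linter.unusedSectionVars false
set_option backward.isDefEq.respectTransparency false
set_option backward.isDefEq.respectTransparency.types false

universe u

open AlgebraicGeometry CategoryTheory Limits Topology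

namespace Groth.Agent.GeomLoci

variable {X Y : Scheme.{u}} (f : X ⟶ Y) (g : Y ⟶ X)

/-- Near a point of constant dimension, a noetherian model. -/
theorem exists_local_model [LocallyOfFinitePresentation f] [QuasiCompact f] [QuasiSeparated f] (hg : g ≫ f = 𝟙 Y)
    (hgi : ∀ (y : Y) (K : Type u) [Field K] [Algebra (IsLocalRing.ResidueField (Y.presheaf.stalk y)) K],
      IsIrreducible ((FBase.bcπ (f.fiberToSpecResidueField y) K ≫ f.fiberι y).base ⁻¹' (connectedComponentIn (f.base ⁻¹' {y}) (g.base y))))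
    {y : Y} (hconst : ∃ V ∈ nhds y, ∀ z ∈ V, topologicalKrullDim ↥(connectedComponentIn (f.base ⁻¹' {z}) (g.base z)) =
      topologicalKrullDim ↥(connectedComponentIn (f.base ⁻¹' {y}) (g.base y))) :
    ∃ (V : Y.Opens) (S₀ X₀ : Scheme.{u}) (f₀ : X₀ ⟶ S₀) (g₀ : S₀ ⟶ X₀)
      (q : (f ⁻¹ᵁ V : X.Opens).toScheme ⟶ X₀) (π : (V : Scheme.{u}) ⟶ S₀),
      y ∈ V ∧ IsNoetherian S₀ ∧ (IsReduced Y → IsReduced S₀) ∧ LocallyOfFinitePresentation f₀ ∧
      IsPullback q (f ∣_ V) f₀ π ∧ q ⁻¹' MoreMor.sectionComponents f₀ g₀ = (f ⁻¹ᵁ V).ι ⁻¹' MoreMor.sectionComponents f g ∧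
      (∀ z ∈ V, topologicalKrullDim ↥(connectedComponentIn (f.base ⁻¹' {z}) (g.base z)) =
        topologicalKrullDim ↥(connectedComponentIn (f.base ⁻¹' {y}) (g.base y))) ∧
      GoodBase f₀ g₀ (topologicalKrullDim ↥(connectedComponentIn (f.base ⁻¹' {y}) (g.base y))) := by
  obtain ⟨W, hW, hWd⟩ := hconst
  obtain ⟨W', hW'W, hW', hyW'⟩ := mem_nhds_iff.1 hW
  obtain ⟨V, hV, hyV, hVW⟩ := exists_isAffineOpen_mem_and_subset (x := y) (U := ⟨W', hW'⟩) hyW'
  haveI : IsAffine (V : Scheme.{u}) := hV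
  have hc := (isPullback_morphismRestrict f V).flip
  let fV := f ∣_ V
  let gV : (V : Scheme.{u}) ⟶ (f ⁻¹ᵁ V : X.Opens).toScheme := hc.lift (V.ι ≫ g) (𝟙 _)
    (by rw [Category.assoc, hg, Category.comp_id, Category.id_comp])
  have hgV : gV ≫ fV = 𝟙 _ := hc.lift_snd _ _ _
  haveI : QuasiCompact fV := MorphismProperty.of_isPullback hc inferInstance
  haveI : QuasiSeparated fV := MorphismProperty.of_isPullback hc inferInstance
  haveI : LocallyOfFinitePresentation fV := MorphismProperty.of_isPullback hc inferInstance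
  have hgood : GoodBase fV gV (topologicalKrullDim ↥(connectedComponentIn (f.base ⁻¹' {y}) (g.base y))) := by
    have hG : ∀ z, GeomIrredAt fV gV z := fun z =>
      (geomIrredAt_iff_of_isPullback f g hc hg hgV (hc.lift_fst _ _ _) z).2 (geomIrredAt_of_hirr f g hgi _)
    refine ⟨hgV, fun z K _ _ => hirr_of_geomIrredAt fV gV (hG z) K, fun z => ?_⟩
    rw [dim_component_eq fV gV hgV (hG z), FibDim.fibreDimAt_baseChange hc (gV z)]
    have hz : (f ⁻¹ᵁ V).ι (gV z) = g (V.ι z) := by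
      rw [← Scheme.Hom.comp_apply, hc.lift_fst, Scheme.Hom.comp_apply]
    rw [hz, ← dim_component_eq f g hg (geomIrredAt_of_hirr f g hgi (V.ι z))]
    exact hWd _ (hW'W (hVW z.2))
  obtain ⟨S₀, X₀, f₀, g₀, q, π, hN, hR, hlfp, _, _, sq, hgq, hgood₀⟩ :=
    exists_goodBase_model fV gV hgood ⟨y, hyV⟩
  refine ⟨V, S₀, X₀, f₀, g₀, q, π, hyV, hN, fun h => by haveI := h; exact hR inferInstance, hlfp, sq, ?_,
    fun z hz => hWd z (hW'W (hVW hz)), hgood₀⟩
  rw [← S1324.result f₀ g₀ hgood₀.section_eq fV q π sq gV hgV hgq,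
    ← S1324.result f g hg fV (f ⁻¹ᵁ V).ι V.ι hc gV hgV (hc.lift_fst _ _ _)]

/-- EGA IV 15.6.6: the good locus is open. -/
theorem isOpen_dimConst_geomRed (hg : g ≫ f = 𝟙 Y)
    (hfin : (IsLocallyNoetherian Y ∧ LocallyOfFiniteType f) ∨
      (LocallyOfFinitePresentation f ∧ QuasiCompact f ∧ QuasiSeparated f))
    (hgi : ∀ (y : Y) (K : Type u) [Field K] [Algebra (IsLocalRing.ResidueField (Y.presheaf.stalk y)) K],
      IsIrreducible ((FBase.bcπ (f.fiberToSpecResidueField y) K ≫ f.fiberι y).base ⁻¹' (connectedComponentIn (f.base ⁻¹' {y}) (g.base y)))) :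
    IsOpen {x : X | x ∈ MoreMor.sectionComponents f g ∧ (∃ V ∈ nhds (f.base x), ∀ z ∈ V, topologicalKrullDim ↥(connectedComponentIn (f.base ⁻¹' {z}) (g.base z)) = topologicalKrullDim ↥(connectedComponentIn (f.base ⁻¹' {(f.base x)}) (g.base (f.base x)))) ∧
      GeomRedFlat5.E f x} := by
  rw [isOpen_iff_mem_nhds]
  rintro x ⟨hx, hconst, hred⟩
  obtain ⟨W, hW, hWd⟩ := hconst
  obtain ⟨W', hW'W, hW', hxW'⟩ := mem_nhds_iff.1 hW
  have hdim : ∀ x' : X, f x' ∈ W' → ∃ V ∈ nhds (f.base x'), ∀ z ∈ V,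
      topologicalKrullDim ↥(connectedComponentIn (f.base ⁻¹' {z}) (g.base z)) =
        topologicalKrullDim ↥(connectedComponentIn (f.base ⁻¹' {(f.base x')}) (g.base (f.base x'))) :=
    fun x' hx' => ⟨W', hW'.mem_nhds hx', fun z hz => (hWd z (hW'W hz)).trans (hWd _ (hW'W hx')).symm⟩
  suffices h : ∃ O : Set X, IsOpen O ∧ x ∈ O ∧ O ⊆ MoreMor.sectionComponents f g ∧ ∀ x' ∈ O, GeomRedFlat5.E f x' by
    obtain ⟨O, hO, hxO, hOS, hOE⟩ := h
    exact Filter.mem_of_superset ((hO.inter (hW'.preimage f.continuous)).mem_nhds ⟨hxO, hxW'⟩)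
      fun x' hx' => ⟨hOS hx'.1, hdim x' hx'.2, hOE x' hx'.1⟩
  rcases hfin with ⟨_, _⟩ | ⟨_, _, _⟩
  · obtain ⟨U, hyU, hd⟩ := SectComp.dim_le_of_const ⟨W, hW, hWd⟩
    obtain ⟨h1, O, hxO, hO⟩ := mem_interior_sectionComponents_irred f g hg hgi hx (hd _ hyU) hred
    exact ⟨interior (MoreMor.sectionComponents f g) ∩ O, isOpen_interior.inter O.isOpen, ⟨h1, hxO⟩,
      fun z hz => interior_subset hz.1, fun z hz => hO z hz.2⟩
  · obtain ⟨V, S₀, X₀, f₀, g₀, q, π, hxV, _, -, _, sq, hS, -, hgood⟩ :=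
      exists_local_model f g hg hgi ⟨W, hW, hWd⟩
    obtain ⟨x₁, rfl⟩ : x ∈ Set.range (f ⁻¹ᵁ V).ι := by rw [Scheme.Opens.range_ι]; exact hxV
    have hE : ∀ w, GeomRedFlat5.E f₀ (q w) ↔ GeomRedFlat5.E f ((f ⁻¹ᵁ V).ι w) := fun w =>
      (GeomRedFlat5.E_iff_of_isPullback sq w).symm.trans
        (GeomRedFlat5.E_iff_of_isPullback (isPullback_morphismRestrict f V).flip w)
    obtain ⟨h1, O, hxO, hO⟩ := mem_interior_sectionComponents_irred f₀ g₀ hgood.section_eq hgood.irred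
      (x := q x₁) ((Set.ext_iff.1 hS x₁).2 hx)
      (fun y' _ => by rw [hgood.dim_eq, hgood.dim_eq]) ((hE x₁).2 hred)
    refine ⟨(f ⁻¹ᵁ V).ι '' (q ⁻¹' (interior (MoreMor.sectionComponents f₀ g₀) ∩ O)),
      (f ⁻¹ᵁ V).ι.isOpenEmbedding.isOpenMap _ ((isOpen_interior.inter O.isOpen).preimage q.continuous),
      ⟨x₁, ⟨h1, hxO⟩, rfl⟩, ?_, ?_⟩
    · rintro _ ⟨w, hw, rfl⟩
      exact (Set.ext_iff.1 hS w).1 (interior_subset hw.1 : q w ∈ _)
    · rintro _ ⟨w, hw, rfl⟩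
      exact (hE w).1 (hO _ hw.2)

/-- EGA IV 15.6.7: flatness at a point with geometrically reduced fibre, over a reduced base. -/
theorem flat_stalkMap_of_dimConst [LocallyOfFinitePresentation f] [QuasiCompact f] [QuasiSeparated f]
    [IsReduced Y] (hg : g ≫ f = 𝟙 Y)
    (hgi : ∀ (y : Y) (K : Type u) [Field K] [Algebra (IsLocalRing.ResidueField (Y.presheaf.stalk y)) K],
      IsIrreducible ((FBase.bcπ (f.fiberToSpecResidueField y) K ≫ f.fiberι y).base ⁻¹' (connectedComponentIn (f.base ⁻¹' {y}) (g.base y))))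
    {x : X} (hx : x ∈ MoreMor.sectionComponents f g)
    (hconst : ∃ V ∈ nhds (f.base x), ∀ z ∈ V, topologicalKrullDim ↥(connectedComponentIn (f.base ⁻¹' {z}) (g.base z)) =
      topologicalKrullDim ↥(connectedComponentIn (f.base ⁻¹' {(f.base x)}) (g.base (f.base x))))
    (hred : GeomRedFlat5.E f x) : (f.stalkMap x).hom.Flat := by
  obtain ⟨V, S₀, X₀, f₀, g₀, q, π, hxV, _, hR, _, sq, hS, -, hgood⟩ := exists_local_model f g hg hgi hconst
  haveI := hR inferInstance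
  obtain ⟨x₁, rfl⟩ : x ∈ Set.range (f ⁻¹ᵁ V).ι := by rw [Scheme.Opens.range_ι]; exact hxV
  have hx₀ : q x₁ ∈ MoreMor.sectionComponents f₀ g₀ := (Set.ext_iff.1 hS x₁).2 hx
  have hE : GeomRedFlat5.E f₀ (q x₁) := (GeomRedFlat5.E_iff_of_isPullback sq x₁).1
    ((GeomRedFlat5.E_iff_of_isPullback (isPullback_morphismRestrict f V).flip x₁).2 hred)
  have h₀ : (f₀.stalkMap (q x₁)).hom.Flat := SectComp.flat_of_univOpen hx₀
    (fun v hv => UnivOpen.isUnivOpenAt_sectionComponent f₀ hgood.section_eq hgood.irred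
      (fun y' _ => by rw [hgood.dim_eq, hgood.dim_eq]) hv) hE
  have h₁ := FibFlat.flat_stalk_of_isPullback sq x₁ h₀
  have h₂ : (((f ∣_ V) ≫ V.ι).stalkMap x₁).hom.Flat := by
    rw [Scheme.Hom.stalkMap_comp]
    exact (FlatLocus.flat_isIso_comp _ _).2 h₁
  rw [morphismRestrict_ι] at h₂
  exact (FibFlat.flat_stalk_open_comp (f ⁻¹ᵁ V).ι f x₁).1 h₂

end Groth.Agent.GeomLoci
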