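import Groth.Agent.FlatMisc.ApproxGeomRed
import Groth.Agent.GeomLoci.Constructible
import Groth.Agent.GeomLoci.NearPoint

/-!
# Noetherian approximation preserving geometric numbers of components
-/

set_option autoImplicit false
set_option linter.style.haveILetI false

universe u

open AlgebraicGeometry CategoryTheory CategoryTheory.Limits TopologicalSpace Topology

namespace Groth.Agent.GeomLoci

open Groth.Agent.FlatMisc ConsPropLib in
/-- A fibrewise constructible condition true everywhere holds on some model. -/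
theorem exists_model_of_fibrewise {X S : Scheme.{u}} (f : X ⟶ S) [IsAffine X] [IsAffine S]
    [LocallyOfFinitePresentation f] (L : ∀ {X' S' : Scheme.{u}}, (X' ⟶ S') → Set S')
    (hbc : ∀ {X' S' X'' S'' : Scheme.{u}} (f' : X' ⟶ S') (f'' : X'' ⟶ S'') (g' : X'' ⟶ X') (g : S'' ⟶ S'),
      IsPullback g' f'' f' g → L f'' = g ⁻¹' L f')
    (hcons : ∀ {X' S' : Scheme.{u}} (f' : X' ⟶ S') [IsNoetherian S'] [LocallyOfFiniteType f'] [QuasiCompact f'],
      IsConstructible (L f')) (hf : ∀ s, s ∈ L f) :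
    ∃ (X₀ S₀ : Scheme.{u}) (f₀ : X₀ ⟶ S₀) (g : S ⟶ S₀) (g' : X ⟶ X₀), IsAffine X₀ ∧ IsAffine S₀ ∧ IsPullback g' f f₀ g ∧
      Algebra.FiniteType ℤ Γ(S₀, ⊤) ∧ LocallyOfFiniteType f₀ ∧ ∀ s, s ∈ L f₀ := by
  obtain ⟨i, X₀, f₀, g, hX, hfp, sq⟩ := ApproxGeomRed.exists_affine_model f
  haveI := hX; haveI := hfp
  let e := NoethApprox.cone Γ(S, ⊤)
  let D := NoethApprox.diagram Γ(S, ⊤)
  haveI : ∀ {i j} (φ : i ⟶ j), IsAffineHom (D.map φ) := fun φ => NoethApprox.isAffineHom_map _ φ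
  haveI : IsNoetherian (D.obj i) := NoethApprox.isNoetherian_obj _ i
  haveI : QuasiCompact f₀ := inferInstance
  have hsub : e.π.app i ⁻¹' (((⊤ : (D.obj i).Opens) : Set (D.obj i)) ∩ Set.univ) ⊆ e.π.app i ⁻¹' L f₀ := by
    intro s _
    have hs : S.isoSpec.inv s ∈ L f := hf _
    rw [hbc _ _ _ _ sq, Set.mem_preimage] at hs
    have e1 : (S.isoSpec.hom ≫ e.π.app i) (S.isoSpec.inv s) = e.π.app i s :=
      congrArg (fun t => (e.π.app i).base t) congr(($(S.isoSpec.inv_hom_id)).base s)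
    show e.π.app i s ∈ L f₀
    rw [← e1]
    exact hs
  obtain ⟨j, φ, hj⟩ := MorLib.LimCons.exists_subset_open (NoethApprox.isLimit Γ(S, ⊤)) i ⊤ isCompact_univ
    (MorLib.LimCons.pro_univ) (ApproxGeomRed.isIndConstructible (hcons f₀).isLocallyConstructible) hsub
  haveI : IsAffine (D.obj j) := NoethApprox.isAffine_obj _ j
  haveI : IsAffine (D.obj i) := NoethApprox.isAffine_obj _ i
  have hπ : ∀ (πi : S ⟶ D.obj i), πi = S.isoSpec.hom ≫ e.π.app i →
      (S.isoSpec.hom ≫ e.π.app j : S ⟶ D.obj j) ≫ D.map φ = πi := fun πi h => by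
    rw [h]; exact (Category.assoc _ _ _).trans (congrArg _ (e.w φ))
  have hw : g ≫ f₀ = (f ≫ (S.isoSpec.hom ≫ e.π.app j : S ⟶ D.obj j)) ≫ D.map φ :=
    sq.w.trans ((congrArg (f ≫ ·) (hπ _ rfl).symm).trans (Category.assoc _ _ _).symm)
  refine ⟨pullback f₀ (D.map φ), D.obj j, pullback.snd f₀ (D.map φ), S.isoSpec.hom ≫ e.π.app j,
    pullback.lift g _ hw, inferInstance, inferInstance, ?_, ?_, inferInstance, fun s => ?_⟩
  · refine IsPullback.of_right ?_ (pullback.lift_snd _ _ _) (IsPullback.of_hasPullback f₀ (D.map φ))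
    rw [pullback.lift_fst, hπ _ rfl]
    exact sq
  · haveI : Algebra.FiniteType ℤ (Algebra.adjoin ℤ ((j.unop : Finset Γ(S, ⊤)) : Set Γ(S, ⊤))) :=
      Algebra.FiniteType.adjoin_of_finite (Finset.finite_toSet _)
    exact Algebra.FiniteType.equiv ‹_›
      ((Scheme.ΓSpecIso (CommRingCat.of (Algebra.adjoin ℤ ((j.unop : Finset Γ(S, ⊤)) : Set Γ(S, ⊤))))).symm.commRingCatIsoToRingEquiv.toIntAlgEquiv)
  · rw [hbc _ _ _ _ (IsPullback.of_hasPullback f₀ (D.map φ))]
    exact hj ⟨trivial, trivial⟩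

theorem exists_model_geometricallyIrreducible {X S : Scheme.{u}} (f : X ⟶ S) [IsAffine X] [IsAffine S]
    [LocallyOfFinitePresentation f] [GeometricallyIrreducible f] :
    ∃ (X₀ S₀ : Scheme.{u}) (f₀ : X₀ ⟶ S₀) (g : S ⟶ S₀) (g' : X ⟶ X₀), IsAffine X₀ ∧ IsAffine S₀ ∧ IsPullback g' f f₀ g ∧
      Algebra.FiniteType ℤ Γ(S₀, ⊤) ∧ LocallyOfFiniteType f₀ ∧ GeometricallyIrreducible f₀ := by
  obtain ⟨X₀, S₀, f₀, g, g', h1, h2, h3, h4, h5, h6⟩ := exists_model_of_fibrewise f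
    (fun {X' S'} f' => {y : S' | MoreMor.nGeomIrredComp f' y = 1})
    (fun f' f'' g' g h => Set.ext fun y => by
      simp only [Set.mem_ofPred_eq, Set.mem_preimage, (Triage.GeomCount.nGeom_baseChange f' f'' g' g h y).1])
    (fun f' _ _ _ => (isConstructible_counts f' 1).1) (fun s => nGeomIrredComp_eq_one f s)
  exact ⟨X₀, S₀, f₀, g, g', h1, h2, h3, h4, h5, geometricallyIrreducible_of_nGeom _ h6⟩

theorem exists_model_geometricallyConnected {X S : Scheme.{u}} (f : X ⟶ S) [IsAffine X] [IsAffine S]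
    [LocallyOfFinitePresentation f] [GeometricallyConnected f] :
    ∃ (X₀ S₀ : Scheme.{u}) (f₀ : X₀ ⟶ S₀) (g : S ⟶ S₀) (g' : X ⟶ X₀), IsAffine X₀ ∧ IsAffine S₀ ∧ IsPullback g' f f₀ g ∧
      Algebra.FiniteType ℤ Γ(S₀, ⊤) ∧ LocallyOfFiniteType f₀ ∧ GeometricallyConnected f₀ := by
  obtain ⟨X₀, S₀, f₀, g, g', h1, h2, h3, h4, h5, h6⟩ := exists_model_of_fibrewise f
    (fun {X' S'} f' => {y : S' | MoreMor.nGeomConnComp f' y = 1})
    (fun f' f'' g' g h => Set.ext fun y => by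
      simp only [Set.mem_ofPred_eq, Set.mem_preimage, (Triage.GeomCount.nGeom_baseChange f' f'' g' g h y).2])
    (fun f' _ _ _ => (isConstructible_counts f' 1).2) (fun s => nGeomConnComp_eq_one f s)
  exact ⟨X₀, S₀, f₀, g, g', h1, h2, h3, h4, h5, geometricallyConnected_of_nGeom _ h6⟩

end Groth.Agent.GeomLoci
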