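import Groth.Agent.GeomLoci.SchemeSpread

/-!
# The components of the geometric fibres near the generic point
-/

set_option autoImplicit false
set_option linter.style.haveILetI false
set_option linter.unusedSectionVars false

universe u

open AlgebraicGeometry CategoryTheory CategoryTheory.Limits Topology

namespace Groth.Agent.GeomLoci

/-- A finite irredundant cover by closed irreducible sets is the set of irreducible components. -/
theorem irreducibleComponents_eq_range {T : Type*} [TopologicalSpace T] {ι : Type*} [Finite ι] (C : ι → Set T)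
    (hc : ∀ i, IsClosed (C i)) (hirr : ∀ i, IsIrreducible (C i)) (hcov : ⋃ i, C i = Set.univ)
    (hsub : ∀ i k, C i ⊆ C k → i = k) :
    irreducibleComponents T = Set.range C := by
  have key : ∀ s : Set T, IsIrreducible s → ∃ i, s ⊆ C i := fun s hs => by
    haveI := Fintype.ofFinite ι
    classical
    obtain ⟨z, hz, hsz⟩ := isIrreducible_iff_sUnion_isClosed.1 hs (Finset.univ.image C)
      (fun z hz => by
        obtain ⟨i, -, rfl⟩ := Finset.mem_image.1 hz
        exact hc i)
      (fun x _ => by
        have hx : x ∈ ⋃ i, C i := by rw [hcov]; trivial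
        obtain ⟨i, hi⟩ := Set.mem_iUnion.1 hx
        exact Set.mem_sUnion.2 ⟨C i, by simp, hi⟩)
    obtain ⟨i, -, rfl⟩ := Finset.mem_image.1 hz
    exact ⟨i, hsz⟩
  refine Set.ext fun s => ⟨fun hs => ?_, ?_⟩
  · obtain ⟨i, hi⟩ := key s hs.1
    exact ⟨i, (hi.antisymm (hs.2 (hirr i) hi)).symm⟩
  · rintro ⟨i, rfl⟩
    refine ⟨hirr i, fun t ht hit => ?_⟩
    obtain ⟨k, hk⟩ := key t ht
    obtain rfl := hsub i k (hit.trans hk)
    exact hk

theorem encard_irreducibleComponents_eq {T : Type*} [TopologicalSpace T] {ι : Type*} [Finite ι] (C : ι → Set T)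
    (hc : ∀ i, IsClosed (C i)) (hirr : ∀ i, IsIrreducible (C i)) (hcov : ⋃ i, C i = Set.univ)
    (hsub : ∀ i k, C i ⊆ C k → i = k) :
    (irreducibleComponents T).encard = ENat.card ι := by
  rw [irreducibleComponents_eq_range C hc hirr hcov hsub, Set.encard, ENat.card_congr
    (Equiv.ofInjective C fun i k h => hsub i k h.le).symm]

theorem card_connectedComponents_eq_quot {T : Type*} [TopologicalSpace T] {ι : Type*} [Finite ι] (C : ι → Set T)
    (hc : ∀ i, IsClosed (C i)) (hconn : ∀ i, IsPreconnected (C i)) (hne : ∀ i, (C i).Nonempty)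
    (hcov : ⋃ i, C i = Set.univ) :
    ENat.card (ConnectedComponents T) = ENat.card (Quot fun i k => (C i ∩ C k).Nonempty) := by
  let r := fun i k => (C i ∩ C k).Nonempty
  let pt : ι → T := fun i => (hne i).choose
  have hpt : ∀ i x, x ∈ C i → connectedComponent x = connectedComponent (pt i) := fun i x hx =>
    connectedComponent_eq ((hconn i).subset_connectedComponent hx (hne i).choose_spec)
  let F : Quot r → ConnectedComponents T := Quot.lift (fun i => (pt i : ConnectedComponents T)) (by
    rintro i k ⟨x, hxi, hxk⟩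
    exact ConnectedComponents.coe_eq_coe.2 ((hpt i x hxi).symm.trans (hpt k x hxk)))
  refine (ENat.card_congr (Equiv.ofBijective F ⟨?_, ?_⟩)).symm
  · rintro ⟨i⟩ ⟨k⟩ h
    have h' : connectedComponent (pt i) = connectedComponent (pt k) := ConnectedComponents.coe_eq_coe.1 h
    let U : Set T := ⋃ l ∈ {l | Quot.mk r l = Quot.mk r i}, C l
    let V : Set T := ⋃ l ∈ {l | Quot.mk r l ≠ Quot.mk r i}, C l
    have hUV : Uᶜ = V := by
      ext x
      have hx : x ∈ ⋃ i, C i := by rw [hcov]; trivial
      obtain ⟨l, hl⟩ := Set.mem_iUnion.1 hx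
      simp only [U, V, Set.mem_compl_iff, Set.mem_iUnion, Set.mem_ofPred_eq, exists_prop, not_exists, not_and]
      refine ⟨fun h => ⟨l, fun he => h l he hl, hl⟩, fun ⟨m, hm, hxm⟩ m' hm' hxm' => hm ?_⟩
      rw [← hm']
      exact Quot.sound ⟨x, hxm, hxm'⟩
    have hU : IsClopen U :=
      ⟨(Set.toFinite _).isClosed_biUnion fun l _ => hc l, isClosed_compl_iff.1
        (hUV ▸ (Set.toFinite _).isClosed_biUnion fun l _ => hc l)⟩
    have hsub : connectedComponent (pt i) ⊆ U :=
      hU.connectedComponent_subset (Set.mem_biUnion (x := i) rfl (hne i).choose_spec)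
    have hk : pt k ∈ U := hsub (h' ▸ mem_connectedComponent)
    simp only [U, Set.mem_iUnion, Set.mem_ofPred_eq, exists_prop] at hk
    obtain ⟨l, hl, hkl⟩ := hk
    exact (hl.symm.trans (Quot.sound ⟨pt k, hkl, (hne k).choose_spec⟩))
  · rintro ⟨x⟩
    have hx : x ∈ ⋃ i, C i := by rw [hcov]; trivial
    obtain ⟨i, hi⟩ := Set.mem_iUnion.1 hx
    exact ⟨Quot.mk r i, ConnectedComponents.coe_eq_coe.2 (hpt i x hi).symm⟩

variable {A : Type u} [CommRing A] [IsDomain A] {X : Scheme.{u}} (K : Type u) [Field K] [Algebra A K]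
  [IsFractionRing A K] [IsAlgClosed K] (f : X ⟶ Spec (CommRingCat.of A)) [LocallyOfFiniteType f] [QuasiCompact f]

omit [IsAlgClosed K] [LocallyOfFiniteType f] [QuasiCompact f] in
theorem isInducing_baseProj : IsInducing (baseProj f K) := by
  haveI : IsPreimmersion (geomPt A K) := IsPreimmersion.of_isLocalization (nonZeroDivisors A)
  exact (baseProj f K).isEmbedding.isInducing

theorem spreadsOut_counts : SpreadsOut A fun L _ _ =>
    (irreducibleComponents ↥(pullback f (geomPt A L))).encard =
        (irreducibleComponents ↥(pullback f (geomPt A K))).encard ∧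
      ENat.card (_root_.ConnectedComponents ↥(pullback f (geomPt A L))) =
        ENat.card (_root_.ConnectedComponents ↥(pullback f (geomPt A K))) := by
  haveI : IsLocallyNoetherian (pullback f (geomPt A K)) :=
    LocallyOfFiniteType.isLocallyNoetherian (pullback.snd f (geomPt A K))
  haveI : CompactSpace ↥(pullback f (geomPt A K)) :=
    QuasiCompact.compactSpace_of_compactSpace (pullback.snd f (geomPt A K))
  haveI : IsNoetherian (pullback f (geomPt A K)) := {}
  haveI : Finite (irreducibleComponents ↥(pullback f (geomPt A K))) :=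
    TopologicalSpace.NoetherianSpace.finite_irreducibleComponents.to_subtype
  let ι := irreducibleComponents ↥(pullback f (geomPt A K))
  let η : ι → ↥(pullback f (geomPt A K)) := fun c => c.2.1.genericPoint
  have hη : ∀ c : ι, closure {η c} = (c : Set _) := fun c => by
    rw [show closure {η c} = closure (c : Set _) from c.2.1.isGenericPoint_genericPoint_closure,
      (isClosed_of_mem_irreducibleComponents c.1 c.2).closure_eq]
  let Z : ι → Set X := fun c => closure {baseProj f K (η c)}
  have hZK : ∀ c, baseProj f K ⁻¹' Z c = (c : Set _) := fun c => by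
    rw [← hη c, (isInducing_baseProj K f).closure_eq_preimage_closure_image, Set.image_singleton]
  have h1 : SpreadsOut A fun L _ _ => ∀ c, IsIrreducible (baseProj f L ⁻¹' Z c) :=
    SpreadsOut.forall_finite fun c => spreadsOut_irreducible_scheme K f (η c)
  have h2 : SpreadsOut A fun L _ _ => ∀ p : {p : ι × ι // p.1 ≠ p.2},
      (baseProj f L ⁻¹' (Z p.1.1 ∩ (Z p.1.2)ᶜ)).Nonempty := by
    refine SpreadsOut.forall_finite fun ⟨⟨c, d⟩, hcd⟩ =>
      spreadsOut_nonempty K f (η c) isClosed_closure.isOpen_compl fun h => hcd ?_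
    have hmem : η c ∈ (d : Set _) := hZK d ▸ h
    have hle : c.1 ⊆ d.1 := by
      rw [← hη c]
      exact (isClosed_of_mem_irreducibleComponents d.1 d.2).closure_subset_iff.2 (Set.singleton_subset_iff.2 hmem)
    exact Subtype.ext (hle.antisymm (c.2.2 d.2.1 hle))
  have h3 : SpreadsOut A fun L _ _ => baseProj f L ⁻¹' Set.univ ⊆ baseProj f L ⁻¹' ⋃ c, Z c := by
    refine spreadsOut_subset_scheme K f isClosed_univ (isClosed_iUnion_of_finite fun c => isClosed_closure) ?_
    intro x _
    rw [Set.preimage_iUnion, Set.mem_iUnion]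
    obtain ⟨s, hs, hxs⟩ := exists_mem_irreducibleComponents_subset_of_isIrreducible {x} isIrreducible_singleton
    exact ⟨⟨s, hs⟩, by rw [hZK]; exact hxs rfl⟩
  have h4 : SpreadsOut A fun L _ _ => ∀ p : ι × ι,
      (baseProj f L ⁻¹' Z p.1 ∩ baseProj f L ⁻¹' Z p.2).Nonempty ↔
        (p.1.1 ∩ p.2.1).Nonempty := by
    refine SpreadsOut.forall_finite fun p => ?_
    by_cases h : (p.1.1 ∩ p.2.1).Nonempty
    · obtain ⟨x, hx1, hx2⟩ := h
      rw [← hZK] at hx1 hx2
      refine (spreadsOut_nonempty K f x isOpen_univ (Set.mem_univ _)).mono fun L _ _ hne =>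
        iff_of_true ?_ ⟨x, hZK p.1 ▸ hx1, hZK p.2 ▸ hx2⟩
      rw [← Set.preimage_inter]
      refine hne.mono (Set.preimage_mono ?_)
      rw [Set.inter_univ]
      exact (isClosed_closure.inter isClosed_closure).closure_subset_iff.2
        (Set.singleton_subset_iff.2 ⟨hx1, hx2⟩)
    · refine (spreadsOut_subset_scheme K f (W := Z p.1 ∩ Z p.2) (isClosed_closure.inter isClosed_closure)
        isClosed_empty ?_).mono fun L _ _ hsub => iff_of_false ?_ h
      · rw [Set.preimage_inter, hZK, hZK]
        exact fun x hx => (h ⟨x, hx⟩).elim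
      · rw [← Set.preimage_inter]
        rintro ⟨x, hx⟩
        exact hsub hx
  refine (((h1.and h2).and h3).and h4).mono fun L _ _ h => ?_
  obtain ⟨⟨⟨hirr, hdist⟩, hcov⟩, hpat⟩ := h
  have hclosed : ∀ c, IsClosed (baseProj f L ⁻¹' Z c) := fun c =>
    isClosed_closure.preimage (baseProj f L).continuous
  have hcovL : ⋃ c, baseProj f L ⁻¹' Z c = Set.univ := by
    rw [← Set.preimage_iUnion]
    exact Set.univ_subset_iff.1 (fun x hx => hcov (Set.mem_univ (baseProj f L x)))
  constructor
  · rw [encard_irreducibleComponents_eq _ hclosed hirr hcovL fun c d hcd => by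
      by_contra hne
      obtain ⟨x, hx1, hx2⟩ := hdist ⟨(c, d), hne⟩
      exact hx2 (hcd hx1)]
    rfl
  · rw [card_connectedComponents_eq_quot _ hclosed (fun c => (hirr c).isConnected.isPreconnected)
      (fun c => (hirr c).nonempty) hcovL,
      card_connectedComponents_eq_quot (fun c : ι => (c : Set ↥(pullback f (geomPt A K))))
        (fun c => isClosed_of_mem_irreducibleComponents c.1 c.2) (fun c => c.2.1.isConnected.isPreconnected)
        (fun c => c.2.1.nonempty) (Set.eq_univ_of_forall fun x => by
          obtain ⟨s, hs, hxs⟩ :=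
            exists_mem_irreducibleComponents_subset_of_isIrreducible {x} isIrreducible_singleton
          exact Set.mem_iUnion.2 ⟨⟨s, hs⟩, hxs rfl⟩)]
    exact ENat.card_congr (Quot.congrRight fun c d => hpat (c, d))

end Groth.Agent.GeomLoci
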