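import Groth.Agent.SectDimFP.Basic
import Groth.Agent.FlatDvr.DimFibre
import Groth.Agent.SectComp.Basic
import Groth.Agent.S1324

/-!
# Generizations of the section components
-/

set_option autoImplicit false
set_option linter.style.haveILetI false
set_option linter.unusedSectionVars false
set_option backward.isDefEq.respectTransparency false
set_option backward.isDefEq.respectTransparency.types false

open AlgebraicGeometry CategoryTheory Limits Topology IsLocalRing

universe u

namespace Groth.Agent.GeomLoci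

/-- A subset of a locally noetherian scheme stable under specialization, whose complement also is,
is open. -/
theorem isOpen_of_specializes_iff {W : Scheme.{u}} [IsLocallyNoetherian W] (Ω : Set W)
    (h : ∀ a b, a ⤳ b → (a ∈ Ω ↔ b ∈ Ω)) : IsOpen Ω := by
  rw [isOpen_iff_mem_nhds]
  intro w hw
  obtain ⟨_, ⟨U, hU, rfl⟩, hwU, -⟩ :=
    W.isBasis_affineOpens.exists_subset_of_mem_open (Set.mem_univ w) isOpen_univ
  haveI : IsNoetherianRing Γ(W, U) := IsLocallyNoetherian.component_noetherian ⟨U, hU⟩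
  haveI : TopologicalSpace.NoetherianSpace (PrimeSpectrum Γ(W, U)) := inferInstance
  let e := hU.fromSpec
  obtain ⟨p, rfl⟩ : w ∈ Set.range e := by rw [hU.range_fromSpec]; exact hwU
  let Z : Set (PrimeSpectrum Γ(W, U)) := ⋃ c ∈ {c ∈ irreducibleComponents (PrimeSpectrum Γ(W, U)) |
    ¬ c ⊆ e ⁻¹' Ω}, c
  have hZ : IsClosed Z := (Set.Finite.subset TopologicalSpace.NoetherianSpace.finite_irreducibleComponents
    fun c hc => hc.1).isClosed_biUnion fun c hc => isClosed_of_mem_irreducibleComponents c hc.1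
  have hcomp : ∀ c ∈ irreducibleComponents (PrimeSpectrum Γ(W, U)), ∀ a ∈ c, ∀ b ∈ c, e a ∈ Ω → e b ∈ Ω := by
    intro c hc a ha b hb haΩ
    have hgen := hc.1.isGenericPoint_genericPoint_closure
    have hs : ∀ x ∈ c, hc.1.genericPoint ⤳ x := fun x hx => hgen.specializes (subset_closure hx)
    exact (h _ _ ((hs b hb).map e.continuous)).1 ((h _ _ ((hs a ha).map e.continuous)).2 haΩ)
  have hpZ : p ∉ Z := by
    simp only [Z, Set.mem_iUnion, Set.mem_ofPred_eq, exists_prop, not_exists, not_and]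
    rintro c ⟨hc, hnot⟩ hpc
    exact hnot fun b hb => hcomp c hc p hpc b hb hw
  refine Filter.mem_of_superset ((hU.fromSpec.isOpenEmbedding.isOpenMap _ hZ.isOpen_compl).mem_nhds ⟨p, hpZ, rfl⟩) ?_
  rintro _ ⟨q, hq, rfl⟩
  obtain ⟨c, hc, hqc⟩ := exists_mem_irreducibleComponents_subset_of_isIrreducible {q} isIrreducible_singleton
  by_contra hqΩ
  exact hq (Set.mem_biUnion ⟨hc, fun hsub => hqΩ (hsub (hqc rfl))⟩ (hqc rfl))

theorem generic_subset_sectionComponents {A : Type u} [CommRing A] [IsDomain A] [IsDiscreteValuationRing A]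
    {X : Scheme.{u}} (q : X ⟶ Spec (CommRingCat.of A)) [LocallyOfFiniteType q]
    (s : Spec (CommRingCat.of A) ⟶ X) (hs : s ≫ q = 𝟙 _)
    (hopen : ∀ v ∈ connectedComponentIn (q ⁻¹' {closedPoint A}) (s (closedPoint A)), EGA43.IsOpenAt q.base v)
    (hred : ∀ w : ↥(q.fiber (closedPoint A)),
      q.fiberι (closedPoint A) w ∈ connectedComponentIn (q ⁻¹' {closedPoint A}) (s (closedPoint A)) →
      _root_.IsReduced ((q.fiber (closedPoint A)).presheaf.stalk w))
    {a z : X} (ha : a ∈ connectedComponentIn (q ⁻¹' {closedPoint A}) (s (closedPoint A))) (hz : z ⤳ a)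
    (hzc : q z ≠ closedPoint A) : z ∈ MoreMor.sectionComponents q s := by
  let η : Spec (CommRingCat.of A) := (⟨⊥, Ideal.isPrime_bot⟩ : PrimeSpectrum A)
  let c : Spec (CommRingCat.of A) := closedPoint A
  have hηne : η ≠ c := fun h => IsDiscreteValuationRing.not_a_field A (congrArg PrimeSpectrum.asIdeal h).symm
  have hcases : ∀ t : Spec (CommRingCat.of A), t ≠ c → t = η := fun t ht => by
    refine PrimeSpectrum.ext ?_
    by_contra h
    exact ht (PrimeSpectrum.ext (IsLocalRing.eq_maximalIdeal ((t : PrimeSpectrum A).isPrime.isMaximal h)))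
  have hηc : η ⤳ c := (PrimeSpectrum.le_iff_specializes
    (⟨⊥, Ideal.isPrime_bot⟩ : PrimeSpectrum A) (closedPoint A : PrimeSpectrum A)).1 bot_le
  have hsq : ∀ t, q (s t) = t := fun t => by rw [← Scheme.Hom.comp_apply, hs]; rfl
  haveI : IsLocallyNoetherian X := LocallyOfFiniteType.isLocallyNoetherian q
  let C := connectedComponentIn (q ⁻¹' {c}) (s c)
  have hqC : ∀ v ∈ C, q v = c := fun v hv => connectedComponentIn_subset (q ⁻¹' {c}) (s c) hv
  -- all generic generizations of a point of the component lie in one connected piece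
  have hone : ∀ v ∈ C, ∀ z₁ z₂, z₁ ⤳ v → z₂ ⤳ v → q z₁ = η → q z₂ = η →
      connectedComponentIn (q ⁻¹' {η}) z₁ = connectedComponentIn (q ⁻¹' {η}) z₂ := by
    intro v hv z₁ z₂ h₁ h₂ e₁ e₂
    obtain ⟨w, hw⟩ : v ∈ Set.range (q.fiberι c) := by rw [Scheme.Hom.range_fiberι]; exact hqC v hv
    subst hw
    have hop : ∀ t, t ⤳ q.fiberι c w → q t = q (q.fiberι c w) → FibDim.FibMax q t → EGA43.IsOpenAt q.base t :=
      fun t ht htq _ => hopen t (SectComp.mem_component_of_specializes (f := q) (g := s)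
        (htq.trans (hqC _ hv)) hv ht)
    obtain ⟨T, ⟨hT, hTc⟩, h1T, h2T⟩ := FlatDvr.exists_preconnected_generic q rfl w hop (hred w hv) h₁ h₂
      (fun h => hηne (e₁.symm.trans h)) (fun h => hηne (e₂.symm.trans h))
    have hsub : T ⊆ q ⁻¹' {η} := fun t ht => hcases _ (hTc t ht)
    exact connectedComponentIn_eq (hT.subset_connectedComponentIn h1T hsub h2T)
  have hexists : ∀ v ∈ C, ∃ ζ, ζ ⤳ v ∧ q ζ = η := fun v hv =>
    FlatDvr.exists_generization_of_isOpenAt q (hopen v hv) (by rw [hqC v hv]; exact hηc)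
  let G := connectedComponentIn (q ⁻¹' {η}) (s η)
  let Ω : Set ↥(q.fiber c) := {w | q.fiberι c w ∈ C ∧ ∃ ζ, ζ ⤳ q.fiberι c w ∧ q ζ = η ∧ ζ ∈ G}
  have hΩ : ∀ w w' : ↥(q.fiber c), w ⤳ w' → (w ∈ Ω ↔ w' ∈ Ω) := by
    intro w w' h
    have h' := h.map (q.fiberι c).continuous
    constructor
    · rintro ⟨hw, ζ, hζ, hζη, hζG⟩
      have hw' : q.fiberι c w' ∈ C := by
        have hsub : ({q.fiberι c w, q.fiberι c w'} : Set X) ⊆ q ⁻¹' {c} :=
          Set.insert_subset_iff.2 ⟨hqC _ hw, Set.singleton_subset_iff.2 (FlatDvr.fiberι_apply_eq q w')⟩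
        have hpre : _root_.IsPreconnected ({q.fiberι c w, q.fiberι c w'} : Set X) :=
          isPreconnected_singleton.subset_closure (s := {q.fiberι c w}) (by simp)
            (Set.insert_subset_iff.2 ⟨subset_closure rfl,
              Set.singleton_subset_iff.2 (specializes_iff_mem_closure.1 h')⟩)
        rw [show C = connectedComponentIn (q ⁻¹' {c}) (q.fiberι c w) from connectedComponentIn_eq hw]
        exact hpre.subset_connectedComponentIn (by simp) hsub (by simp)
      exact ⟨hw', ζ, hζ.trans h', hζη, hζG⟩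
    · rintro ⟨hw', ζ', hζ', hζ'η, hζ'G⟩
      have hw : q.fiberι c w ∈ C :=
        SectComp.mem_component_of_specializes (f := q) (g := s) (FlatDvr.fiberι_apply_eq q w) hw' h'
      obtain ⟨ζ, hζ, hζη⟩ := hexists _ hw
      refine ⟨hw, ζ, hζ, hζη, ?_⟩
      have e := hone _ hw' ζ ζ' (hζ.trans h') hζ' hζη hζ'η
      show ζ ∈ connectedComponentIn (q ⁻¹' {η}) (s η)
      rw [connectedComponentIn_eq hζ'G, ← e]
      exact mem_connectedComponentIn hζη
  haveI : IsLocallyNoetherian (q.fiber c) :=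
    LocallyOfFiniteType.isLocallyNoetherian (q.fiberToSpecResidueField c)
  have hclopen : IsClopen Ω := ⟨isOpen_compl_iff.1
    (isOpen_of_specializes_iff Ωᶜ fun w w' h => (hΩ w w' h).not), isOpen_of_specializes_iff Ω hΩ⟩
  obtain ⟨w₀, hw₀⟩ : s c ∈ Set.range (q.fiberι c) := by rw [Scheme.Hom.range_fiberι]; exact hsq c
  have hC : _root_.IsPreconnected (q.fiberι c ⁻¹' C) := by
    rw [← (q.fiberι c).isEmbedding.isInducing.isPreconnected_image,
      Set.image_preimage_eq_of_subset (by rw [Scheme.Hom.range_fiberι]; exact hqC)]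
    exact isPreconnected_connectedComponentIn
  have h0 : w₀ ∈ Ω := ⟨by rw [hw₀]; exact mem_connectedComponentIn (hsq c), s η,
    by rw [hw₀]; exact hηc.map s.continuous, hsq η, mem_connectedComponentIn (hsq η)⟩
  obtain ⟨w, hw⟩ : a ∈ Set.range (q.fiberι c) := by rw [Scheme.Hom.range_fiberι]; exact hqC a ha
  obtain ⟨-, ζ, hζ, hζη, hζG⟩ : w ∈ Ω := hC.subset_isClopen hclopen
    ⟨w₀, by show q.fiberι c w₀ ∈ C; rw [hw₀]; exact mem_connectedComponentIn (hsq c), h0⟩
    (show q.fiberι c w ∈ C by rw [hw]; exact ha)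
  have hzη : q z = η := hcases _ hzc
  show z ∈ connectedComponentIn (q ⁻¹' {q z}) (s (q z))
  rw [hzη, connectedComponentIn_eq hζG, ← hone a ha z ζ hz (hw ▸ hζ) hzη hζη]
  exact mem_connectedComponentIn hzη

/-- The fibres are reduced, and the morphism is open, at the points over `x` after any base change. -/
def GoodAt {X Y : Scheme.{u}} (f : X ⟶ Y) (x : X) : Prop :=
  ∀ (T : Scheme.{u}) (τ : T ⟶ Y) (c : T) (w : ↥((pullback.snd f τ).fiber c)),
    pullback.fst f τ ((pullback.snd f τ).fiberι c w) = x →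
      EGA43.IsOpenAt (pullback.snd f τ).base ((pullback.snd f τ).fiberι c w) ∧
        _root_.IsReduced (((pullback.snd f τ).fiber c).presheaf.stalk w)

theorem goodAt_of {X Y : Scheme.{u}} (f : X ⟶ Y) {x : X} (h₁ : EGA43.IsUnivOpenAt f x)
    (h₂ : FBase.IsGeomReducedAt (f.fiberToSpecResidueField (f.base x)) (f.asFiber x)) : GoodAt f x := by
  intro T τ c w hw
  refine ⟨h₁ T τ _ hw, UnivOpen.isReduced_fibre_baseChange f τ ?_ _ h₂ w
    (hw.trans (Scheme.Hom.fiberι_asFiber f x).symm)⟩
  show τ c = f x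
  rw [← hw, ← Scheme.Hom.comp_apply (pullback.fst f τ) f, pullback.condition, Scheme.Hom.comp_apply,
    FlatDvr.fiberι_apply_eq]

theorem mem_sectionComponents_of_generization {X Y : Scheme.{u}} [IsLocallyNoetherian Y] (f : X ⟶ Y)
    [LocallyOfFiniteType f] (g : Y ⟶ X) (hg : g ≫ f = 𝟙 Y) {y : Y}
    (h : ∀ x ∈ connectedComponentIn (f.base ⁻¹' {y}) (g.base y), GoodAt f x)
    {x x' : X} (hx : x ∈ connectedComponentIn (f.base ⁻¹' {y}) (g.base y)) (hxx : x' ⤳ x) :
    x' ∈ MoreMor.sectionComponents f g := by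
  have hfx : f x = y := connectedComponentIn_subset (f.base ⁻¹' {y}) (g.base y) hx
  by_cases hy : f x' = y
  · show x' ∈ connectedComponentIn (f ⁻¹' {f x'}) (g (f x'))
    rw [hy]
    exact SectComp.mem_component_of_specializes (f := f) (g := g) hy hx hxx
  have hne : x ≠ x' := fun e => hy (e ▸ hfx)
  haveI : IsLocallyNoetherian X := LocallyOfFiniteType.isLocallyNoetherian f
  obtain ⟨A, _, _, _, σ, hσc, hση⟩ := UnivOpen.exists_dvr_lift (Y := X) hxx hne
  let c : Spec (CommRingCat.of A) := closedPoint A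
  let η : Spec (CommRingCat.of A) := (⟨⊥, Ideal.isPrime_bot⟩ : PrimeSpectrum A)
  have hηne : η ≠ c := fun h => IsDiscreteValuationRing.not_a_field A (congrArg PrimeSpectrum.asIdeal h).symm
  have hηc : η ⤳ c := (PrimeSpectrum.le_iff_specializes
    (⟨⊥, Ideal.isPrime_bot⟩ : PrimeSpectrum A) (closedPoint A : PrimeSpectrum A)).1 bot_le
  let τ := σ ≫ f
  have hτc : τ c = y := by rw [Scheme.Hom.comp_apply, hσc, hfx]
  let q := pullback.snd f τ
  let p := pullback.fst f τ
  let g' : Spec (CommRingCat.of A) ⟶ pullback f τ := pullback.lift (τ ≫ g) (𝟙 _)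
    (by rw [Category.assoc, hg, Category.comp_id, Category.id_comp])
  let σ' : Spec (CommRingCat.of A) ⟶ pullback f τ := pullback.lift σ (𝟙 _) (Category.id_comp _).symm
  have hbc := S1324.result f g hg q p τ (IsPullback.of_hasPullback f τ) g' (pullback.lift_snd _ _ _)
    (pullback.lift_fst _ _ _)
  have hpσ : ∀ t, p (σ' t) = σ t := fun t => by rw [← Scheme.Hom.comp_apply, pullback.lift_fst]
  have hqσ : ∀ t, q (σ' t) = t := fun t => by rw [← Scheme.Hom.comp_apply, pullback.lift_snd]; rfl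
  have hqp : ∀ v, q v = c → f (p v) = y := fun v hv => by
    rw [← Scheme.Hom.comp_apply, pullback.condition, Scheme.Hom.comp_apply, hv, hτc]
  have hmem : ∀ v, q v = c → (v ∈ connectedComponentIn (q ⁻¹' {c}) (g' c) ↔
      p v ∈ connectedComponentIn (f.base ⁻¹' {y}) (g.base y)) := fun v hv => by
    have e := Set.ext_iff.1 hbc v
    change v ∈ connectedComponentIn (q ⁻¹' {q v}) (g' (q v)) ↔
      p v ∈ connectedComponentIn (f ⁻¹' {f (p v)}) (g (f (p v))) at e
    rwa [hv, hqp v hv] at e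
  have hz : σ' η ∈ MoreMor.sectionComponents q g' := by
    refine generic_subset_sectionComponents q g' (pullback.lift_snd _ _ _) (fun v hv => ?_)
      (fun w hw => (h _ ((hmem _ (FlatDvr.fiberι_apply_eq q w)).1 hw) _ τ c w rfl).2) (a := σ' c) ?_
      (hηc.map σ'.continuous) (by rw [hqσ]; exact hηne)
    · have hqv : q v = c := connectedComponentIn_subset (q ⁻¹' {c}) (g' c) hv
      obtain ⟨w, hw⟩ : v ∈ Set.range (q.fiberι c) := by rw [Scheme.Hom.range_fiberι]; exact hqv
      subst hw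
      exact (h _ ((hmem _ hqv).1 hv) _ τ c w rfl).1
    · rw [hmem _ (hqσ c), hpσ, hσc]; exact hx
  rw [hbc, Set.mem_preimage, hpσ, hση η hηne] at hz
  exact hz

end Groth.Agent.GeomLoci
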