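import Groth.Agent.GeomLoci.ConnCount
import Groth.Agent.GeomLoci.SectGeneric
import Groth.Agent.ProperComp7.Main
import Groth.Agent.S4645

/-!
# Connected components of the fibres of a proper scheme over a discrete valuation ring
-/

set_option autoImplicit false
set_option linter.style.haveILetI false
set_option linter.unusedSectionVars false
set_option backward.isDefEq.respectTransparency false
set_option backward.isDefEq.respectTransparency.types false

universe u

open AlgebraicGeometry CategoryTheory CategoryTheory.Limits Topology IsLocalRing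

namespace Groth.Agent.GeomLoci

/-- The base change to a field-valued point with image `t`, as a set. -/
theorem card_fibre_le_of_point {X Y : Scheme.{u}} (f : X ⟶ Y) {L : Type u} [Field L]
    (s : Spec (CommRingCat.of L) ⟶ Y) (z : Spec (CommRingCat.of L)) :
    ENat.card (_root_.ConnectedComponents ↥(f ⁻¹' {s z})) ≤
      ENat.card (_root_.ConnectedComponents ↥(pullback f s)) := by
  have hrange : Set.range (pullback.fst f s) = f ⁻¹' {s z} := by
    rw [Scheme.Pullback.range_fst]
    congr 1
    refine Set.eq_singleton_iff_unique_mem.2 ⟨⟨z, rfl⟩, ?_⟩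
    rintro _ ⟨w, rfl⟩
    exact congrArg s (Subsingleton.elim (α := PrimeSpectrum L) w z)
  refine card_connectedComponents_le_of_surjective
    (fun w => (⟨pullback.fst f s w, hrange ▸ Set.mem_range_self w⟩ : ↥(f ⁻¹' {s z}))) ?_ ?_
  · exact (pullback.fst f s).continuous.subtype_mk _
  · rintro ⟨x, hx⟩
    rw [← hrange] at hx
    obtain ⟨w, rfl⟩ := hx
    exact ⟨w, rfl⟩

theorem card_fibre_eq_of_embedding {X Y Z : Scheme.{u}} (f : X ⟶ Y) (s : Z ⟶ Y) [IsPreimmersion s] {t : Y}
    (hs : Set.range s = {t}) :
    ENat.card (_root_.ConnectedComponents ↥(pullback f s)) =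
      ENat.card (_root_.ConnectedComponents ↥(f ⁻¹' {t})) := by
  have hrange : Set.range (pullback.fst f s) = f ⁻¹' {t} := by
    rw [Scheme.Pullback.range_fst, hs]
  refine card_connectedComponents_congr ?_
  exact (pullback.fst f s).isEmbedding.toHomeomorph.trans (Homeomorph.setCongr hrange)

theorem card_fibre_le_nGeom {X Y : Scheme.{u}} (f : X ⟶ Y) (t : Y) :
    ENat.card (_root_.ConnectedComponents ↥(f ⁻¹' {t})) ≤ MoreMor.nGeomConnComp f t := by
  let Ω := SeparableClosure (Y.residueField t)
  let s : Spec (CommRingCat.of Ω) ⟶ Y :=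
    Spec.map (CommRingCat.ofHom (algebraMap (Y.residueField t) Ω)) ≫ Y.fromSpecResidueField t
  let z : Spec (CommRingCat.of Ω) := closedPoint Ω
  have hz : s z = t := by
    rw [Scheme.Hom.comp_apply]; exact Scheme.fromSpecResidueField_apply _ _
  have h := card_fibre_le_of_point f s z
  rwa [← (nGeom_eq_counts f s z).2, hz] at h

variable {A : Type u} [CommRing A] [IsDomain A] [IsDiscreteValuationRing A]

/-- The generic point of a discrete valuation ring. -/
noncomputable def genPt (A : Type u) [CommRing A] [IsDomain A] : Spec (CommRingCat.of A) :=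
  (⟨⊥, Ideal.isPrime_bot⟩ : PrimeSpectrum A)

theorem eq_genPt {t : Spec (CommRingCat.of A)} (ht : t ≠ closedPoint A) : t = genPt A := by
  refine PrimeSpectrum.ext ?_
  by_contra h
  exact ht (PrimeSpectrum.ext (IsLocalRing.eq_maximalIdeal ((t : PrimeSpectrum A).isPrime.isMaximal h)))

theorem genPt_ne : genPt A ≠ closedPoint A :=
  fun h => IsDiscreteValuationRing.not_a_field A (congrArg PrimeSpectrum.asIdeal h).symm

theorem genPt_specializes : genPt A ⤳ closedPoint A :=
  (PrimeSpectrum.le_iff_specializes
    (⟨⊥, Ideal.isPrime_bot⟩ : PrimeSpectrum A) (closedPoint A : PrimeSpectrum A)).1 bot_le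

variable {X : Scheme.{u}} (q : X ⟶ Spec (CommRingCat.of A))

theorem eq_genPt_or (x : X) : q x = genPt A ∨ q x = closedPoint A :=
  (em (q x = closedPoint A)).symm.imp_left eq_genPt

theorem card_le_closed [IsProper q] :
    ENat.card (_root_.ConnectedComponents X) ≤
      ENat.card (_root_.ConnectedComponents ↥(q ⁻¹' {(closedPoint A : Spec (CommRingCat.of A))})) := by
  refine card_connectedComponents_le_subspace _ fun x => ?_
  obtain ⟨z, hz, hxz⟩ := q.isClosedMap.specializingMap (specializes_closedPoint (q x))
  exact ⟨z, hxz, Or.inr hz⟩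

theorem card_le_generic (hgen : ∀ x, q x = closedPoint A → ∃ z, z ⤳ x ∧ q z = genPt A) :
    ENat.card (_root_.ConnectedComponents X) ≤
      ENat.card (_root_.ConnectedComponents ↥(q ⁻¹' {genPt A})) := by
  refine card_connectedComponents_le_subspace _ fun x => ?_
  rcases eq_genPt_or q x with h | h
  · exact ⟨x, h, Or.inl (specializes_refl x)⟩
  · obtain ⟨z, hz, hzq⟩ := hgen x h
    exact ⟨z, hzq, Or.inl hz⟩

/-- Over a complete ring with algebraically closed residue field the closed fibre has as many geometric
components as the total space has components. -/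
theorem nGeom_closed_eq_card [IsAdicComplete (maximalIdeal A) A] [IsAlgClosed (ResidueField A)] [IsProper q] :
    MoreMor.nGeomConnComp q (closedPoint A : Spec (CommRingCat.of A)) = ENat.card (_root_.ConnectedComponents X) := by
  let s : Spec (CommRingCat.of (ResidueField A)) ⟶ Spec (CommRingCat.of A) :=
    Spec.map (CommRingCat.ofHom (Ideal.Quotient.mk (maximalIdeal A)))
  have hs : s (closedPoint (ResidueField A)) = closedPoint A := IsLocalRing.comap_closedPoint (residue A)
  rw [← hs, (nGeom_eq_counts q s (closedPoint (ResidueField A))).2]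
  exact ENat.card_congr (Equiv.ofBijective _ (ProperComp7.bijective_closedFibre (I := maximalIdeal A) q))

theorem nGeom_closed_le_generic [IsAdicComplete (maximalIdeal A) A] [IsAlgClosed (ResidueField A)] [IsProper q]
    (hgen : ∀ x, q x = closedPoint A → ∃ z, z ⤳ x ∧ q z = genPt A) :
    MoreMor.nGeomConnComp q (closedPoint A : Spec (CommRingCat.of A)) ≤ MoreMor.nGeomConnComp q (genPt A) :=
  (nGeom_closed_eq_card q).trans_le ((card_le_generic q hgen).trans (card_fibre_le_nGeom q _))

theorem card_generic_le [IsProper q]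
    (hopen : ∀ x, q x = closedPoint A → EGA43.IsOpenAt q.base x)
    (hred : ∀ w : ↥(q.fiber (closedPoint A : Spec (CommRingCat.of A))),
      _root_.IsReduced ((q.fiber (closedPoint A : Spec (CommRingCat.of A))).presheaf.stalk w)) :
    ENat.card (_root_.ConnectedComponents ↥(q ⁻¹' {genPt A})) ≤
      ENat.card (_root_.ConnectedComponents ↥(q ⁻¹' {(closedPoint A : Spec (CommRingCat.of A))})) := by
  refine le_trans ?_ (card_le_closed q)
  haveI : IsLocallyNoetherian X := LocallyOfFiniteType.isLocallyNoetherian q
  haveI : CompactSpace X := QuasiCompact.compactSpace_of_compactSpace q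
  haveI : IsNoetherian X := { }
  refine card_connectedComponents_subspace_le _ (fun x => ?_) fun x z₁ z₂ h₁ h₂ hz₁ hz₂ => ?_
  · rcases eq_genPt_or q x with h | h
    · exact ⟨x, h, specializes_refl x⟩
    · obtain ⟨z, hz, hzq⟩ := FlatDvr.exists_generization_of_isOpenAt q (hopen x h)
        (show genPt A ⤳ q x by rw [h]; exact genPt_specializes)
      exact ⟨z, hzq, hz⟩
  · rcases eq_genPt_or q x with h | h
    · exact (mk_eq_mk_of_specializes (b := (⟨x, h⟩ : ↥(q ⁻¹' {genPt A}))) ((subtype_specializes_iff _ _).2 hz₁)).trans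
        (mk_eq_mk_of_specializes ((subtype_specializes_iff _ _).2 hz₂)).symm
    · obtain ⟨w, rfl⟩ : x ∈ Set.range (q.fiberι (closedPoint A : Spec (CommRingCat.of A))) := by
        rw [Scheme.Hom.range_fiberι]; exact h
      obtain ⟨T, ⟨hT, hTc⟩, h1T, h2T⟩ := FlatDvr.exists_preconnected_generic q rfl w
        (fun t _ htq _ => hopen t (htq.trans h)) (hred w) hz₁ hz₂
        (fun e => genPt_ne (h₁.symm.trans e)) (fun e => genPt_ne (h₂.symm.trans e))
      have hsub : T ⊆ q ⁻¹' {genPt A} := fun t ht => eq_genPt (hTc t ht)
      have hpre : _root_.IsPreconnected ((Subtype.val : ↥(q ⁻¹' {genPt A}) → X) ⁻¹' T) :=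
        Topology.IsInducing.subtypeVal.isPreconnected_image.1
          (by rwa [Subtype.image_preimage_coe, Set.inter_eq_right.2 hsub])
      exact (ConnectedComponents.coe_eq_coe'.2 (hpre.subset_connectedComponent (x := (⟨z₁, h₁⟩ : ↥(q ⁻¹' {genPt A})))
        h1T (show (⟨z₂, h₂⟩ : ↥(q ⁻¹' {genPt A})) ∈ _ from h2T))).symm

/-- A finite extension of the fraction field over which all components of the generic fibre are
geometrically connected, with a discrete valuation ring in it. -/
theorem exists_dvr_splitting [LocallyOfFiniteType q] [QuasiCompact q] :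
    ∃ (A' : Type u) (_ : CommRing A') (_ : IsDomain A') (_ : IsDiscreteValuationRing A')
      (π : Spec (CommRingCat.of A') ⟶ Spec (CommRingCat.of A)),
      π (closedPoint A') = closedPoint A ∧ π (genPt A') = genPt A ∧
      ENat.card (_root_.ConnectedComponents ↥((pullback.snd q π) ⁻¹' {genPt A'})) =
        MoreMor.nGeomConnComp q (genPt A) ∧
      (IsAlgClosed (ResidueField A) → IsAlgClosed (ResidueField A')) := by
  classical
  let K := FractionRing A
  let qK := pullback.snd q (Spec.map (CommRingCat.ofHom (algebraMap A K)))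
  haveI : IsLocallyNoetherian (pullback q (Spec.map (CommRingCat.ofHom (algebraMap A K)))) :=
    LocallyOfFiniteType.isLocallyNoetherian qK
  haveI : CompactSpace ↥(pullback q (Spec.map (CommRingCat.ofHom (algebraMap A K)))) :=
    QuasiCompact.compactSpace_of_compactSpace qK
  haveI : IsNoetherian (pullback q (Spec.map (CommRingCat.ofHom (algebraMap A K)))) := { }
  haveI := finite_connectedComponents ↥(pullback q (Spec.map (CommRingCat.ofHom (algebraMap A K))))
  haveI : JacobsonSpace ↥(pullback q (Spec.map (CommRingCat.ofHom (algebraMap A K)))) :=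
    LocallyOfFiniteType.jacobsonSpace qK
  have hx : ∀ c : _root_.ConnectedComponents ↥(pullback q (Spec.map (CommRingCat.ofHom (algebraMap A K)))),
      ∃ x, _root_.ConnectedComponents.mk x = c ∧
        FBase.ResidueFieldProp qK x (fun L _ _ => FiniteDimensional K (separableClosure K L)) := by
    intro c
    obtain ⟨x₀, rfl⟩ := ConnectedComponents.surjective_coe c
    obtain ⟨x, hxc, hxcl⟩ : (connectedComponent x₀ ∩ closedPoints _).Nonempty := by
      have h := JacobsonSpace.closure_inter_closedPoints (isClosed_connectedComponent (x := x₀))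
      rw [← closure_nonempty_iff, h]
      exact ⟨x₀, mem_connectedComponent⟩
    refine ⟨x, ConnectedComponents.coe_eq_coe'.2 hxc, (Spec.preimage (Scheme.fromSpecResidueField _ x ≫ qK)).hom,
      Spec.map_preimage _, ?_⟩
    haveI : IsFinite (Scheme.fromSpecResidueField _ x ≫ qK) := by
      haveI := isClosed_singleton_iff_isClosedImmersion.mp (mem_closedPoints_iff.1 hxcl)
      rw [isFinite_iff_locallyOfFiniteType_of_jacobsonSpace]
      infer_instance
    have hfin : (Spec.preimage (Scheme.fromSpecResidueField _ x ≫ qK)).hom.Finite := by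
      rw [← IsFinite.SpecMap_iff, Spec.map_preimage]; infer_instance
    letI := (Spec.preimage (Scheme.fromSpecResidueField _ x ≫ qK)).hom.toAlgebra
    haveI : FiniteDimensional K ((pullback q (Spec.map (CommRingCat.ofHom (algebraMap A K)))).residueField x) :=
      hfin
    exact inferInstance
  obtain ⟨F, _, _, _, _, hconn⟩ := S4645.result qK hx
  letI : Algebra A F := ((algebraMap K F).comp (algebraMap A K)).toAlgebra
  haveI : IsScalarTower A K F := IsScalarTower.of_algebraMap_eq fun _ => rfl
  let B := integralClosure A F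
  haveI : IsIntegralClosure B A F := inferInstance
  haveI : IsDedekindDomain B := IsIntegralClosure.isDedekindDomain A K F B
  haveI : IsFractionRing B F := IsIntegralClosure.isFractionRing_of_finite_extension A K F B
  have hAF : Function.Injective (algebraMap A F) :=
    (algebraMap K F).injective.comp (IsFractionRing.injective A K)
  have hAB : Function.Injective (algebraMap A B) := fun a b h => hAF (congrArg Subtype.val h)
  haveI : Algebra.IsIntegral A B := ⟨fun b => IsIntegralClosure.isIntegral A F b⟩
  have hBf : ¬ IsField B := fun hf =>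
    IsDiscreteValuationRing.not_isField A (isField_of_isIntegral_of_isField hAB hf)
  obtain ⟨P, hP⟩ := Ideal.exists_maximal B
  haveI := hP
  have hPne : P ≠ ⊥ := fun h => hBf ⟨exists_pair_ne B, mul_comm, fun {a} ha => by
    obtain ⟨c, i, hi, hc⟩ := hP.exists_inv (x := a) (by rw [h]; exact fun e => ha (Ideal.mem_bot.1 e))
    rw [h, Ideal.mem_bot] at hi
    exact ⟨c, by rw [mul_comm, ← hc, hi, add_zero]⟩⟩
  let A' := Localization.subalgebra.ofField F P.primeCompl P.primeCompl_le_nonZeroDivisors
  haveI : IsLocalization.AtPrime A' P := Localization.subalgebra.isLocalization_ofField F P.primeCompl _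
  haveI : IsDiscreteValuationRing A' :=
    IsLocalization.AtPrime.isDiscreteValuationRing_of_dedekind_domain B hPne A'
  haveI : IsFractionRing A' F := inferInstance
  let φ : A →+* A' := (algebraMap B A').comp (algebraMap A B)
  let π : Spec (CommRingCat.of A') ⟶ Spec (CommRingCat.of A) := Spec.map (CommRingCat.ofHom φ)
  have hπc : π (closedPoint A') = closedPoint A := by
    refine PrimeSpectrum.ext ?_
    show Ideal.comap φ (maximalIdeal A') = maximalIdeal A
    rw [← Ideal.comap_comap]
    rw [show Ideal.comap (algebraMap B A') (maximalIdeal A') = P from IsLocalization.AtPrime.under_maximalIdeal A' P]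
    exact IsLocalRing.eq_maximalIdeal (Ideal.isMaximal_comap_of_isIntegral_of_isMaximal P)
  have hφF : (algebraMap A' F).comp φ = algebraMap A F := rfl
  have hπη : π (genPt A') = genPt A := PrimeSpectrum.ext (by
    show Ideal.comap φ ⊥ = ⊥
    rw [← RingHom.ker_eq_comap_bot, ← RingHom.injective_iff_ker_eq_bot]
    exact fun a b h => hAF (by rw [← hφF]; exact congrArg (algebraMap A' F) h))
  refine ⟨A', inferInstance, inferInstance, inferInstance, π, hπc, hπη, ?_, fun hcl => ?_⟩
  swap
  · haveI := hcl
    letI : Field (B ⧸ P) := Ideal.Quotient.field P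
    let g : ResidueField A →+* B ⧸ P := Ideal.Quotient.lift (maximalIdeal A)
      ((Ideal.Quotient.mk P).comp (algebraMap A B)) fun a ha => by
        haveI : (P.comap (algebraMap A B)).IsMaximal := Ideal.isMaximal_comap_of_isIntegral_of_isMaximal P
        rw [← IsLocalRing.eq_maximalIdeal this] at ha
        exact Ideal.Quotient.eq_zero_iff_mem.2 ha
    have hg : g.IsIntegral := RingHom.IsIntegral.tower_top (Ideal.Quotient.mk (maximalIdeal A)) g (by
      rw [show g.comp (Ideal.Quotient.mk (maximalIdeal A)) = (Ideal.Quotient.mk P).comp (algebraMap A B) from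
        RingHom.ext fun _ => rfl]
      exact RingHom.IsIntegral.trans _ _ Algebra.IsIntegral.isIntegral
        (RingHom.isIntegral_of_surjective _ Ideal.Quotient.mk_surjective))
    exact IsAlgClosed.of_ringEquiv (ResidueField A) _
      ((RingEquiv.ofBijective g (IsAlgClosed.ringHom_bijective_of_isIntegral g hg)).trans
        (IsLocalization.AtPrime.equivQuotMaximalIdeal P A'))
  let j : Spec (CommRingCat.of F) ⟶ Spec (CommRingCat.of A') := Spec.map (CommRingCat.ofHom (algebraMap A' F))
  haveI : IsPreimmersion j := IsPreimmersion.of_isLocalization (nonZeroDivisors A')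
  have hj : Set.range j = {genPt A'} := by
    refine Set.eq_singleton_iff_unique_mem.2 ⟨⟨closedPoint F, ?_⟩, ?_⟩
    · refine PrimeSpectrum.ext ?_
      show Ideal.comap (algebraMap A' F) (maximalIdeal F) = ⊥
      rw [IsLocalRing.maximalIdeal_eq_bot, ← RingHom.ker_eq_comap_bot,
        (RingHom.injective_iff_ker_eq_bot _).1 (IsFractionRing.injective A' F)]
    · rintro _ ⟨w, rfl⟩
      refine PrimeSpectrum.ext ?_
      show Ideal.comap (algebraMap A' F) (w : PrimeSpectrum F).asIdeal = ⊥
      rw [(Ideal.eq_bot_or_top (w : PrimeSpectrum F).asIdeal).resolve_right (w : PrimeSpectrum F).isPrime.ne_top,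
        ← RingHom.ker_eq_comap_bot, (RingHom.injective_iff_ker_eq_bot _).1 (IsFractionRing.injective A' F)]
  rw [← card_fibre_eq_of_embedding (pullback.snd q π) j hj]
  let iK : Spec (CommRingCat.of F) ⟶ Spec (CommRingCat.of K) := Spec.map (CommRingCat.ofHom (algebraMap K F))
  have hjπ : j ≫ π = iK ≫ Spec.map (CommRingCat.ofHom (algebraMap A K)) := by
    simp only [j, π, iK, ← Spec.map_comp, ← CommRingCat.ofHom_comp]
    rfl
  have sqZ : IsPullback (FBase.bcπ qK F ≫ pullback.fst q _) (FBase.bcStr qK F) q
      (iK ≫ Spec.map (CommRingCat.ofHom (algebraMap A K))) :=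
    (IsPullback.of_hasPullback qK iK).paste_horiz (IsPullback.of_hasPullback q _)
  have sqj : IsPullback (pullback.fst (pullback.snd q π) j ≫ pullback.fst q π) (pullback.snd (pullback.snd q π) j) q
      (iK ≫ Spec.map (CommRingCat.ofHom (algebraMap A K))) := by
    rw [← hjπ]
    exact (IsPullback.of_hasPullback _ j).paste_horiz (IsPullback.of_hasPullback q π)
  rw [card_connectedComponents_congr (sqj.isoIsPullback _ _ sqZ).hom.homeomorph]
  let Ω := SeparableClosure F
  let iΩ : Spec (CommRingCat.of Ω) ⟶ Spec (CommRingCat.of F) := Spec.map (CommRingCat.ofHom (algebraMap F Ω))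
  let s := iΩ ≫ iK ≫ Spec.map (CommRingCat.ofHom (algebraMap A K))
  have hs : s (closedPoint Ω) = genPt A := by
    refine PrimeSpectrum.ext ?_
    show Ideal.comap (algebraMap A K) (Ideal.comap (algebraMap K F) (Ideal.comap (algebraMap F Ω) (maximalIdeal Ω))) = ⊥
    rw [IsLocalRing.maximalIdeal_eq_bot, Ideal.comap_comap, Ideal.comap_comap, ← RingHom.ker_eq_comap_bot,
      ← RingHom.injective_iff_ker_eq_bot]
    exact ((algebraMap F Ω).injective.comp hAF)
  rw [← hs, (nGeom_eq_counts q s (closedPoint Ω)).2]
  have sqW : IsPullback (FBase.bcπ (FBase.bcStr qK F) Ω ≫ FBase.bcπ qK F ≫ pullback.fst q _)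
      (FBase.bcStr (FBase.bcStr qK F) Ω) q s :=
    (IsPullback.of_hasPullback (FBase.bcStr qK F) iΩ).paste_horiz sqZ
  rw [← card_connectedComponents_congr sqW.isoPullback.hom.homeomorph]
  haveI : Surjective (FBase.bcπ (FBase.bcStr qK F) Ω) := by
    haveI : Surjective iΩ := GrpSchLib.surjective_spec_map_field _
    exact MorphismProperty.pullback_fst _ _ inferInstance
  exact (Triage.GeomCount.card_connectedComponents_eq _ (FBase.bcπ (FBase.bcStr qK F) Ω).continuous
    (FBase.bcπ (FBase.bcStr qK F) Ω).surjective fun x' => (hconn Ω x').isPreconnected).symm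

end Groth.Agent.GeomLoci
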