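import Groth.Agent.GeomLoci.ConnGen
import Groth.Agent.GeomLoci.SectNhdFlat
import Groth.Agent.ConsPropLib.CoreProper
import Groth.Agent.UnivOpen.Criterion
import Groth.Agent.S9735

/-!
# Connected components of the fibres of a proper flat morphism
-/

set_option autoImplicit false
set_option linter.style.haveILetI false
set_option linter.unusedSectionVars false
set_option backward.isDefEq.respectTransparency false
set_option backward.isDefEq.respectTransparency.types false

universe u

open AlgebraicGeometry CategoryTheory Limits Topology Groth.Agent.MorLib Groth.Agent.MorLib.Desc Groth.Agent.ConsPropLib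

namespace Groth.Agent.GeomLoci

/-- A proper flat model over a noetherian base. -/
theorem exists_proper_flat_model {X S : Scheme.{u}} [IsAffine S] (f : X ⟶ S) [IsProper f] [Flat f]
    [LocallyOfFinitePresentation f] :
    ∃ (S₀ X₀ : Scheme.{u}) (f₀ : X₀ ⟶ S₀) (q : X ⟶ X₀) (π : S ⟶ S₀), IsNoetherian S₀ ∧ IsProper f₀ ∧ Flat f₀ ∧
      IsPullback q f f₀ π := by
  obtain ⟨I, _, _, D, c, hc, e, hA, hN⟩ := exists_noetherian_limit S
  haveI := hA
  haveI : ∀ (i j : I) (φ : i ⟶ j), IsAffineHom (D.map φ) := fun i j φ => isAffineHom_of_isAffine _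
  haveI : ∀ {i j : I} (φ : i ⟶ j), IsAffineHom (D.map φ) := fun φ => isAffineHom_of_isAffine _
  obtain ⟨i, X₁, u₁, g₁, hX⟩ := hasModel hc (f ≫ e.inv)
  haveI := hX.lfp; haveI := hX.qc; haveI := hX.qs
  haveI : CompactSpace ↥X₁ := QuasiCompact.compactSpace_of_compactSpace u₁
  haveI : QuasiSeparatedSpace ↥X₁ := quasiSeparatedSpace_of_quasiSeparated u₁
  have hp : IsProper (pullback.snd u₁ (c.π.app i)) :=
    of_two @IsProper hX.sq (IsPullback.of_hasPullback _ _) inferInstance
  obtain ⟨j, φ, hj⟩ := core_isProper I D c hc (fun a b f => inferInstance) i (hA i) u₁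
    inferInstance inferInstance (inferInstance : LocallyOfFinitePresentation u₁) hp
  haveI := hj
  -- the pushed model at stage `j`
  let u₂ := pullback.snd u₁ (D.map φ)
  haveI : CompactSpace ↥(pullback u₁ (D.map φ)) := QuasiCompact.compactSpace_of_compactSpace u₂
  haveI : QuasiSeparatedSpace ↥(pullback u₁ (D.map φ)) := quasiSeparatedSpace_of_quasiSeparated u₂
  have hX' := (hX.pushed φ).sq
  have hY : IsPullback (c.π.app j) (𝟙 c.pt) (𝟙 (D.obj j)) (c.π.app j) :=
    IsPullback.id_vert (c.π.app j)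
  obtain ⟨k, ψ, Xk, Yk, fk, gk, pY, pX, hk, hkX, hflat⟩ :=
    Groth.Agent.S2075.result D c hc j u₂ (𝟙 (D.obj j)) (f ≫ e.inv) (𝟙 c.pt) (c.π.app j) _ hY hX'
  haveI := hflat
  haveI : IsIso gk := hk.isIso_snd_of_isIso
  have small : IsPullback pX (fk ≫ gk) u₂ (D.map ψ) := by
    have := hkX.paste_vert hk
    rwa [Category.comp_id] at this
  let q : X ⟶ Xk := small.lift (hX.push φ) ((f ≫ e.inv) ≫ c.π.app k)
    (by rw [hX'.w, Category.assoc (f ≫ e.inv), c.w ψ])
  have hq : IsPullback q (f ≫ e.inv) (fk ≫ gk) (c.π.app k) := by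
    refine IsPullback.of_right ?_ (small.lift_snd _ _ _) small
    rw [small.lift_fst, c.w ψ]
    exact hX'
  haveI : IsProper (fk ≫ gk) := MorphismProperty.of_isPullback small inferInstance
  refine ⟨D.obj k, Xk, fk ≫ gk, q, e.inv ≫ c.π.app k, hN k, inferInstance, inferInstance, ?_⟩
  exact hq.of_iso (Iso.refl _) (Iso.refl _) e (Iso.refl _) (by simp) (by simp) (by simp) (by simp)

theorem isUnivOpenAt_of_flat {X Y : Scheme.{u}} (f : X ⟶ Y) [Flat f] [LocallyOfFinitePresentation f] (x : X) :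
    EGA43.IsUnivOpenAt f x :=
  (UnivOpen.universallyOpen_iff_forall f).1 inferInstance x

theorem nGeomConnComp_le_nhds_flat {X Y : Scheme.{u}} (f : X ⟶ Y) [IsProper f] [Flat f]
    [LocallyOfFinitePresentation f] (y : Y) :
    ∃ W ∈ nhds y, ∀ z ∈ W, MoreMor.nGeomConnComp f y ≤ MoreMor.nGeomConnComp f z ∧
      (GeometricallyReduced (f.fiberToSpecResidueField y) →
        MoreMor.nGeomConnComp f z = MoreMor.nGeomConnComp f y) := by
  obtain ⟨V, hV, hyV, -⟩ := exists_isAffineOpen_mem_and_subset (x := y) (U := ⊤) trivial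
  haveI : IsAffine (V : Scheme.{u}) := hV
  obtain ⟨S₀, X₀, f₀, q, π, _, _, _, hq⟩ := exists_proper_flat_model (pullback.snd f V.ι)
  haveI : LocallyOfFinitePresentation f₀ := GeomRedFlat5.lfp_of_noetherian f₀
  have hcount : ∀ v : (V : Scheme.{u}), MoreMor.nGeomConnComp f (V.ι v) = MoreMor.nGeomConnComp f₀ (π v) := fun v =>
    ((Triage.GeomCount.nGeom_baseChange f _ _ V.ι (IsPullback.of_hasPullback f V.ι) v).2.symm).trans
      (Triage.GeomCount.nGeom_baseChange f₀ _ q π hq v).2
  let v : (V : Scheme.{u}) := ⟨y, hyV⟩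
  have hvy : V.ι v = y := rfl
  have hopen : ∀ x : X₀, f₀ x = π v → EGA43.IsUnivOpenAt f₀ x := fun x _ => isUnivOpenAt_of_flat f₀ x
  by_cases hred : GeometricallyReduced (f.fiberToSpecResidueField y)
  · have hred₀ : GeometricallyReduced (f₀.fiberToSpecResidueField (π v)) := by
      have h1 : v ∈ {w : (V : Scheme.{u}) | GeometricallyReduced ((pullback.snd f V.ι).fiberToSpecResidueField w)} := by
        rw [S9735.result f V.ι _ _ (IsPullback.of_hasPullback f V.ι)]
        exact hred
      rw [S9735.result f₀ π _ q hq] at h1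
      exact h1
    obtain ⟨W, hW, hWeq⟩ := nGeomConnComp_eq_nhds f₀ hopen hred₀
    refine ⟨V.ι '' (π ⁻¹' W), V.ι.isOpenEmbedding.isOpenMap.image_mem_nhds (π.continuous.continuousAt.preimage_mem_nhds hW), ?_⟩
    rintro _ ⟨w, hw, rfl⟩
    have h := (hcount w).trans ((hWeq _ hw).trans (hcount v).symm)
    exact ⟨h.ge, fun _ => h⟩
  · obtain ⟨W, hW, hWle⟩ := nGeomConnComp_le_nhds f₀ hopen
    refine ⟨V.ι '' (π ⁻¹' W), V.ι.isOpenEmbedding.isOpenMap.image_mem_nhds (π.continuous.continuousAt.preimage_mem_nhds hW), ?_⟩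
    rintro _ ⟨w, hw, rfl⟩
    exact ⟨(hcount v).trans_le ((hWle _ hw).trans (hcount w).ge), fun h => absurd h hred⟩

end Groth.Agent.GeomLoci
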