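import Groth.Agent.GeomLoci.ConnDvr
import Groth.Agent.GeomLoci.Constructible
import Groth.Agent.UnivOpen.Criterion
import Groth.Agent.UnivOpenDvr5.Core
import Groth.Agent.S4514
import Groth.Agent.FibDim.Comp
import Groth.Agent.GeomRedFlat5.Nhd

/-!
# The geometric number of connected components of a proper morphism under generization
-/

set_option autoImplicit false
set_option linter.style.haveILetI false
set_option linter.unusedSectionVars false
set_option backward.isDefEq.respectTransparency false
set_option backward.isDefEq.respectTransparency.types false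

universe u

open AlgebraicGeometry CategoryTheory CategoryTheory.Limits Topology IsLocalRing

namespace Groth.Agent.GeomLoci

variable {X Y : Scheme.{u}} (f : X ⟶ Y) [IsProper f] [IsLocallyNoetherian Y] {y y' : Y}

theorem isOpenAt_baseChange {A : Type u} [CommRing A] (τ : Spec (CommRingCat.of A) ⟶ Y) {c : Spec (CommRingCat.of A)}
    (hτ : τ c = y) (hopen : ∀ x : X, f x = y → EGA43.IsUnivOpenAt f x) {x : ↥(pullback f τ)}
    (hx : pullback.snd f τ x = c) : EGA43.IsOpenAt (pullback.snd f τ).base x :=
  hopen (pullback.fst f τ x)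
    (by rw [← Scheme.Hom.comp_apply, pullback.condition, Scheme.Hom.comp_apply, hx, hτ]) _ τ x rfl

/-- The number of geometric components does not drop at a generization. -/
theorem nGeomConnComp_le_of_generization (hy : y' ⤳ y)
    (hopen : ∀ x : X, f x = y → EGA43.IsUnivOpenAt f x) :
    MoreMor.nGeomConnComp f y ≤ MoreMor.nGeomConnComp f y' := by
  by_cases hne : y = y'
  · rw [hne]
  obtain ⟨A, _, _, _, τ, hτc, hτη⟩ := UnivOpen.exists_dvr_lift hy hne
  let k' := AlgebraicClosure (ResidueField A)
  haveI : IsAdicComplete (maximalIdeal k') k' := by rw [IsLocalRing.maximalIdeal_eq_bot]; infer_instance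
  obtain ⟨A', _, _, _, _, _, hA'c, hA'f, ⟨e⟩⟩ := Groth.Agent.S4514.result (A := A) k'
  obtain ⟨hdom, hdvr, ε, -⟩ := UnivOpenDvr5.dvr_of_flat_field e
  haveI := hdom
  haveI := hdvr
  haveI := hA'c
  haveI := hA'f
  haveI : IsAlgClosed (ResidueField A') := IsAlgClosed.of_ringEquiv k' _ ε.symm
  let π : Spec (CommRingCat.of A') ⟶ Spec (CommRingCat.of A) := Spec.map (CommRingCat.ofHom (algebraMap A A'))
  have hπc : π (closedPoint A') = closedPoint A := IsLocalRing.comap_closedPoint (algebraMap A A')
  haveI : Module.FaithfullyFlat A A' := Module.FaithfullyFlat.of_flat_of_isLocalHom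
  have hπη : π (genPt A') = genPt A := PrimeSpectrum.ext (by
    show Ideal.comap (algebraMap A A') ⊥ = ⊥
    rw [← RingHom.ker_eq_comap_bot, ← RingHom.injective_iff_ker_eq_bot]
    exact FaithfulSMul.algebraMap_injective A A')
  let τ' := π ≫ τ
  have hc : τ' (closedPoint A') = y := by rw [Scheme.Hom.comp_apply, hπc, hτc]
  have hη : τ' (genPt A') = y' := by rw [Scheme.Hom.comp_apply, hπη, hτη _ genPt_ne]
  have hcount := fun t => (Triage.GeomCount.nGeom_baseChange f (pullback.snd f τ') (pullback.fst f τ') τ'
    (IsPullback.of_hasPullback f τ') t).2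
  rw [← hc, ← hη, ← hcount, ← hcount]
  exact nGeom_closed_le_generic _ fun x hx => FlatDvr.exists_generization_of_isOpenAt _
    (isOpenAt_baseChange f τ' hc hopen hx) (by rw [hx]; exact genPt_specializes)

/-- With geometrically reduced fibre the number of geometric components does not grow at a generization. -/
theorem nGeomConnComp_generization_le (hy : y' ⤳ y)
    (hopen : ∀ x : X, f x = y → EGA43.IsUnivOpenAt f x) (hred : GeometricallyReduced (f.fiberToSpecResidueField y)) :
    MoreMor.nGeomConnComp f y' ≤ MoreMor.nGeomConnComp f y := by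
  by_cases hne : y = y'
  · rw [hne]
  obtain ⟨A, _, _, _, τ, hτc, hτη⟩ := UnivOpen.exists_dvr_lift hy hne
  obtain ⟨A', _, _, _, π, hπc, hπη, hsplit, -⟩ := exists_dvr_splitting (pullback.snd f τ)
  let τ' := π ≫ τ
  have hc : τ' (closedPoint A') = y := by rw [Scheme.Hom.comp_apply, hπc, hτc]
  let f₁ := pullback.snd f τ
  let q := pullback.snd f₁ π
  let p := pullback.fst f₁ π ≫ pullback.fst f τ
  have sq : IsPullback p q f τ' :=
    (IsPullback.of_hasPullback f₁ π).paste_horiz (IsPullback.of_hasPullback f τ)
  have hpx : ∀ x, q x = closedPoint A' → f (p x) = y := fun x hx => by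
    rw [← Scheme.Hom.comp_apply, sq.w, Scheme.Hom.comp_apply, hx, hc]
  have hop : ∀ x, q x = closedPoint A' → EGA43.IsOpenAt q.base x := fun x hx => by
    let e := sq.isoPullback
    have h := isOpenAt_baseChange f τ' hc hopen (x := e.hom x)
      (by rw [← Scheme.Hom.comp_apply, IsPullback.isoPullback_hom_snd]; exact hx)
    intro U hU
    have h2 := h _ (e.hom.isOpenMap.image_mem_nhds hU)
    rw [← Scheme.Hom.comp_apply, IsPullback.isoPullback_hom_snd, Set.image_image] at h2
    have hfun : (fun w => (pullback.snd f τ').base (e.hom w)) = ⇑q.base := funext fun w => by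
      show (pullback.snd f τ') (e.hom w) = _
      rw [← Scheme.Hom.comp_apply, IsPullback.isoPullback_hom_snd]
    rwa [hfun] at h2
  have hrd : ∀ w : ↥(q.fiber (closedPoint A' : Spec (CommRingCat.of A'))),
      _root_.IsReduced ((q.fiber (closedPoint A' : Spec (CommRingCat.of A'))).presheaf.stalk w) := by
    intro w
    haveI : AlgebraicGeometry.IsReduced (q.fiber (closedPoint A' : Spec (CommRingCat.of A'))) := by
      let φ : Y.residueField y ⟶ (Spec (CommRingCat.of A')).residueField (closedPoint A') :=
        (Y.residueFieldCongr hc).inv ≫ τ'.residueFieldMap _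
      have hφ : Spec.map φ ≫ Y.fromSpecResidueField y =
          (Spec (CommRingCat.of A')).fromSpecResidueField (closedPoint A') ≫ τ' := by
        simp only [φ, Spec.map_comp, Category.assoc, Scheme.residueFieldCongr_inv,
          Scheme.residueFieldCongr_fromSpecResidueField, Scheme.Hom.SpecMap_residueFieldMap_fromSpecResidueField]
      have sq₂ : IsPullback (q.fiberι (closedPoint A') ≫ p) (q.fiberToSpecResidueField (closedPoint A')) f
          (Spec.map φ ≫ Y.fromSpecResidueField y) := by
        rw [hφ]
        exact (IsPullback.of_hasPullback q _).paste_horiz sq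
      haveI := hred.geometrically_isReduced (Spec.map φ) _ _ (IsPullback.of_right' sq₂
        (IsPullback.of_hasPullback f (Y.fromSpecResidueField y)))
      assumption
    infer_instance
  have h1 : MoreMor.nGeomConnComp f y' = MoreMor.nGeomConnComp f₁ (genPt A) := by
    rw [(Triage.GeomCount.nGeom_baseChange f f₁ (pullback.fst f τ) τ (IsPullback.of_hasPullback f τ) _).2,
      hτη _ genPt_ne]
  rw [h1, ← hsplit]
  refine (card_generic_le q hop hrd).trans ((card_fibre_le_nGeom q _).trans_eq ?_)
  rw [(Triage.GeomCount.nGeom_baseChange f q p τ' sq _).2, hc]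

theorem nGeomConnComp_le_nhds (hopen : ∀ x : X, f x = y → EGA43.IsUnivOpenAt f x) :
    ∃ V ∈ nhds y, ∀ z ∈ V, MoreMor.nGeomConnComp f y ≤ MoreMor.nGeomConnComp f z := by
  haveI : LocallyOfFinitePresentation f := GeomRedFlat5.lfp_of_noetherian f
  obtain ⟨n, hn⟩ := ENat.ne_top_iff_exists.1 (nGeomConnComp_ne_top f y)
  have hC : IsLocallyConstructible {z : Y | MoreMor.nGeomConnComp f y ≤ MoreMor.nGeomConnComp f z} := by
    have e : {z : Y | MoreMor.nGeomConnComp f y ≤ MoreMor.nGeomConnComp f z} =
        ⋂ m ∈ Finset.range n, {z : Y | MoreMor.nGeomConnComp f z = (m : ℕ∞)}ᶜ := by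
      ext z
      simp only [Set.mem_ofPred_eq, Set.mem_iInter, Finset.mem_range, Set.mem_compl_iff, ← hn]
      constructor
      · intro h m hm e
        rw [e, Nat.cast_le] at h
        exact absurd h (Nat.not_le.2 hm)
      · intro h
        obtain ⟨m, hm⟩ := ENat.ne_top_iff_exists.1 (nGeomConnComp_ne_top f z)
        rw [← hm, Nat.cast_le]
        by_contra hc
        exact h m (Nat.not_le.1 hc) hm.symm
    rw [e]
    induction Finset.range n using Finset.induction with
    | empty => simp
    | insert a s ha ih =>
      rw [Finset.set_biInter_insert]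
      exact IsLocallyConstructible.inter (fun x => let ⟨U, h1, h2, h3⟩ := (isLocallyConstructible_counts f (a : ℕ∞)).2 x; ⟨U, h1, h2, by rw [Set.preimage_compl]; exact h3.compl⟩) ih
  exact ⟨_, FibDim.mem_nhds_of_generizations hC fun z hz => nGeomConnComp_le_of_generization f hz hopen,
    fun z hz => hz⟩

theorem nGeomConnComp_eq_nhds (hopen : ∀ x : X, f x = y → EGA43.IsUnivOpenAt f x)
    (hred : GeometricallyReduced (f.fiberToSpecResidueField y)) :
    ∃ V ∈ nhds y, ∀ z ∈ V, MoreMor.nGeomConnComp f z = MoreMor.nGeomConnComp f y := by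
  haveI : LocallyOfFinitePresentation f := GeomRedFlat5.lfp_of_noetherian f
  exact ⟨_, FibDim.mem_nhds_of_generizations (isLocallyConstructible_counts f _).2 fun z hz =>
    le_antisymm (nGeomConnComp_generization_le f hz hopen hred) (nGeomConnComp_le_of_generization f hz hopen),
    fun z hz => hz⟩

end Groth.Agent.GeomLoci
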