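import Groth.Agent.GeomLoci.GeomIrredSect
import Groth.Agent.ConsPropLib.Loci
import Groth.Agent.FibDim.LocDim
import Groth.Agent.FibDim.RelDim
import Groth.Agent.UnivOpen.SectionUnivOpen
import Groth.Agent.MorLib.LimPro

/-!
# Noetherian models of geometrically irreducible section components of constant dimension
-/

set_option autoImplicit false
set_option linter.style.haveILetI false
set_option linter.unusedSectionVars false
set_option backward.isDefEq.respectTransparency false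
set_option backward.isDefEq.respectTransparency.types false

universe u

open AlgebraicGeometry CategoryTheory Limits Topology Groth.Agent.ConsPropLib

namespace Groth.Agent.GeomLoci

variable {X S : Scheme.{u}}

/-- The geometrically irreducible components have constant dimension `d`. -/
structure GoodBase (f : X ⟶ S) (g : S ⟶ X) (d : WithBot ℕ∞) : Prop where
  section_eq : g ≫ f = 𝟙 S
  irred : ∀ (y : S) (K : Type u) [Field K] [Algebra (IsLocalRing.ResidueField (S.presheaf.stalk y)) K],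
    IsIrreducible ((FBase.bcπ (f.fiberToSpecResidueField y) K ≫ f.fiberι y).base ⁻¹' (connectedComponentIn (f.base ⁻¹' {y}) (g.base y)))
  dim_eq : ∀ y : S, topologicalKrullDim ↥(connectedComponentIn (f.base ⁻¹' {y}) (g.base y)) = d

theorem dim_component_eq (f : X ⟶ S) [LocallyOfFiniteType f] (g : S ⟶ X) (hg : g ≫ f = 𝟙 S) {y : S}
    (h : GeomIrredAt f g y) :
    topologicalKrullDim ↥(connectedComponentIn (f.base ⁻¹' {y}) (g.base y)) = FlatMor.fibreDimAt f (g y) := by
  refine UnivOpen.dim_component f (UnivOpen.apply_section hg y) ?_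
  have hi := hirr_of_geomIrredAt f g h (IsLocalRing.ResidueField (S.presheaf.stalk y))
  let K := IsLocalRing.ResidueField (S.presheaf.stalk y)
  have himg := hi.image (FBase.bcπ (f.fiberToSpecResidueField y) K ≫ f.fiberι y).base
    (FBase.bcπ (f.fiberToSpecResidueField y) K ≫ f.fiberι y).continuous.continuousOn
  rwa [Set.image_preimage_eq_of_subset ?_] at himg
  intro v hv
  obtain ⟨w, rfl⟩ : v ∈ Set.range (f.fiberι y) := by
    rw [Scheme.Hom.range_fiberι]; exact connectedComponentIn_subset _ _ hv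
  obtain ⟨b, hb, -⟩ := Scheme.Pullback.exists_preimage_pullback (f := f.fiberToSpecResidueField y)
    (g := Spec.map (CommRingCat.ofHom (algebraMap (IsLocalRing.ResidueField (S.presheaf.stalk y)) K)))
    w (f.fiberToSpecResidueField y w) (Subsingleton.elim (α := PrimeSpectrum K) _ _)
  exact ⟨b, (Scheme.Hom.comp_apply _ _ _).trans (congrArg _ hb)⟩

theorem ind_of_constructible {Z : Scheme.{u}} {E : Set Z} (hE : IsConstructible E) :
    ProCons.IsIndConstructible E := fun x =>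
  ⟨Set.univ, isOpen_univ, trivial, {Subtype.val ⁻¹' E}, fun T hT => by
    rw [Set.mem_singleton_iff.1 hT]
    exact hE.isLocallyConstructible.preimage_of_isOpenEmbedding isOpen_univ.isOpenEmbedding_subtypeVal,
    (Set.sUnion_singleton _).symm⟩

/-- A pair with a section, of constant dimension, comes from a noetherian base. -/
theorem exists_goodBase_model [IsAffine S] (f : X ⟶ S) [LocallyOfFinitePresentation f] [QuasiCompact f]
    [QuasiSeparated f] (g : S ⟶ X) {d : WithBot ℕ∞} (h : GoodBase f g d) (y₁ : S) :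
    ∃ (S₀ X₀ : Scheme.{u}) (f₀ : X₀ ⟶ S₀) (g₀ : S₀ ⟶ X₀) (q : X ⟶ X₀) (π : S ⟶ S₀),
      IsNoetherian S₀ ∧ (IsReduced S → IsReduced S₀) ∧ LocallyOfFinitePresentation f₀ ∧ QuasiCompact f₀ ∧
      QuasiSeparated f₀ ∧ IsPullback q f f₀ π ∧ g ≫ q = π ≫ g₀ ∧ GoodBase f₀ g₀ d := by
  let D := NoethApprox.diagram Γ(S, ⊤)
  let c := NoethApprox.cone Γ(S, ⊤)
  let hc : IsLimit c := NoethApprox.isLimit Γ(S, ⊤)
  let e : c.pt ≅ S := S.isoSpec.symm
  haveI : ∀ i, IsAffine (D.obj i) := fun i => NoethApprox.isAffine_obj Γ(S, ⊤) i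
  haveI : ∀ i, IsNoetherian (D.obj i) := fun i => NoethApprox.isNoetherian_obj Γ(S, ⊤) i
  haveI : ∀ {i j} (φ : i ⟶ j), IsAffineHom (D.map φ) := fun φ => isAffineHom_of_isAffine _
  haveI : ∀ i j (φ : i ⟶ j), IsAffineHom (D.map φ) := fun i j φ => isAffineHom_of_isAffine _
  obtain ⟨i, X₁, u₁, g₁, hX₀⟩ := hasModel hc (f ≫ e.inv)
  haveI := hX₀.lfp; haveI := hX₀.compactSpace; haveI := hX₀.quasiSeparatedSpace
  have hY : IsPullback (c.π.app i) (𝟙 c.pt) (𝟙 (D.obj i)) (c.π.app i) := IsPullback.id_vert (c.π.app i)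
  obtain ⟨l, χ, fl, sY, sX, hfl, hB1, hB2, hA1, hA2, hs⟩ := Groth.Agent.S9218.result D c hc i (𝟙 (D.obj i)) u₁
    (c.π.app i) (𝟙 c.pt) hY g₁ (f ≫ e.inv) hX₀.sq (e.hom ≫ g)
    (by rw [Category.assoc, reassoc_of% h.section_eq, e.hom_inv_id])
  have mX := hX₀.pushed χ
  haveI : IsIso (pullback.snd (𝟙 (D.obj i)) (D.map χ)) := inferInstance
  let g₂ : D.obj l ⟶ pullback u₁ (D.map χ) := inv (pullback.snd (𝟙 (D.obj i)) (D.map χ)) ≫ fl
  let f₂ := pullback.snd u₁ (D.map χ)
  have hg₂ : g₂ ≫ f₂ = 𝟙 _ := by simp only [g₂, f₂, Category.assoc, hfl, IsIso.inv_hom_id]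
  have eX : sX = hX₀.push χ := pullback.hom_ext (hA1.trans (hX₀.push_fst χ).symm) (hA2.trans (hX₀.push_snd χ).symm)
  have hcomp : (e.hom ≫ g) ≫ sX = c.π.app l ≫ g₂ := by
    have h1 : sY = c.π.app l ≫ inv (pullback.snd (𝟙 (D.obj i)) (D.map χ)) := by
      rw [IsIso.eq_comp_inv]
      exact hB2.trans (Category.id_comp _)
    rw [← hs, h1, Category.assoc]
  haveI := mX.lfp; haveI := mX.qc; haveI := mX.qs
  have hbase : IsPullback (hX₀.push χ) f f₂ (e.inv ≫ c.π.app l) :=
    mX.sq.of_iso (Iso.refl _) (Iso.refl _) e (Iso.refl _) (by simp) (by simp) (by simp; rfl) (by simp)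
  have hgq : g ≫ hX₀.push χ = (e.inv ≫ c.π.app l) ≫ g₂ := by
    rw [Category.assoc, ← hcomp, ← eX, Category.assoc, e.inv_hom_id_assoc]
  have hG : ∀ y : S, GeomIrredAt f₂ g₂ ((e.inv ≫ c.π.app l) y) ∧
      FlatMor.fibreDimAt f₂ (g₂ ((e.inv ≫ c.π.app l) y)) = d := fun y => by
    have h1 := geomIrredAt_of_hirr f g h.irred y
    refine ⟨(geomIrredAt_iff_of_isPullback f₂ g₂ hbase hg₂ h.section_eq hgq y).1 h1, ?_⟩
    rw [← Scheme.Hom.comp_apply, ← hgq, Scheme.Hom.comp_apply, ← FibDim.fibreDimAt_baseChange hbase,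
      ← dim_component_eq f g h.section_eq h1]
    exact h.dim_eq y
  have hdim : IsConstructible {z : D.obj l | FlatMor.fibreDimAt f₂ (g₂ z) = d} := by
    rw [show {z : D.obj l | FlatMor.fibreDimAt f₂ (g₂ z) = d} = g₂ ⁻¹' {x | FlatMor.fibreDimAt f₂ x = d} from rfl]
    have hle : ∀ n : ℕ, IsConstructible (g₂ ⁻¹' {x | FlatMor.fibreDimAt f₂ x ≤ n}) := fun n =>
      IsRetrocompact.isConstructible ((FibDim.isOpen_fibreDimAt_le f₂ n).preimage g₂.continuous)
        fun U _ _ => TopologicalSpace.NoetherianSpace.isCompact _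
    obtain ⟨x, -, -, -, hx⟩ := FibDim.exists_fibMax_generization f₂ (g₂ ((e.inv ≫ c.π.app l) y₁))
    have hd : d = ((FibDim.rd f₂ x : ℕ∞) : WithBot ℕ∞) := (hG y₁).2.symm.trans hx
    have key : {x' | FlatMor.fibreDimAt f₂ x' = d} = {x' | FlatMor.fibreDimAt f₂ x' ≤ (FibDim.rd f₂ x : ℕ)} ∩
        ⋂ (m : Fin (FibDim.rd f₂ x)), {x' | FlatMor.fibreDimAt f₂ x' ≤ (m : ℕ)}ᶜ := by
      ext x'
      obtain ⟨v, -, -, -, hv⟩ := FibDim.exists_fibMax_generization f₂ x'
      simp only [Set.mem_ofPred_eq, Set.mem_inter_iff, Set.mem_iInter, Set.mem_compl_iff, hv, hd]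
      norm_cast
      exact ⟨fun h => ⟨h.le, fun m => by omega⟩, fun ⟨h, h'⟩ => le_antisymm h (by
        by_contra hlt
        exact h' ⟨FibDim.rd f₂ v, by omega⟩ le_rfl)⟩
    rw [key, Set.preimage_inter, Set.preimage_iInter]
    exact (hle _).inter (IsConstructible.iInter fun m => (hle m).compl)
  have hgood := (isConstructible_geomIrredAt f₂ g₂ hg₂).inter hdim
  obtain ⟨j, φ, hsub⟩ := MorLib.LimPro.exists_subset hc l (A := Set.univ) MorLib.LimCons.pro_univ
    (ind_of_constructible hgood) (fun p _ => by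
      have := hG (e.hom p)
      rwa [← Scheme.Hom.comp_apply, e.hom_inv_id_assoc] at this)
  let f₃ := pullback.snd f₂ (D.map φ)
  let g₃ : D.obj j ⟶ pullback f₂ (D.map φ) := pullback.lift (D.map φ ≫ g₂) (𝟙 _)
    (by rw [Category.assoc, hg₂, Category.comp_id, Category.id_comp])
  have hg₃ : g₃ ≫ f₃ = 𝟙 _ := pullback.lift_snd _ _ _
  have mX' := mX.pushed φ
  haveI := mX'.lfp; haveI := mX'.qc; haveI := mX'.qs
  have hbase₃ : IsPullback (mX.push φ) f f₃ (e.inv ≫ c.π.app j) :=
    mX'.sq.of_iso (Iso.refl _) (Iso.refl _) e (Iso.refl _) (by simp) (by simp) (by simp; rfl) (by simp)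
  refine ⟨D.obj j, _, f₃, g₃, mX.push φ, e.inv ≫ c.π.app j, inferInstance, fun hred => ?_, inferInstance,
    inferInstance, inferInstance, hbase₃, ?_, hg₃, fun z => ?_, fun z => ?_⟩
  · haveI := hred
    haveI : _root_.IsReduced (Algebra.adjoin ℤ ((j.unop : Finset Γ(S, ⊤)) : Set Γ(S, ⊤))) :=
      isReduced_of_injective (Subalgebra.val _) Subtype.val_injective
    exact inferInstanceAs (IsReduced (Spec (CommRingCat.of
      (Algebra.adjoin ℤ ((j.unop : Finset Γ(S, ⊤)) : Set Γ(S, ⊤))))))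
  · apply pullback.hom_ext
    · rw [Category.assoc, mX.push_fst, hgq, Category.assoc, Category.assoc, Category.assoc, pullback.lift_fst,
        ← c.w φ, Category.assoc]
    · rw [Category.assoc, mX.push_snd, Category.assoc, Category.assoc, pullback.lift_snd,
        Category.comp_id, reassoc_of% h.section_eq]
  · exact fun K _ _ => hirr_of_geomIrredAt f₃ g₃ ((geomIrredAt_iff_of_isPullback f₂ g₂
      (IsPullback.of_hasPullback f₂ (D.map φ)) hg₂ hg₃ (pullback.lift_fst _ _ _) z).2 (hsub (Set.mem_univ z)).1) K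
  · have hGz := (geomIrredAt_iff_of_isPullback f₂ g₂
      (IsPullback.of_hasPullback f₂ (D.map φ)) hg₂ hg₃ (pullback.lift_fst _ _ _) z).2 (hsub (Set.mem_univ z)).1
    rw [dim_component_eq f₃ g₃ hg₃ hGz,
      FibDim.fibreDimAt_baseChange (IsPullback.of_hasPullback f₂ (D.map φ)) (g₃ z), ← Scheme.Hom.comp_apply,
      pullback.lift_fst, Scheme.Hom.comp_apply]
    exact (hsub (Set.mem_univ z)).2

end Groth.Agent.GeomLoci
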