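import Groth.Agent.GeomLoci.SectClopen
import Groth.Agent.ConsPropLib.Noetherian
import Groth.Agent.FlatDvr.FibreStalk
import Groth.Agent.FibDim.BaseChange
import Groth.Prelude.Def_FDesc

/-!
# The locus where the section component is geometrically irreducible
-/

set_option autoImplicit false
set_option linter.style.haveILetI false
set_option linter.unusedSectionVars false
set_option backward.isDefEq.respectTransparency false
set_option backward.isDefEq.respectTransparency.types false

universe u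

open AlgebraicGeometry CategoryTheory CategoryTheory.Limits Topology

namespace Groth.Agent.GeomLoci

variable {X Y : Scheme.{u}} (f : X ⟶ Y) (g : Y ⟶ X)

/-- The section component over `y` is geometrically irreducible, tested on separably closed points. -/
def GeomIrredAt (y : Y) : Prop :=
  ∀ (L : Type u) [Field L] [IsSepClosed L] (s : Spec (CommRingCat.of L) ⟶ Y) (z : Spec (CommRingCat.of L)),
    s z = y → IsIrreducible (pullback.fst f s ⁻¹' MoreMor.sectionComponents f g)

/-- The point of `L` over `y` through which a field point factors. -/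
theorem exists_factor {L : Type u} [Field L] (s : Spec (CommRingCat.of L) ⟶ Y) (z : Spec (CommRingCat.of L)) :
    ∃ φ : Y.residueField (s z) ⟶ CommRingCat.of L, Spec.map φ ≫ Y.fromSpecResidueField (s z) = s := by
  have hz : IsLocalRing.closedPoint L = z := Subsingleton.elim (α := PrimeSpectrum L) _ _
  obtain ⟨⟨y, φ⟩, hs⟩ := (Scheme.SpecToEquivOfField L Y).symm.surjective s
  have hy : s z = y := by
    rw [← hs]
    show (Spec.map φ ≫ Y.fromSpecResidueField y) z = y
    rw [Scheme.Hom.comp_apply, Scheme.fromSpecResidueField_apply]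
  refine ⟨(Y.residueFieldCongr hy).hom ≫ φ, ?_⟩
  conv_rhs => rw [← hs]
  show _ = Spec.map φ ≫ Y.fromSpecResidueField y
  rw [Spec.map_comp, Category.assoc, Scheme.residueFieldCongr_fromSpecResidueField]

theorem geometricallyIrreducible_of_sepClosed {L M : Type u} [Field L] [IsSepClosed L] [Field M]
    (m : Spec (CommRingCat.of M) ⟶ Spec (CommRingCat.of L)) : GeometricallyIrreducible m ∧ UniversallyOpen m := by
  obtain ⟨φ, rfl⟩ := Spec.map_surjective m
  letI : Algebra L M := φ.hom.toAlgebra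
  have hφ : Spec.map φ = Spec.map (CommRingCat.ofHom (algebraMap L M)) := rfl
  exact ⟨hφ ▸ GeomConn5.geometricallyIrreducible_spec_field L M
    fun x hx => Triage.GeomCount.range_of_sepClosed L M x hx, VarGeom.universallyOpen_of_field _⟩

theorem isIrreducible_preimage_sepClosed_ext {L M : Type u} [Field L] [IsSepClosed L] [Field M]
    (s : Spec (CommRingCat.of L) ⟶ Y) (m : Spec (CommRingCat.of M) ⟶ Spec (CommRingCat.of L)) {S : Set X}
    (h : IsIrreducible (pullback.fst f s ⁻¹' S)) : IsIrreducible (pullback.fst f (m ≫ s) ⁻¹' S) := by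
  obtain ⟨hi, ho⟩ := geometricallyIrreducible_of_sepClosed m
  let e := pullbackLeftPullbackSndIso f s m
  let p := pullback.fst (pullback.snd f s) m
  have h1 : IsIrreducible (p ⁻¹' (pullback.fst f s ⁻¹' S)) := p.isIrreducible_preimage p.isOpenMap h
  have heq : e.hom ⁻¹' (pullback.fst f (m ≫ s) ⁻¹' S) = p ⁻¹' (pullback.fst f s ⁻¹' S) := by
    ext v
    simp only [Set.mem_preimage, ← Scheme.Hom.comp_apply, e, p, pullbackLeftPullbackSndIso_hom_fst]
  rw [← heq] at h1
  have h2 := h1.image e.hom e.hom.continuous.continuousOn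
  rwa [Set.image_preimage_eq _ (e.hom.surjective : Function.Surjective e.hom)] at h2

theorem isIrreducible_preimage_of_ext {L M : Type u} [Field L] [Field M]
    (s : Spec (CommRingCat.of L) ⟶ Y) (m : Spec (CommRingCat.of M) ⟶ Spec (CommRingCat.of L)) {S : Set X}
    (h : IsIrreducible (pullback.fst f (m ≫ s) ⁻¹' S)) : IsIrreducible (pullback.fst f s ⁻¹' S) := by
  let p : pullback f (m ≫ s) ⟶ pullback f s :=
    (pullbackLeftPullbackSndIso f s m).inv ≫ pullback.fst (pullback.snd f s) m
  haveI : Surjective m := ⟨fun q => ⟨IsLocalRing.closedPoint M, Subsingleton.elim (α := PrimeSpectrum L) _ _⟩⟩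
  haveI : Surjective p := inferInstance
  have hp : p ≫ pullback.fst f s = pullback.fst f (m ≫ s) := by simp [p]
  have h1 := h.image p p.continuous.continuousOn
  have heq : pullback.fst f (m ≫ s) ⁻¹' S = p ⁻¹' (pullback.fst f s ⁻¹' S) := by
    ext v
    simp only [Set.mem_preimage, ← Scheme.Hom.comp_apply, hp]
  rwa [heq, Set.image_preimage_eq _ p.surjective] at h1

/-- One separably closed point is enough. -/
theorem geomIrredAt_of_one {L : Type u} [Field L] [IsSepClosed L] (s : Spec (CommRingCat.of L) ⟶ Y)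
    (z : Spec (CommRingCat.of L)) (h : IsIrreducible (pullback.fst f s ⁻¹' MoreMor.sectionComponents f g)) :
    GeomIrredAt f g (s z) := by
  intro L' _ _ s' z' hz'
  obtain ⟨φ, hφ⟩ := exists_factor s z
  obtain ⟨φ', hφ'⟩ := exists_factor s' z'
  letI : Algebra (Y.residueField (s z)) L := φ.hom.toAlgebra
  letI : Algebra (Y.residueField (s z)) L' := ((Y.residueFieldCongr hz').inv ≫ φ').hom.toAlgebra
  obtain ⟨M, _, i, i', hc⟩ := FibDim.exists_fieldCompositum (Y.residueField (s z)) L L'
  let m : Spec (CommRingCat.of M) ⟶ Spec (CommRingCat.of L) := Spec.map (CommRingCat.ofHom i)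
  let m' : Spec (CommRingCat.of M) ⟶ Spec (CommRingCat.of L') := Spec.map (CommRingCat.ofHom i')
  refine isIrreducible_preimage_of_ext f s' m' ?_
  have h1 := isIrreducible_preimage_sepClosed_ext f s m h
  have heq : m' ≫ s' = m ≫ s := by
    rw [← hφ', ← hφ]
    have hc : φ ≫ CommRingCat.ofHom i =
        ((Y.residueFieldCongr hz').inv ≫ φ') ≫ CommRingCat.ofHom i' :=
      CommRingCat.hom_ext (RingHom.ext hc)
    have hf : Y.fromSpecResidueField (s' z') =
        Spec.map (Y.residueFieldCongr hz').inv ≫ Y.fromSpecResidueField (s z) := by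
      rw [Scheme.residueFieldCongr_inv, Scheme.residueFieldCongr_fromSpecResidueField]
    rw [hf]
    simp only [m, m', ← Spec.map_comp_assoc]
    rw [hc, Category.assoc]
  rw [heq]
  exact h1

theorem geomIrredAt_iff_of_isPullback {X' Y' : Scheme.{u}} {f' : X' ⟶ Y'} {g' : Y' ⟶ X'} {p : X' ⟶ X}
    {h : Y' ⟶ Y} (sq : IsPullback p f' f h) (hg : g ≫ f = 𝟙 Y) (hg' : g' ≫ f' = 𝟙 Y') (hgp : g' ≫ p = h ≫ g)
    (y' : Y') : GeomIrredAt f' g' y' ↔ GeomIrredAt f g (h y') := by
  have hbc := S1324.result f g hg f' p h sq g' hg' hgp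
  have key : ∀ (L : Type u) [Field L] (s : Spec (CommRingCat.of L) ⟶ Y'),
      IsIrreducible (pullback.fst f' s ⁻¹' MoreMor.sectionComponents f' g') ↔
        IsIrreducible (pullback.fst f (s ≫ h) ⁻¹' MoreMor.sectionComponents f g) := by
    intro L _ s
    let e := ((IsPullback.of_hasPullback f' s).paste_horiz sq).isoPullback
    have he : pullback.fst f' s ⁻¹' MoreMor.sectionComponents f' g' =
        e.hom ⁻¹' (pullback.fst f (s ≫ h) ⁻¹' MoreMor.sectionComponents f g) := by
      ext v
      simp only [hbc, Set.mem_preimage, ← Scheme.Hom.comp_apply, e, IsPullback.isoPullback_hom_fst]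
    rw [he]
    constructor
    · intro hi
      have := hi.image e.hom e.hom.continuous.continuousOn
      rwa [Set.image_preimage_eq _ (e.hom.surjective : Function.Surjective e.hom)] at this
    · intro hi
      exact ⟨hi.nonempty.preimage (e.hom.surjective : Function.Surjective e.hom), hi.2.preimage e.hom.isOpenEmbedding⟩
  constructor
  · intro hG
    let L := AlgebraicClosure (Y'.residueField y')
    let s : Spec (CommRingCat.of L) ⟶ Y' :=
      Spec.map (CommRingCat.ofHom (algebraMap (Y'.residueField y') L)) ≫ Y'.fromSpecResidueField y'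
    have hs : s (IsLocalRing.closedPoint L) = y' := by
      rw [Scheme.Hom.comp_apply]; exact Scheme.fromSpecResidueField_apply _ _
    have h1 := geomIrredAt_of_one f g (s ≫ h) (IsLocalRing.closedPoint L) ((key L s).1 (hG L s _ hs))
    rwa [Scheme.Hom.comp_apply, hs] at h1
  · intro hG L _ _ s z hz
    exact (key L s).2 (hG L (s ≫ h) z (by rw [Scheme.Hom.comp_apply, hz]))

theorem geomIrredAt_of_hirr (hgi : ∀ (y : Y) (K : Type u) [Field K] [Algebra (IsLocalRing.ResidueField (Y.presheaf.stalk y)) K],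
      IsIrreducible ((FBase.bcπ (f.fiberToSpecResidueField y) K ≫ f.fiberι y).base ⁻¹' (connectedComponentIn (f.base ⁻¹' {y}) (g.base y))))
    (y : Y) : GeomIrredAt f g y := by
  intro L _ _ s z hz
  subst hz
  obtain ⟨φ, hφ⟩ := exists_factor s z
  letI : Algebra (IsLocalRing.ResidueField (Y.presheaf.stalk (s z))) L := φ.hom.toAlgebra
  have sq : IsPullback (FBase.bcπ (f.fiberToSpecResidueField (s z)) L ≫ f.fiberι (s z))
      (FBase.bcStr (f.fiberToSpecResidueField (s z)) L) f (Spec.map φ ≫ Y.fromSpecResidueField (s z)) :=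
    (IsPullback.of_hasPullback (f.fiberToSpecResidueField (s z))
      (Spec.map (CommRingCat.ofHom (algebraMap (IsLocalRing.ResidueField (Y.presheaf.stalk (s z))) L)))).paste_horiz
      (IsPullback.of_hasPullback f (Y.fromSpecResidueField (s z)))
  rw [hφ] at sq
  let e := sq.isoPullback
  have h1 := (hgi (s z) L).image e.hom e.hom.continuous.continuousOn
  convert h1 using 1
  ext v
  obtain ⟨w, rfl⟩ := e.hom.homeomorph.surjective v
  change e.hom w ∈ pullback.fst f s ⁻¹' _ ↔ e.hom w ∈ _ '' _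
  have hmem : pullback.fst f s (e.hom w) = (FBase.bcπ (f.fiberToSpecResidueField (s z)) L ≫ f.fiberι (s z)) w := by
    rw [← Scheme.Hom.comp_apply, IsPullback.isoPullback_hom_fst]
  rw [Set.mem_preimage, hmem]
  have hfw : f ((FBase.bcπ (f.fiberToSpecResidueField (s z)) L ≫ f.fiberι (s z)) w) = s z := by
    rw [Scheme.Hom.comp_apply, FlatDvr.fiberι_apply_eq]
  show (_ ∈ connectedComponentIn (f ⁻¹' {_}) (g _)) ↔ _
  rw [hfw]
  refine ⟨fun hw => ⟨w, hw, rfl⟩, ?_⟩
  rintro ⟨w', hw', hww⟩
  rw [← e.hom.homeomorph.injective hww]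
  exact hw'

theorem hirr_of_geomIrredAt {y : Y} (h : GeomIrredAt f g y) (K : Type u) [Field K]
    [Algebra (IsLocalRing.ResidueField (Y.presheaf.stalk y)) K] :
    IsIrreducible ((FBase.bcπ (f.fiberToSpecResidueField y) K ≫ f.fiberι y).base ⁻¹' (connectedComponentIn (f.base ⁻¹' {y}) (g.base y))) := by
  let s : Spec (CommRingCat.of K) ⟶ Y :=
    Spec.map (CommRingCat.ofHom (algebraMap (IsLocalRing.ResidueField (Y.presheaf.stalk y)) K)) ≫ Y.fromSpecResidueField y
  have sq : IsPullback (FBase.bcπ (f.fiberToSpecResidueField y) K ≫ f.fiberι y)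
      (FBase.bcStr (f.fiberToSpecResidueField y) K) f s :=
    (IsPullback.of_hasPullback (f.fiberToSpecResidueField y)
      (Spec.map (CommRingCat.ofHom (algebraMap (IsLocalRing.ResidueField (Y.presheaf.stalk y)) K)))).paste_horiz
      (IsPullback.of_hasPullback f (Y.fromSpecResidueField y))
  let Ω := AlgebraicClosure K
  let m : Spec (CommRingCat.of Ω) ⟶ Spec (CommRingCat.of K) := Spec.map (CommRingCat.ofHom (algebraMap K Ω))
  have hs : (m ≫ s) (IsLocalRing.closedPoint Ω) = y := by
    rw [Scheme.Hom.comp_apply, Scheme.Hom.comp_apply]; exact Scheme.fromSpecResidueField_apply _ _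
  have h1 := isIrreducible_preimage_of_ext f s m (h Ω (m ≫ s) _ hs)
  let e := sq.isoPullback
  have h2 : IsIrreducible (e.hom ⁻¹' (pullback.fst f s ⁻¹' MoreMor.sectionComponents f g)) :=
    ⟨h1.nonempty.preimage (e.hom.surjective : Function.Surjective e.hom), h1.2.preimage e.hom.isOpenEmbedding⟩
  convert h2 using 1
  ext w
  have hmem : pullback.fst f s (e.hom w) = (FBase.bcπ (f.fiberToSpecResidueField y) K ≫ f.fiberι y) w := by
    rw [← Scheme.Hom.comp_apply, IsPullback.isoPullback_hom_fst]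
  have hfw : f ((FBase.bcπ (f.fiberToSpecResidueField y) K ≫ f.fiberι y) w) = y := by
    rw [Scheme.Hom.comp_apply, FlatDvr.fiberι_apply_eq]
  simp only [Set.mem_preimage]
  rw [hmem]
  show _ ↔ _ ∈ connectedComponentIn (f ⁻¹' {_}) (g _)
  rw [hfw]

theorem isPreirreducible_of_image {α β : Type*} [TopologicalSpace α] [TopologicalSpace β] {e : α → β}
    (he : IsInducing e) {s : Set α} (h : IsPreirreducible (e '' s)) : IsPreirreducible s := by
  intro u v hu hv ⟨a, ha, hau⟩ ⟨b, hb, hbv⟩
  obtain ⟨u', hu', rfl⟩ := he.isOpen_iff.1 hu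
  obtain ⟨v', hv', rfl⟩ := he.isOpen_iff.1 hv
  obtain ⟨_, ⟨c, hc, rfl⟩, hcu, hcv⟩ := h u' v' hu' hv' ⟨e a, ⟨a, ha, rfl⟩, hau⟩ ⟨e b, ⟨b, hb, rfl⟩, hbv⟩
  exact ⟨c, hc, hcu, hcv⟩

/-- Over a domain, geometric irreducibility of the section component is constant near the generic point. -/
theorem exists_geomIrred_eq {A : Type u} [CommRing A] [IsDomain A] {X : Scheme.{u}}
    (f : X ⟶ Spec (CommRingCat.of A)) [LocallyOfFiniteType f] [QuasiCompact f]
    (g : Spec (CommRingCat.of A) ⟶ X) (hg : g ≫ f = 𝟙 _) :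
    ∃ a : A, a ≠ 0 ∧ ∀ y : Spec (CommRingCat.of A), a ∉ y.asIdeal →
      (GeomIrredAt f g y ↔ GeomIrredAt f g ⟨⊥, Ideal.isPrime_bot⟩) := by
  obtain ⟨a, ha, Zp, Zm, hZp, -, hS⟩ := exists_sectionComponents_clopen f g hg
  let j := (Scheme.IdealSheafData.vanishingIdeal ⟨Zp, hZp⟩).subschemeι
  have hj : Set.range j = Zp := by
    rw [Scheme.IdealSheafData.range_subschemeι, Scheme.IdealSheafData.coe_support_vanishingIdeal]
    rfl
  obtain ⟨b, hb, hcount⟩ := exists_nGeom_eq (j ≫ f)
  have key : ∀ y : Spec (CommRingCat.of A), a ∉ y.asIdeal →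
      (GeomIrredAt f g y ↔ MoreMor.nGeomIrredComp (j ≫ f) y = 1) := by
    intro y hy
    let L := AlgebraicClosure y.asIdeal.ResidueField
    let φ : A →+* L := (algebraMap y.asIdeal.ResidueField L).comp (algebraMap A y.asIdeal.ResidueField)
    let s : Spec (CommRingCat.of L) ⟶ Spec (CommRingCat.of A) := Spec.map (CommRingCat.ofHom φ)
    let z : Spec (CommRingCat.of L) := ⟨⊥, Ideal.isPrime_bot⟩
    have hker : RingHom.ker φ = y.asIdeal := by
      rw [RingHom.ker_comp_of_injective _ (algebraMap y.asIdeal.ResidueField L).injective]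
      exact Ideal.ker_algebraMap_residueField _
    have hs : s z = y := PrimeSpectrum.ext hker
    let i := pullbackRightPullbackFstIso f s j
    let e : pullback (j ≫ f) s ⟶ pullback f s := i.inv ≫ pullback.snd j (pullback.fst f s)
    have he : Set.range e = pullback.fst f s ⁻¹' MoreMor.sectionComponents f g := by
      rw [show ⇑e = pullback.snd j (pullback.fst f s) ∘ i.inv from funext fun _ => Scheme.Hom.comp_apply _ _ _,
        Set.range_comp, i.inv.surjective.range_eq, Set.image_univ, Scheme.Pullback.range_snd, hj]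
      ext v
      have hv : f (pullback.fst f s v) = y := by
        rw [← Scheme.Hom.comp_apply, pullback.condition, Scheme.Hom.comp_apply,
          Subsingleton.elim (α := PrimeSpectrum L) (pullback.snd f s v) z, hs]
      exact (hS _ (by rw [hv]; exact hy)).1.symm
    have hn := (nGeom_eq_counts (j ≫ f) s z).1
    rw [hs] at hn
    rw [hn]
    constructor
    · intro hG
      haveI : IrreducibleSpace ↥(pullback (j ≫ f) s) := by
        refine (irreducibleSpace_def _).2 ?_
        have h1 := hG L s z hs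
        rw [← he, ← Set.image_univ] at h1
        exact ⟨h1.nonempty.of_image, isPreirreducible_of_image e.isClosedEmbedding.isInducing h1.2⟩
      exact encard_of_irreducibleSpace
    · intro hc
      haveI := irreducibleSpace_of_encard hc
      have h1 := geomIrredAt_of_one f g s z (he ▸ Set.image_univ ▸
        (IrreducibleSpace.isIrreducible_univ _).image e e.continuous.continuousOn)
      rwa [hs] at h1
  refine ⟨a * b, mul_ne_zero ha hb, fun y hy => ?_⟩
  have hy' : a ∉ y.asIdeal ∧ b ∉ y.asIdeal :=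
    ⟨fun h => hy (y.asIdeal.mul_mem_right _ h), fun h => hy (y.asIdeal.mul_mem_left _ h)⟩
  rw [key y hy'.1, key ⟨⊥, Ideal.isPrime_bot⟩ (fun h => ha h), (hcount y hy'.2).1]

theorem exists_geomIrred_eq_nhds [LocallyOfFiniteType f] [QuasiCompact f] (hg : g ≫ f = 𝟙 Y) (y : Y) :
    ∃ V : Set Y, IsOpen V ∧ y ∈ V ∧ ∀ y' ∈ closure {y} ∩ V, (GeomIrredAt f g y' ↔ GeomIrredAt f g y) := by
  obtain ⟨_, ⟨U, hU, rfl⟩, hyU, -⟩ := Y.isBasis_affineOpens.exists_subset_of_mem_open (Set.mem_univ y) isOpen_univ
  obtain ⟨b, rfl⟩ : y ∈ Set.range hU.fromSpec := by rw [hU.range_fromSpec]; exact hyU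
  haveI : b.asIdeal.IsPrime := b.2
  let R := Γ(Y, U)
  let A := R ⧸ b.asIdeal
  let i : Spec (CommRingCat.of A) ⟶ Y :=
    Spec.map (CommRingCat.ofHom (Ideal.Quotient.mk b.asIdeal)) ≫ hU.fromSpec
  let f' := pullback.snd f i
  let g' : Spec (CommRingCat.of A) ⟶ pullback f i := pullback.lift (i ≫ g) (𝟙 _)
    (by rw [Category.assoc, hg, Category.comp_id, Category.id_comp])
  obtain ⟨a, ha, h⟩ := exists_geomIrred_eq f' g' (pullback.lift_snd _ _ _)
  obtain ⟨r, rfl⟩ := Ideal.Quotient.mk_surjective a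
  have hbot : PrimeSpectrum.comap (Ideal.Quotient.mk b.asIdeal) ⟨⊥, Ideal.isPrime_bot⟩ = b :=
    PrimeSpectrum.ext (by show Ideal.comap (Ideal.Quotient.mk b.asIdeal) ⊥ = _; exact Ideal.mk_ker)
  have hi : ∀ P : Spec (CommRingCat.of A), i P =
      hU.fromSpec (PrimeSpectrum.comap (Ideal.Quotient.mk b.asIdeal) P) := fun P => Scheme.Hom.comp_apply _ _ _
  have hiff : ∀ P, GeomIrredAt f' g' P ↔ GeomIrredAt f g (i P) := fun P =>
    geomIrredAt_iff_of_isPullback f g (IsPullback.of_hasPullback f i) hg (pullback.lift_snd _ _ _)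
      (pullback.lift_fst _ _ _) P
  refine ⟨hU.fromSpec '' (PrimeSpectrum.basicOpen r : Set (PrimeSpectrum R)),
    hU.fromSpec.isOpenEmbedding.isOpenMap _ (PrimeSpectrum.basicOpen r).isOpen,
    ⟨b, fun h => ha (Ideal.Quotient.eq_zero_iff_mem.2 h), rfl⟩, ?_⟩
  rintro _ ⟨hcl, c, hc, rfl⟩
  have hbc : b.asIdeal ≤ c.asIdeal := by
    have h1 : c ∈ closure {b} := by
      rw [hU.fromSpec.isOpenEmbedding.isInducing.closure_eq_preimage_closure_image, Set.image_singleton]
      exact hcl
    rw [PrimeSpectrum.closure_singleton] at h1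
    exact h1
  haveI : c.asIdeal.IsPrime := c.2
  let P : Spec (CommRingCat.of A) := ⟨c.asIdeal.map (Ideal.Quotient.mk b.asIdeal),
    Ideal.map_isPrime_of_surjective Ideal.Quotient.mk_surjective (by rw [Ideal.mk_ker]; exact hbc)⟩
  have hcomap : Ideal.comap (Ideal.Quotient.mk b.asIdeal) P.asIdeal = c.asIdeal :=
    (Ideal.comap_map_of_surjective' _ Ideal.Quotient.mk_surjective _).trans
      (by rw [Ideal.mk_ker, sup_eq_left.2 hbc])
  have hPc : i P = hU.fromSpec c := by rw [hi]; exact congrArg hU.fromSpec (PrimeSpectrum.ext hcomap)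
  rw [← hPc, ← hiff, h P fun hm => hc (hcomap.le hm), hiff, hi, hbot]

theorem isConstructible_geomIrredAt [IsNoetherian Y] [LocallyOfFiniteType f] [QuasiCompact f]
    (hg : g ≫ f = 𝟙 Y) : IsConstructible {y : Y | GeomIrredAt f g y} := by
  refine ConsPropLib.isConstructible_of_dichotomy _ fun T j _ _ _ => ?_
  obtain ⟨V, hV, hyV, h⟩ := exists_geomIrred_eq_nhds f g hg (j (genericPoint ↥T))
  have hopen : IsOpen (j ⁻¹' V) := hV.preimage j.continuous
  have hmem : ∀ t ∈ j ⁻¹' V, (GeomIrredAt f g (j t) ↔ GeomIrredAt f g (j (genericPoint ↥T))) := fun t ht =>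
    h _ ⟨specializes_iff_mem_closure.1 ((genericPoint_specializes t).map j.continuous), ht⟩
  by_cases hn : GeomIrredAt f g (j (genericPoint ↥T))
  · exact Or.inl ⟨_, mem_interior.2 ⟨j ⁻¹' V, fun t ht => (hmem t ht).2 hn, hopen, hyV⟩⟩
  · exact Or.inr ⟨_, mem_interior.2 ⟨j ⁻¹' V, fun t ht h' => hn ((hmem t ht).1 h'), hopen, hyV⟩⟩

end Groth.Agent.GeomLoci
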