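import Groth.Agent.GeomLoci.NonZeroDiv

/-!
# Geometric integrality spreads out, given a birational hypersurface model
-/

set_option autoImplicit false
set_option linter.style.haveILetI false

universe u

open TensorProduct Polynomial

namespace Groth.Agent.GeomLoci

variable (A K B F : Type u) [CommRing A] [Field K] [Algebra A K] [CommRing B] [Algebra A B]
  [Field F] [Algebra K F] [Algebra A F]

/-- A birational hypersurface model of the generic fibre, with coefficients in `A`. -/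
structure Model where
  d : ℕ
  j : B →ₐ[A] F
  hj : ∀ b, j b = 0 ↔ (1 : K) ⊗ₜ[A] b = 0
  ev : MvPolynomial (Fin d) K →ₐ[K] F
  ev_injective : Function.Injective ev
  τ : Fin d → B
  hτ : ∀ i, ev (MvPolynomial.X i) = j (τ i)
  ϑ : B
  P : Polynomial (MvPolynomial (Fin d) A)
  monic : P.Monic
  hroot : Polynomial.eval₂ (ev : MvPolynomial (Fin d) K →+* F) (j ϑ) (P.map (MvPolynomial.map (algebraMap A K))) = 0
  irr : Irreducible (P.map (MvPolynomial.map (algebraMap A K)))
  hker : ∀ Q : Polynomial (MvPolynomial (Fin d) K), Polynomial.eval₂ (ev : MvPolynomial (Fin d) K →+* F) (j ϑ) Q = 0 →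
    P.map (MvPolynomial.map (algebraMap A K)) ∣ Q
  S : MvPolynomial (Fin d) A
  hS : S ≠ 0
  hgen : ∀ b, ∃ (m : ℕ) (Q : Polynomial (MvPolynomial (Fin d) A)),
    j (MvPolynomial.aeval τ S) ^ m * j b = j (Polynomial.eval₂ (MvPolynomial.aeval τ : MvPolynomial (Fin d) A →ₐ[A] B).toRingHom ϑ Q)

variable {A K B F}

namespace Model

variable [IsDomain A] [IsAlgClosed K] [IsFractionRing A K] [Algebra.FiniteType A B] [IsScalarTower A K F]
  (M : Model A K B F)

/-- Evaluation in `B`. -/
noncomputable def Φ : Polynomial (MvPolynomial (Fin M.d) A) →+* B :=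
  Polynomial.eval₂RingHom (MvPolynomial.aeval M.τ : MvPolynomial (Fin M.d) A →ₐ[A] B).toRingHom M.ϑ

omit [IsDomain A] [IsAlgClosed K] [IsFractionRing A K] [Algebra.FiniteType A B] in
theorem j_aeval (p : MvPolynomial (Fin M.d) A) :
    M.j (MvPolynomial.aeval M.τ p) = M.ev (MvPolynomial.map (algebraMap A K) p) := by
  induction p using MvPolynomial.induction_on with
  | C a => simp [IsScalarTower.algebraMap_apply A K F]
  | add p q hp hq => simp [hp, hq]
  | mul_X p i hp => simp [hp, M.hτ]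

omit [IsDomain A] [IsAlgClosed K] [IsFractionRing A K] [Algebra.FiniteType A B] in
theorem j_Φ (Q : Polynomial (MvPolynomial (Fin M.d) A)) :
    M.j (M.Φ Q) = Polynomial.eval₂ (M.ev : MvPolynomial (Fin M.d) K →+* F) (M.j M.ϑ)
      (Q.map (MvPolynomial.map (algebraMap A K))) := by
  induction Q using Polynomial.induction_on' with
  | add p q hp hq => simp [Φ, Polynomial.map_add] at *; simp [hp, hq]
  | monomial n a => simp [Φ, j_aeval]

include M in
theorem exists_isDomain : ∃ g : A, g ≠ 0 ∧ ∀ (L : Type u) [Field L] [Algebra A L],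
    algebraMap A L g ≠ 0 → IsDomain (L ⊗[A] B) := by
  classical
  set s : B := MvPolynomial.aeval M.τ M.S with hs
  have hmapinj : Function.Injective (MvPolynomial.map (algebraMap A K) : MvPolynomial (Fin M.d) A → _) :=
    MvPolynomial.map_injective _ (IsFractionRing.injective A K)
  have hjs : M.j s ≠ 0 := by
    rw [hs, j_aeval]
    exact (map_ne_zero_iff _ M.ev_injective).2 ((map_ne_zero_iff _ hmapinj).2 M.hS)
  obtain ⟨gv, hgv, Hv⟩ := exists_vanishing (A := A) K (B := B)
  obtain ⟨gn, hgn, Hn⟩ := exists_nzd (A := A) K s fun x hx => by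
    rw [← M.hj, map_mul] at hx
    exact (M.hj x).1 ((mul_eq_zero.1 hx).resolve_left hjs)
  obtain ⟨gi, hgi, Hi⟩ := exists_irreducible_map (K := K) M.P M.monic M.irr
  obtain ⟨e, he⟩ := MvPolynomial.ne_zero_iff.1 M.hS
  -- the model maps injectively to the function field
  let C := AdjoinRoot M.P
  let ψ : C →+* F := AdjoinRoot.lift ((M.ev : _ →+* F).comp (MvPolynomial.map (algebraMap A K))) (M.j M.ϑ)
    (by rw [← Polynomial.eval₂_map]; exact M.hroot)
  have hψmk : ∀ Q, ψ (AdjoinRoot.mk M.P Q) = M.j (M.Φ Q) := fun Q => by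
    rw [AdjoinRoot.lift_mk, j_Φ, Polynomial.eval₂_map]
  have hψ : Function.Injective ψ := by
    rw [injective_iff_map_eq_zero]
    intro z
    obtain ⟨Q, rfl⟩ := AdjoinRoot.mk_surjective z
    intro hz
    rw [hψmk, j_Φ] at hz
    exact AdjoinRoot.mk_eq_zero.2 ((Polynomial.map_dvd_map _ hmapinj M.monic).1 (M.hker _ hz))
  let sC : C := AdjoinRoot.of M.P M.S
  have hψs : ψ sC = M.j s := by rw [hs, j_aeval]; exact AdjoinRoot.lift_of _
  let Cs := Localization.Away sC
  let ψs : Cs →+* F := IsLocalization.Away.lift sC (g := ψ) (by rw [hψs]; exact hjs.isUnit)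
  have hψs_alg : ∀ c, ψs (algebraMap C Cs c) = ψ c := fun c => IsLocalization.Away.lift_eq sC _ c
  have hψsinj : Function.Injective ψs := by
    rw [injective_iff_map_eq_zero]
    intro z hz
    obtain ⟨n, a, ha⟩ := IsLocalization.Away.surj sC z
    have h1 : ψ a = 0 := by rw [← hψs_alg, ← ha, map_mul, hz, zero_mul]
    rw [hψ (h1.trans (map_zero ψ).symm), map_zero] at ha
    exact ((IsLocalization.Away.algebraMap_isUnit sC).pow n).mul_left_eq_zero.1 ha
  have hχex : ∀ b, ∃ z, ψs z = M.j b := fun b => by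
    obtain ⟨m, Q, hQ⟩ := M.hgen b
    obtain ⟨w, hw⟩ := isUnit_iff_exists_inv.1 ((IsLocalization.Away.algebraMap_isUnit sC (S := Cs)).pow m)
    refine ⟨algebraMap C Cs (AdjoinRoot.mk M.P Q) * w, ?_⟩
    have h1 := congrArg ψs hw
    rw [map_mul, map_pow, hψs_alg, hψs, map_one] at h1
    rw [map_mul, hψs_alg, hψmk]
    show M.j (Polynomial.eval₂ _ _ Q) * ψs w = _
    rw [← hQ, mul_right_comm, ← hs, h1, one_mul]
  choose χf hχ using hχex
  let χ : B →+* Cs :=
    { toFun := χf
      map_one' := hψsinj (by rw [hχ, map_one, map_one])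
      map_mul' := fun a b => hψsinj (by rw [hχ, map_mul, map_mul, hχ, hχ])
      map_zero' := hψsinj (by rw [hχ, map_zero, map_zero])
      map_add' := fun a b => hψsinj (by rw [hχ, map_add, map_add, hχ, hχ]) }
  have hχΦ : ∀ Q, χ (M.Φ Q) = algebraMap C Cs (AdjoinRoot.mk M.P Q) := fun Q =>
    hψsinj (by rw [hψs_alg, hψmk]; exact hχ _)
  refine ⟨gv * gn * gi * M.S.coeff e, mul_ne_zero (mul_ne_zero (mul_ne_zero hgv hgn) hgi) he, fun L _ _ hL => ?_⟩
  simp only [map_mul, mul_ne_zero_iff] at hL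
  obtain ⟨⟨⟨hLv, hLn⟩, hLi⟩, hLe⟩ := hL
  let PL := M.P.map (MvPolynomial.map (algebraMap A L))
  haveI : IsDomain (AdjoinRoot PL) := AdjoinRoot.isDomain_of_prime (Hi L _ hLi).prime
  let Fr := FractionRing (AdjoinRoot PL)
  have hProot : M.P.eval₂ ((AdjoinRoot.of PL).comp (MvPolynomial.map (algebraMap A L))) (AdjoinRoot.root PL) = 0 := by
    rw [← Polynomial.eval₂_map]; exact AdjoinRoot.eval₂_root PL
  let ω₀ : C →+* AdjoinRoot PL := AdjoinRoot.lift _ _ hProot
  let ω : C →+* Fr := (algebraMap (AdjoinRoot PL) Fr).comp ω₀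
  have hωmk : ∀ Q, ω (AdjoinRoot.mk M.P Q) =
      algebraMap (AdjoinRoot PL) Fr (AdjoinRoot.mk PL (Q.map (MvPolynomial.map (algebraMap A L)))) := fun Q => by
    have h1 : ω₀ (AdjoinRoot.mk M.P Q) =
        Q.eval₂ ((AdjoinRoot.of PL).comp (MvPolynomial.map (algebraMap A L))) (AdjoinRoot.root PL) :=
      AdjoinRoot.lift_mk hProot Q
    show algebraMap (AdjoinRoot PL) Fr (ω₀ (AdjoinRoot.mk M.P Q)) = _
    rw [h1, ← Polynomial.eval₂_map]
    congr 1
    exact (AdjoinRoot.aeval_eq _)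
  have hdeg : PL.degree ≠ 0 := fun h => (Hi L _ hLi).not_isUnit (by
    rw [(M.monic.map _).natDegree_eq_zero.1 (Polynomial.natDegree_eq_of_degree_eq_some h)]
    exact isUnit_one)
  have hωs : IsUnit (ω sC) := by
    refine IsUnit.mk0 _ ?_
    rw [show sC = AdjoinRoot.mk M.P (Polynomial.C M.S) from (AdjoinRoot.mk_C _).symm, hωmk, Polynomial.map_C,
      AdjoinRoot.mk_C]
    refine (map_ne_zero_iff _ (IsFractionRing.injective _ Fr)).2
      ((map_ne_zero_iff _ (AdjoinRoot.of.injective_of_degree_ne_zero hdeg)).2 fun h => hLe ?_)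
    rw [← MvPolynomial.coeff_map, h, MvPolynomial.coeff_zero]
  let ωs : Cs →+* Fr := IsLocalization.Away.lift sC hωs
  have hη : ∀ Q, ωs (χ (M.Φ Q)) =
      algebraMap (AdjoinRoot PL) Fr (AdjoinRoot.mk PL (Q.map (MvPolynomial.map (algebraMap A L)))) := fun Q => by
    rw [hχΦ, IsLocalization.Away.lift_eq, hωmk]
  have hCC : ∀ l : L, algebraMap (AdjoinRoot PL) Fr (AdjoinRoot.mk PL (Polynomial.C (MvPolynomial.C l))) =
      algebraMap L Fr l := fun l => by
    rw [AdjoinRoot.mk_C, IsScalarTower.algebraMap_apply L (AdjoinRoot PL) Fr]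
    rfl
  let η : B →ₐ[A] Fr := { ωs.comp χ with
    commutes' := fun a => by
      show ωs (χ (algebraMap A B a)) = _
      rw [show algebraMap A B a = M.Φ (Polynomial.C (MvPolynomial.C a)) by simp [Model.Φ], hη,
        Polynomial.map_C, MvPolynomial.map_C, hCC, ← IsScalarTower.algebraMap_apply] }
  let χL : L ⊗[A] B →ₐ[L] Fr := Algebra.TensorProduct.lift (Algebra.ofId L Fr) η fun _ _ => Commute.all _ _
  let ΦL : Polynomial (MvPolynomial (Fin M.d) L) →+* L ⊗[A] B :=
    Polynomial.eval₂RingHom (MvPolynomial.aeval fun i => (1 : L) ⊗ₜ[A] M.τ i : _ →ₐ[L] L ⊗[A] B).toRingHom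
      ((1 : L) ⊗ₜ[A] M.ϑ)
  have hΦL : ∀ Q, ΦL (Q.map (MvPolynomial.map (algebraMap A L))) = (1 : L) ⊗ₜ[A] M.Φ Q := by
    have : ΦL.comp (Polynomial.mapRingHom (MvPolynomial.map (algebraMap A L))) =
        (Algebra.TensorProduct.includeRight : B →ₐ[A] L ⊗[A] B).toRingHom.comp M.Φ := by
      refine Polynomial.ringHom_ext' (MvPolynomial.ringHom_ext (fun a => ?_) fun i => ?_) ?_
      · simp [ΦL, Model.Φ]
      · simp [ΦL, Model.Φ]
      · simp [ΦL, Model.Φ]
    exact fun Q => RingHom.congr_fun this Q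
  have hχΦL : ∀ Q, χL (ΦL Q) = algebraMap (AdjoinRoot PL) Fr (AdjoinRoot.mk PL Q) := by
    have : χL.toRingHom.comp ΦL = (algebraMap (AdjoinRoot PL) Fr).comp (AdjoinRoot.mk PL) := by
      refine Polynomial.ringHom_ext' (MvPolynomial.ringHom_ext (fun l => ?_) fun i => ?_) ?_
      · simp only [RingHom.comp_apply]
        rw [hCC]
        simp [ΦL, χL]
      · have h1 := hη (Polynomial.C (MvPolynomial.X i))
        simp only [Polynomial.map_C, MvPolynomial.map_X] at h1
        simp only [RingHom.comp_apply]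
        rw [← h1]
        simp [ΦL, χL, η, Model.Φ]
      · have h1 := hη Polynomial.X
        simp only [Polynomial.map_X] at h1
        simp only [RingHom.comp_apply]
        rw [← h1]
        simp [ΦL, χL, η, Model.Φ]
    exact fun Q => RingHom.congr_fun this Q
  have hPL : ΦL PL = 0 := by
    rw [hΦL]
    exact Hv L hLv _ ((M.hj _).1 (by rw [j_Φ]; exact M.hroot))
  have hex : ∀ x : L ⊗[A] B, ∃ (m : ℕ) (Q : Polynomial (MvPolynomial (Fin M.d) L)),
      ((1 : L) ⊗ₜ[A] s) ^ m * x = ΦL Q := by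
    intro x
    induction x using TensorProduct.induction_on with
    | zero => exact ⟨0, 0, by simp⟩
    | tmul l b =>
      obtain ⟨m, Q, hQ⟩ := M.hgen b
      refine ⟨m, Polynomial.C (MvPolynomial.C l) * Q.map (MvPolynomial.map (algebraMap A L)), ?_⟩
      have h0 : (1 : L) ⊗ₜ[A] (s ^ m * b - M.Φ Q) = 0 := Hv L hLv _ ((M.hj _).1 (by
        rw [map_sub, map_mul, map_pow, sub_eq_zero]; exact hQ))
      rw [TensorProduct.tmul_sub, sub_eq_zero] at h0
      rw [map_mul, hΦL, ← h0]
      simp [ΦL, Algebra.TensorProduct.tmul_pow, Algebra.TensorProduct.tmul_mul_tmul]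
    | add x y hx hy =>
      obtain ⟨m, Q, hQ⟩ := hx
      obtain ⟨n, R, hR⟩ := hy
      let z := Polynomial.C (MvPolynomial.map (algebraMap A L) M.S)
      have hz : ΦL z = (1 : L) ⊗ₜ[A] s := by
        have := hΦL (Polynomial.C M.S)
        rw [Polynomial.map_C] at this
        rw [this, hs]
        simp [Model.Φ]
      refine ⟨m + n, z ^ n * Q + z ^ m * R, ?_⟩
      rw [map_add, map_mul, map_mul, map_pow, map_pow, hz, ← hQ, ← hR, pow_add]
      ring
  refine Function.Injective.isDomain χL.toRingHom ((injective_iff_map_eq_zero _).2 fun x hx => ?_)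
  obtain ⟨m, Q, hQ⟩ := hex x
  have h1 : ΦL Q = 0 := by
    have h2 : algebraMap (AdjoinRoot PL) Fr (AdjoinRoot.mk PL Q) = 0 := by
      rw [← hχΦL, ← hQ, map_mul, show χL x = 0 from hx, mul_zero]
    obtain ⟨R, hR⟩ := AdjoinRoot.mk_eq_zero.1 ((map_eq_zero_iff _ (IsFractionRing.injective _ Fr)).1 h2)
    rw [hR, map_mul, hPL, zero_mul]
  rw [h1] at hQ
  clear hx
  induction m with
  | zero => simpa using hQ
  | succ m ih =>
    apply ih
    refine Hn L hLn _ ?_
    rw [← mul_assoc, ← pow_succ']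
    exact hQ

end Model

end Groth.Agent.GeomLoci
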