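import Groth.Agent.GeomLoci.IntegralModel

/-!
# Geometric integrality spreads out

If a finite type algebra over a domain `A` becomes a domain over an algebraically closed fraction
field of `A`, then it is a domain over every field point of a dense open.
-/

set_option autoImplicit false
set_option linter.style.haveILetI false
set_option linter.unusedSectionVars false

universe u

open TensorProduct Polynomial

namespace Groth.Agent.GeomLoci

variable {A : Type u} [CommRing A] [IsDomain A] {K : Type u} [Field K] [Algebra A K] [IsFractionRing A K]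

theorem exists_lift_mvPolynomial {d : ℕ} (p : MvPolynomial (Fin d) K) :
    ∃ a : A, a ≠ 0 ∧ ∃ p' : MvPolynomial (Fin d) A,
      MvPolynomial.map (algebraMap A K) p' = MvPolynomial.C (algebraMap A K a) * p := by
  induction p using MvPolynomial.induction_on' with
  | monomial e c =>
    obtain ⟨⟨n, a⟩, h⟩ := IsLocalization.surj (nonZeroDivisors A) c
    exact ⟨a, nonZeroDivisors.coe_ne_zero a, MvPolynomial.monomial e n, by
      rw [MvPolynomial.map_monomial, MvPolynomial.C_mul_monomial, ← h, mul_comm]⟩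
  | add p q hp hq =>
    obtain ⟨a, ha, p', hp'⟩ := hp
    obtain ⟨b, hb, q', hq'⟩ := hq
    refine ⟨a * b, mul_ne_zero ha hb, MvPolynomial.C b * p' + MvPolynomial.C a * q', ?_⟩
    rw [map_add, map_mul, map_mul, MvPolynomial.map_C, MvPolynomial.map_C, hp', hq', map_mul,
      MvPolynomial.C_mul]
    ring

theorem exists_lift_polynomial {d : ℕ} (Q : Polynomial (MvPolynomial (Fin d) K)) :
    ∃ a : A, a ≠ 0 ∧ ∃ Q' : Polynomial (MvPolynomial (Fin d) A),
      Q'.map (MvPolynomial.map (algebraMap A K)) = Polynomial.C (MvPolynomial.C (algebraMap A K a)) * Q := by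
  induction Q using Polynomial.induction_on' with
  | add p q hp hq =>
    obtain ⟨a, ha, p', hp'⟩ := hp
    obtain ⟨b, hb, q', hq'⟩ := hq
    refine ⟨a * b, mul_ne_zero ha hb,
      Polynomial.C (MvPolynomial.C b) * p' + Polynomial.C (MvPolynomial.C a) * q', ?_⟩
    rw [Polynomial.map_add, Polynomial.map_mul, Polynomial.map_mul, Polynomial.map_C, Polynomial.map_C,
      MvPolynomial.map_C, MvPolynomial.map_C, hp', hq', map_mul, MvPolynomial.C_mul, Polynomial.C_mul]
    ring
  | monomial n c =>
    obtain ⟨a, ha, p', hp'⟩ := exists_lift_mvPolynomial (A := A) c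
    exact ⟨a, ha, Polynomial.monomial n p', by
      rw [Polynomial.map_monomial, Polynomial.C_mul_monomial, hp']⟩

/-- The elements of `F` which are rational over the model. -/
def RatSet {R F : Type u} [CommRing R] [Field F] (ι : R →+* F) (θ : F) : Set F :=
  {x | ∃ (s : R) (Q : Polynomial R), ι s ≠ 0 ∧ ι s * x = Q.eval₂ ι θ}

theorem RatSet.add {R F : Type u} [CommRing R] [Field F] {ι : R →+* F} {θ x y : F}
    (hx : x ∈ RatSet ι θ) (hy : y ∈ RatSet ι θ) : x + y ∈ RatSet ι θ := by
  obtain ⟨s, Q, hs, h⟩ := hx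
  obtain ⟨t, T, ht, h'⟩ := hy
  refine ⟨s * t, Polynomial.C t * Q + Polynomial.C s * T, by rw [map_mul]; exact mul_ne_zero hs ht, ?_⟩
  simp only [map_mul, eval₂_add, eval₂_mul, eval₂_C, ← h, ← h']
  ring

theorem RatSet.mul {R F : Type u} [CommRing R] [Field F] {ι : R →+* F} {θ x y : F}
    (hx : x ∈ RatSet ι θ) (hy : y ∈ RatSet ι θ) : x * y ∈ RatSet ι θ := by
  obtain ⟨s, Q, hs, h⟩ := hx
  obtain ⟨t, T, ht, h'⟩ := hy
  refine ⟨s * t, Q * T, by rw [map_mul]; exact mul_ne_zero hs ht, ?_⟩
  simp only [map_mul, eval₂_mul, ← h, ← h']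
  ring

theorem RatSet.div {R F : Type u} [CommRing R] [Field F] (ι : R →+* F) (θ : F) (r s : R) :
    ι r / ι s ∈ RatSet ι θ := by
  by_cases hs : ι s = 0
  · exact ⟨1, 0, by simp, by simp [hs]⟩
  · exact ⟨s, Polynomial.C r, hs, by rw [eval₂_C, mul_div_cancel₀ _ hs]⟩

theorem tmul_eq_zero_iff {M : Type u} [AddCommGroup M] [Module A M] (x : M) :
    (1 : K) ⊗ₜ[A] x = 0 ↔ ∃ a : A, a ≠ 0 ∧ a • x = 0 := by
  refine ⟨exists_smul_eq_zero K M x, fun ⟨a, ha, h⟩ => ?_⟩
  have h1 : algebraMap A K a • ((1 : K) ⊗ₜ[A] x) = 0 := by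
    rw [algebraMap_smul, ← TensorProduct.tmul_smul, h, TensorProduct.tmul_zero]
  exact (smul_eq_zero.1 h1).resolve_left ((map_ne_zero_iff _ (IsFractionRing.injective A K)).2 ha)

variable [IsAlgClosed K] {B : Type u} [CommRing B] [Algebra A B] [Algebra.FiniteType A B]

omit [IsAlgClosed K] [Algebra.FiniteType A B] in
theorem exists_smul_eq_tmul (z : K ⊗[A] B) : ∃ (a : A) (u : B), a ≠ 0 ∧ a • z = (1 : K) ⊗ₜ[A] u := by
  obtain ⟨⟨u, a⟩, h⟩ := IsLocalizedModule.surj (nonZeroDivisors A) (TensorProduct.mk A K B 1) z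
  exact ⟨a, u, nonZeroDivisors.coe_ne_zero a, h⟩

set_option maxHeartbeats 3200000 in
set_option synthInstance.maxHeartbeats 400000 in
theorem exists_isDomain_of_field {F : Type u} [Field F] [Algebra K F] [Algebra A F] [IsScalarTower A K F]
    [Algebra.EssFiniteType K F] (j : B →ₐ[A] F) (hj0 : ∀ b, j b = 0 ↔ (1 : K) ⊗ₜ[A] b = 0)
    (hfrac : ∀ x : F, ∃ (a : A) (u v : B), a ≠ 0 ∧ j v ≠ 0 ∧ algebraMap A F a * x * j v = j u) :
    ∃ g : A, g ≠ 0 ∧ ∀ (L : Type u) [Field L] [Algebra A L], algebraMap A L g ≠ 0 → IsDomain (L ⊗[A] B) := by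
  classical
  haveI : PerfectField K := IsAlgClosed.perfectField K
  have halg : Function.Injective (algebraMap A F) := by
    rw [IsScalarTower.algebraMap_eq A K F]
    exact (algebraMap K F).injective.comp (IsFractionRing.injective A K)
  -- separating transcendence basis, scaled
  obtain ⟨S₀, hS₀, hsep⟩ := exists_isTranscendenceBasis_and_isSeparable_of_perfectField K F
  let d := S₀.card
  let e : Fin d ≃ (S₀ : Set F) := S₀.equivFin.symm
  choose at' ut vt hat hvt htu using fun i : Fin d => hfrac (e i : F)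
  let t : Fin d → F := fun i => algebraMap A F (at' i) * (e i : F)
  let ev : MvPolynomial (Fin d) K →ₐ[K] F := MvPolynomial.aeval t
  have hev : Function.Injective ev := by
    let sc : MvPolynomial (Fin d) K →ₐ[K] MvPolynomial (Fin d) K :=
      MvPolynomial.aeval fun i => MvPolynomial.C (algebraMap A K (at' i))⁻¹ * MvPolynomial.X i
    let sc' : MvPolynomial (Fin d) K →ₐ[K] MvPolynomial (Fin d) K :=
      MvPolynomial.aeval fun i => MvPolynomial.C (algebraMap A K (at' i)) * MvPolynomial.X i
    have h1 : (MvPolynomial.aeval fun i => (e i : F)).comp sc' = ev := MvPolynomial.algHom_ext fun i => by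
      simp [ev, sc', t, ← IsScalarTower.algebraMap_apply]
    have h2 : sc.comp sc' = AlgHom.id K _ := MvPolynomial.algHom_ext fun i => by
      simp only [sc, sc', AlgHom.comp_apply, MvPolynomial.aeval_X, map_mul, MvPolynomial.aeval_C,
        MvPolynomial.algebraMap_eq, AlgHom.id_apply]
      rw [← mul_assoc, ← MvPolynomial.C_mul,
        mul_inv_cancel₀ ((map_ne_zero_iff _ (IsFractionRing.injective A K)).2 (hat i)), MvPolynomial.C_1, one_mul]
    rw [← h1, AlgHom.coe_comp]
    exact Function.Injective.comp (algebraicIndependent_iff_injective_aeval.1 (hS₀.1.comp e e.injective))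
      (Function.LeftInverse.injective (g := sc) fun p => AlgHom.congr_fun h2 p)
  have hrange : ev.range = Algebra.adjoin K (S₀ : Set F) := by
    rw [← Algebra.adjoin_range_eq_range_aeval]
    refine le_antisymm (Algebra.adjoin_le ?_) (Algebra.adjoin_le fun x hx => ?_)
    · rintro _ ⟨i, rfl⟩
      show algebraMap A F (at' i) * (e i : F) ∈ _
      rw [IsScalarTower.algebraMap_apply A K F]
      exact Subalgebra.mul_mem _ (Subalgebra.algebraMap_mem _ _) (Algebra.subset_adjoin (e i).2)
    · obtain ⟨i, hi⟩ := e.surjective ⟨x, hx⟩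
      have hx' : x = algebraMap K F (algebraMap A K (at' i))⁻¹ * t i := by
        rw [show x = (e i : F) by rw [hi]]
        simp only [t]
        rw [map_inv₀, ← IsScalarTower.algebraMap_apply, inv_mul_cancel_left₀]
        exact (map_ne_zero_iff _ halg).2 (hat i)
      rw [hx']
      exact Subalgebra.mul_mem _ (Subalgebra.algebraMap_mem _ _) (Algebra.subset_adjoin ⟨i, rfl⟩)
  let E := IntermediateField.adjoin K (S₀ : Set F)
  haveI : Algebra.IsSeparable E F := hsep
  haveI : FiniteDimensional E F := by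
    haveI : Algebra.EssFiniteType E F := Algebra.EssFiniteType.of_comp K E F
    exact Algebra.finite_of_essFiniteType_of_isAlgebraic
  obtain ⟨θ₀, hθ₀⟩ := Field.exists_primitive_element E F
  letI : Algebra (MvPolynomial (Fin d) K) F := ev.toRingHom.toAlgebra
  haveI : IsScalarTower K (MvPolynomial (Fin d) K) F := IsScalarTower.of_algebraMap_eq fun k => (ev.commutes k).symm
  haveI : FaithfulSMul (MvPolynomial (Fin d) K) F := (faithfulSMul_iff_algebraMap_injective _ _).2 hev
  haveI : Module.IsTorsionFree (MvPolynomial (Fin d) K) F := inferInstance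
  have halgθ : IsAlgebraic (MvPolynomial (Fin d) K) θ₀ := by
    haveI := hS₀.isAlgebraic
    obtain ⟨p, hp0, hp⟩ := Algebra.IsAlgebraic.isAlgebraic (R := Algebra.adjoin K (Set.range ((↑) : S₀ → F))) θ₀
    let φ : MvPolynomial (Fin d) K →+* Algebra.adjoin K (Set.range ((↑) : S₀ → F)) :=
      ev.toRingHom.codRestrict _ fun q => by
        have h1 : ev q ∈ ev.range := ⟨q, rfl⟩
        rw [hrange] at h1
        simpa using! h1
    have hφ : Function.Surjective φ := fun z => by
      have h1 : (z : F) ∈ ev.range := by rw [hrange]; simpa using! z.2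
      obtain ⟨q, hq⟩ := h1
      exact ⟨q, Subtype.ext hq⟩
    obtain ⟨p', rfl⟩ := Polynomial.map_surjective φ hφ p
    exact ⟨p', fun h => hp0 (by rw [h, Polynomial.map_zero]), by
      rw [Polynomial.aeval_def, Polynomial.eval₂_map] at hp; exact hp⟩
  obtain ⟨y, hy, hint⟩ := halgθ.exists_integral_multiple
  obtain ⟨aθ, uθ, vθ, haθ, hvθ, hθuv⟩ := hfrac (y • θ₀)
  let θ₁ : F := algebraMap A F aθ * (y • θ₀)
  have hCA : ∀ a : A, algebraMap A F a = ev (MvPolynomial.C (algebraMap A K a)) := fun a => by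
    rw [show MvPolynomial.C (algebraMap A K a) = algebraMap K (MvPolynomial (Fin d) K) (algebraMap A K a) from rfl,
      ev.commutes, ← IsScalarTower.algebraMap_apply]
  have hint₁ : IsIntegral (MvPolynomial (Fin d) K) θ₁ := by
    show IsIntegral _ (algebraMap A F aθ * (y • θ₀))
    rw [hCA]
    exact IsIntegral.mul isIntegral_algebraMap hint
  let P₁ := minpoly (MvPolynomial (Fin d) K) θ₁
  have hP₁ : P₁.Monic := minpoly.monic hint₁
  obtain ⟨aP, haP, Q₁, hQ₁⟩ := exists_lift_polynomial (A := A) P₁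
  let cP : MvPolynomial (Fin d) K := MvPolynomial.C (algebraMap A K aP)
  let θ : F := algebraMap A F aP * θ₁
  have hθev : θ = ev cP * θ₁ := by show algebraMap A F aP * θ₁ = _; rw [hCA]
  have hroot' : Polynomial.eval₂ ev.toRingHom θ (P₁.scaleRoots cP) = 0 := by
    rw [hθev]
    exact Polynomial.scaleRoots_eval₂_eq_zero _ (minpoly.aeval _ θ₁)
  have hintθ : IsIntegral (MvPolynomial (Fin d) K) θ :=
    ⟨_, (Polynomial.monic_scaleRoots_iff _).2 hP₁, hroot'⟩
  have hPθ : P₁.scaleRoots cP = minpoly (MvPolynomial (Fin d) K) θ := by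
    have hdvd := minpoly.isIntegrallyClosed_dvd hintθ (p := P₁.scaleRoots cP) hroot'
    refine Polynomial.eq_of_monic_of_dvd_of_natDegree_le (minpoly.monic hintθ)
      ((Polynomial.monic_scaleRoots_iff _).2 hP₁) hdvd ?_
    let c' : MvPolynomial (Fin d) K := MvPolynomial.C (algebraMap A K aP)⁻¹
    have hcc : c' * cP = 1 := by
      rw [← MvPolynomial.C_mul, inv_mul_cancel₀ ((map_ne_zero_iff _ (IsFractionRing.injective A K)).2 haP),
        MvPolynomial.C_1]
    have h1 : Polynomial.eval₂ ev.toRingHom θ₁ ((minpoly (MvPolynomial (Fin d) K) θ).scaleRoots c') = 0 := by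
      have h2 := Polynomial.scaleRoots_eval₂_eq_zero ev.toRingHom (s := c') (minpoly.aeval _ θ)
      have h3 : ev.toRingHom c' * θ = θ₁ := by
        rw [hθev, ← mul_assoc]
        show ev c' * ev cP * θ₁ = θ₁
        rw [← map_mul, hcc, map_one, one_mul]
      rwa [h3] at h2
    have h4 := minpoly.min _ θ₁ ((Polynomial.monic_scaleRoots_iff _).2 (minpoly.monic hintθ)) h1
    rw [Polynomial.natDegree_scaleRoots]
    have h5 := Polynomial.natDegree_le_natDegree h4
    rwa [Polynomial.natDegree_scaleRoots] at h5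
  have hlifts : P₁.scaleRoots cP ∈ Polynomial.lifts (MvPolynomial.map (algebraMap A K)) := by
    rw [Polynomial.lifts_iff_coeff_lifts]
    intro i
    rw [Polynomial.coeff_scaleRoots]
    rcases lt_trichotomy i P₁.natDegree with hi | hi | hi
    · obtain ⟨m, hm⟩ : ∃ m, P₁.natDegree - i = m + 1 := ⟨P₁.natDegree - i - 1, by omega⟩
      refine ⟨Q₁.coeff i * MvPolynomial.C aP ^ m, ?_⟩
      have h6 := congrArg (fun p => Polynomial.coeff p i) hQ₁
      simp only [Polynomial.coeff_map, Polynomial.coeff_C_mul] at h6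
      rw [map_mul, h6, map_pow, MvPolynomial.map_C, hm, pow_succ]
      ring
    · subst hi
      exact ⟨1, by simp [hP₁.coeff_natDegree]⟩
    · exact ⟨0, by simp [Polynomial.coeff_eq_zero_of_natDegree_lt hi]⟩
  obtain ⟨P, hPmap, -, hPmonic⟩ := Polynomial.lifts_and_degree_eq_and_monic hlifts
    ((Polynomial.monic_scaleRoots_iff _).2 hP₁)
  -- every element is rational over the model
  have hev0 : ∀ z : MvPolynomial (Fin d) K, ev z = (ev : MvPolynomial (Fin d) K →+* F) z := fun _ => rfl
  have hrat : ∀ x : F, x ∈ RatSet ev.toRingHom θ := by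
    have hE : ∀ x ∈ E, x ∈ RatSet ev.toRingHom θ := by
      intro x hx
      obtain ⟨r, hr, s, hs, rfl⟩ := IntermediateField.mem_adjoin_iff_div.1 hx
      rw [← hrange] at hr hs
      obtain ⟨r', rfl⟩ := hr
      obtain ⟨s', rfl⟩ := hs
      exact RatSet.div ev.toRingHom θ r' s'
    have hθmem : θ ∈ RatSet ev.toRingHom θ := ⟨1, Polynomial.X, by simp, by simp⟩
    have hθ₀mem : θ₀ ∈ RatSet ev.toRingHom θ := by
      have hne : ev (cP * (MvPolynomial.C (algebraMap A K aθ) * y)) ≠ 0 := (map_ne_zero_iff _ hev).2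
        (mul_ne_zero (by simpa [cP] using (map_ne_zero_iff _ (IsFractionRing.injective A K)).2 haP)
          (mul_ne_zero (by simpa using (map_ne_zero_iff _ (IsFractionRing.injective A K)).2 haθ) hy))
      refine ⟨_, Polynomial.X, hne, ?_⟩
      rw [eval₂_X, hθev]
      show ev (cP * (MvPolynomial.C (algebraMap A K aθ) * y)) * θ₀ = ev cP * (algebraMap A F aθ * (y • θ₀))
      rw [map_mul, map_mul, ← hCA, Algebra.smul_def]
      show _ = _ * (_ * (ev y * θ₀))
      simp only [cP, ← hCA]
      ring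
    intro x
    have hx : x ∈ Algebra.adjoin E ({θ₀} : Set F) := by
      rw [← IntermediateField.adjoin_simple_toSubalgebra_of_isAlgebraic
        (Algebra.IsAlgebraic.isAlgebraic θ₀), hθ₀]
      trivial
    induction hx using Algebra.adjoin_induction with
    | mem z hz => rw [Set.mem_singleton_iff] at hz; exact hz ▸ hθ₀mem
    | algebraMap r => exact hE _ r.2
    | add _ _ _ _ h1 h2 => exact RatSet.add h1 h2
    | mul _ _ _ _ h1 h2 => exact RatSet.mul h1 h2
  -- invert the denominators
  let s₀ : B := (∏ i, vt i) * vθ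
  have hs₀ : j s₀ ≠ 0 := by
    show j ((∏ i, vt i) * vθ) ≠ 0
    rw [map_mul, map_prod]
    exact mul_ne_zero (Finset.prod_ne_zero_iff.2 fun i _ => hvt i) hvθ
  let B' := Localization.Away s₀
  haveI : Algebra.FiniteType B B' := IsLocalization.finiteType_of_monoid_fg (Submonoid.powers s₀) _
  haveI : Algebra.FiniteType A B' := Algebra.FiniteType.trans (S := B) inferInstance inferInstance
  let jr : B' →+* F := IsLocalization.Away.lift s₀ (g := j.toRingHom) hs₀.isUnit
  have hjr : ∀ b, jr (algebraMap B B' b) = j b := fun b => IsLocalization.Away.lift_eq s₀ _ b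
  let j' : B' →ₐ[A] F := { jr with
    commutes' := fun a => by
      show jr (algebraMap A B' a) = _
      rw [IsScalarTower.algebraMap_apply A B B', hjr, j.commutes] }
  have hj'eq : ∀ b, j' (algebraMap B B' b) = j b := hjr
  have hunit : ∀ b, b ∣ s₀ → IsUnit (algebraMap B B' b) := fun b hb =>
    isUnit_of_dvd_unit (map_dvd _ hb) (IsLocalization.Away.algebraMap_isUnit s₀)
  have hdiv : ∀ (u v : B), v ∣ s₀ → ∀ x : F, x * j v = j u →
      ∃ w : B', j' w = x := by
    intro u v hv x hx
    obtain ⟨w, hw⟩ := isUnit_iff_exists_inv.1 (hunit v hv)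
    refine ⟨algebraMap B B' u * w, ?_⟩
    have h1 := congrArg j' hw
    rw [map_mul, hj'eq, map_one] at h1
    rw [map_mul, hj'eq, ← hx, mul_assoc, h1, mul_one]
  choose τ hτ using fun i => hdiv (ut i) (vt i)
    (dvd_mul_of_dvd_left (Finset.dvd_prod_of_mem vt (Finset.mem_univ i)) vθ) (t i) (htu i)
  obtain ⟨ϑ, hϑ⟩ := hdiv (aP • uθ) vθ (dvd_mul_left _ _) θ (by
    rw [map_smul, Algebra.smul_def, ← hθuv]
    show algebraMap A F aP * (algebraMap A F aθ * (y • θ₀)) * _ = _
    ring)
  have hj' : ∀ b, j' b = 0 ↔ (1 : K) ⊗ₜ[A] b = 0 := by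
    intro b
    constructor
    · intro h
      obtain ⟨n, c, hc⟩ := IsLocalization.Away.surj s₀ b
      have h1 : j c = 0 := by rw [← hj'eq, ← hc, map_mul, h, zero_mul]
      obtain ⟨a, ha, hac⟩ := (tmul_eq_zero_iff c).1 ((hj0 c).1 h1)
      refine (tmul_eq_zero_iff b).2 ⟨a, ha, ?_⟩
      refine ((IsLocalization.Away.algebraMap_isUnit s₀).pow n).mul_left_eq_zero.1 ?_
      rw [smul_mul_assoc, hc, ← IsScalarTower.toAlgHom_apply A B B', ← map_smul, hac, map_zero]
    · intro h
      obtain ⟨a, ha, hab⟩ := (tmul_eq_zero_iff b).1 h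
      have h1 : algebraMap A F a * j' b = 0 := by rw [← Algebra.smul_def, ← map_smul, hab, map_zero]
      exact (mul_eq_zero.1 h1).resolve_left ((map_ne_zero_iff _ halg).2 ha)
  let evA : MvPolynomial (Fin d) A →+* F := ev.toRingHom.comp (MvPolynomial.map (algebraMap A K))
  have hjaev : ∀ p : MvPolynomial (Fin d) A, j' (MvPolynomial.aeval τ p) = evA p := fun p => by
    induction p using MvPolynomial.induction_on with
    | C a =>
      simp only [MvPolynomial.aeval_C, AlgHom.commutes, evA, RingHom.comp_apply, MvPolynomial.map_C]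
      exact hCA a
    | add p q hp hq => simp only [map_add, hp, hq]
    | mul_X p i hp => simp [hp, hτ, evA, ev]
  have hjeval : ∀ Q : Polynomial (MvPolynomial (Fin d) A),
      j' (Q.eval₂ (MvPolynomial.aeval τ : _ →ₐ[A] B').toRingHom ϑ) = Q.eval₂ evA θ := fun Q => by
    induction Q using Polynomial.induction_on' with
    | add p q hp hq => rw [eval₂_add, eval₂_add, map_add, hp, hq]
    | monomial n a => simp only [eval₂_monomial, map_mul, map_pow, hϑ]; exact congrArg (· * θ ^ n) (hjaev a)
  -- a common denominator for generators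
  obtain ⟨G, hG⟩ := (inferInstance : Algebra.FiniteType A B').out
  have hgenG : ∀ g : B', ∃ (S : MvPolynomial (Fin d) A) (Q : Polynomial (MvPolynomial (Fin d) A)),
      S ≠ 0 ∧ evA S * j' g = Q.eval₂ evA θ := by
    intro g
    obtain ⟨s, Q, hs, h⟩ := hrat (j' g)
    obtain ⟨a, ha, s', hs'⟩ := exists_lift_mvPolynomial (A := A) s
    obtain ⟨b, hb, Q', hQ'⟩ := exists_lift_polynomial (A := A) Q
    refine ⟨MvPolynomial.C b * s', Polynomial.C (MvPolynomial.C a) * Q', mul_ne_zero (by simpa using hb) ?_, ?_⟩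
    · rintro rfl
      rw [map_zero] at hs'
      rcases mul_eq_zero.1 hs'.symm with h1 | h1
      · exact ha (IsFractionRing.injective A K (by simpa using h1))
      · exact hs (by rw [h1, map_zero])
    · have hQ'' : Q'.eval₂ evA θ = ev (MvPolynomial.C (algebraMap A K b)) * Q.eval₂ ev.toRingHom θ := by
        rw [show evA = ev.toRingHom.comp (MvPolynomial.map (algebraMap A K)) from rfl, ← Polynomial.eval₂_map,
          hQ', eval₂_mul, eval₂_C]
        rfl
      rw [eval₂_mul, eval₂_C, hQ'', ← h]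
      simp only [evA, RingHom.comp_apply, map_mul, MvPolynomial.map_C, hs']
      show _ = _ * (_ * (ev s * _))
      simp only [AlgHom.toRingHom_eq_coe, RingHom.coe_coe]
      ring
  choose Sg Qg hSg hQg using hgenG
  let S : MvPolynomial (Fin d) A := ∏ g ∈ G, Sg g
  have hgen : ∀ b, ∃ (m : ℕ) (Q : Polynomial (MvPolynomial (Fin d) A)),
      j' (MvPolynomial.aeval τ S) ^ m * j' b = j' (Q.eval₂ (MvPolynomial.aeval τ : _ →ₐ[A] B').toRingHom ϑ) := by
    intro b
    simp only [hjaev, hjeval]
    have hb : b ∈ Algebra.adjoin A (G : Set B') := by rw [hG]; trivial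
    induction hb using Algebra.adjoin_induction with
    | mem g hg =>
      refine ⟨1, Polynomial.C (∏ i ∈ G.erase g, Sg i) * Qg g, ?_⟩
      rw [eval₂_mul, eval₂_C, ← hQg g, pow_one, ← mul_assoc, ← map_mul, Finset.prod_erase_mul _ _ hg]
    | algebraMap a =>
      refine ⟨0, Polynomial.C (MvPolynomial.C a), ?_⟩
      rw [pow_zero, one_mul, eval₂_C, j'.commutes]
      simp only [evA, RingHom.comp_apply, MvPolynomial.map_C]
      exact hCA a
    | add x y _ _ hx hy =>
      obtain ⟨m, Q, hm⟩ := hx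
      obtain ⟨n, R, hn⟩ := hy
      refine ⟨m + n, Polynomial.C S ^ n * Q + Polynomial.C S ^ m * R, ?_⟩
      rw [eval₂_add, eval₂_mul, eval₂_mul, eval₂_pow, eval₂_pow, eval₂_C, ← hm, ← hn, map_add]
      ring
    | mul x y _ _ hx hy =>
      obtain ⟨m, Q, hm⟩ := hx
      obtain ⟨n, R, hn⟩ := hy
      refine ⟨m + n, Q * R, ?_⟩
      rw [eval₂_mul, ← hm, ← hn, map_mul]
      ring
  let M : Model A K B' F :=
    { d := d, j := j', hj := hj', ev := ev, ev_injective := hev, τ := τ
      hτ := fun i => (MvPolynomial.aeval_X t i).trans (hτ i).symm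
      ϑ := ϑ, P := P, monic := hPmonic
      hroot := by rw [hPmap, hϑ]; exact hroot'
      irr := by rw [hPmap, hPθ]; exact minpoly.irreducible hintθ
      hker := fun Q hQ => by rw [hPmap, hPθ]; exact minpoly.isIntegrallyClosed_dvd hintθ (by rw [hϑ] at hQ; exact hQ)
      S := S, hS := Finset.prod_ne_zero_iff.2 fun g _ => hSg g
      hgen := hgen }
  obtain ⟨g₁, hg₁, H₁⟩ := M.exists_isDomain
  obtain ⟨g₂, hg₂, H₂⟩ := exists_nzd (A := A) K s₀ fun x hx => by
    rw [← hj0, map_mul] at hx
    exact (hj0 x).1 ((mul_eq_zero.1 hx).resolve_left hs₀)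
  refine ⟨g₁ * g₂, mul_ne_zero hg₁ hg₂, fun L _ _ hL => ?_⟩
  rw [map_mul, mul_ne_zero_iff] at hL
  haveI := H₁ L hL.1
  let sL : L ⊗[A] B := (1 : L) ⊗ₜ[A] s₀
  let T := Localization.Away sL
  let incl : B →+* T := (algebraMap (L ⊗[A] B) T).comp (Algebra.TensorProduct.includeRight : B →ₐ[A] L ⊗[A] B).toRingHom
  have hincl : IsUnit (incl s₀) := IsLocalization.Away.algebraMap_isUnit sL
  let ηr : B' →+* T := IsLocalization.Away.lift s₀ (g := incl) hincl
  have hηr : ∀ b, ηr (algebraMap B B' b) = incl b := fun b => IsLocalization.Away.lift_eq s₀ hincl b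
  let η : B' →ₐ[A] T := { ηr with
    commutes' := fun a => by
      show ηr (algebraMap A B' a) = _
      rw [IsScalarTower.algebraMap_apply A B B', hηr,
        IsScalarTower.algebraMap_apply A (L ⊗[A] B) T]
      show algebraMap (L ⊗[A] B) T ((Algebra.TensorProduct.includeRight : B →ₐ[A] L ⊗[A] B) (algebraMap A B a)) = _
      rw [AlgHom.commutes] }
  let back : L ⊗[A] B' →ₐ[L] T := Algebra.TensorProduct.lift (Algebra.ofId L T) η fun _ _ => Commute.all _ _
  let fwd : L ⊗[A] B →ₐ[L] L ⊗[A] B' :=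
    Algebra.TensorProduct.map (AlgHom.id L L) (IsScalarTower.toAlgHom A B B')
  have hcomp : ∀ x, back (fwd x) = algebraMap (L ⊗[A] B) T x := fun x => by
    induction x using TensorProduct.induction_on with
    | zero => simp
    | add a b ha hb => simp only [map_add, ha, hb]
    | tmul l b =>
      simp only [fwd, Algebra.TensorProduct.map_tmul, AlgHom.id_apply, back, Algebra.TensorProduct.lift_tmul]
      show algebraMap L T l * ηr (algebraMap B B' b) = _
      rw [hηr, IsScalarTower.algebraMap_apply L (L ⊗[A] B) T]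
      show algebraMap (L ⊗[A] B) T (l ⊗ₜ[A] 1) * algebraMap (L ⊗[A] B) T ((1 : L) ⊗ₜ[A] b) = _
      rw [← map_mul, Algebra.TensorProduct.tmul_mul_tmul, mul_one, one_mul]
  refine Function.Injective.isDomain fwd.toRingHom ((injective_iff_map_eq_zero _).2 fun x hx => ?_)
  have h0 : algebraMap (L ⊗[A] B) T x = 0 := by rw [← hcomp, show fwd x = 0 from hx, map_zero]
  obtain ⟨⟨_, n, rfl⟩, hn⟩ := (IsLocalization.map_eq_zero_iff (Submonoid.powers sL) T x).1 h0
  clear hx h0
  induction n with
  | zero => simpa using hn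
  | succ n ih =>
    apply ih
    refine H₂ L hL.2 _ ?_
    show sL * _ = 0
    rw [← mul_assoc, ← pow_succ']
    exact hn

theorem exists_isDomain_baseChange [IsDomain (K ⊗[A] B)] :
    ∃ g : A, g ≠ 0 ∧ ∀ (L : Type u) [Field L] [Algebra A L], algebraMap A L g ≠ 0 → IsDomain (L ⊗[A] B) := by
  classical
  let F := FractionRing (K ⊗[A] B)
  haveI : Algebra.EssFiniteType K F := Algebra.EssFiniteType.comp K (K ⊗[A] B) F
  let π : K ⊗[A] B →ₐ[K] F := IsScalarTower.toAlgHom K (K ⊗[A] B) F
  have hπ : Function.Injective π := IsFractionRing.injective (K ⊗[A] B) F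
  let j : B →ₐ[A] F := (π.restrictScalars A).comp Algebra.TensorProduct.includeRight
  have hj0 : ∀ b, j b = 0 ↔ (1 : K) ⊗ₜ[A] b = 0 := fun b => map_eq_zero_iff π hπ
  have halg : Function.Injective (algebraMap A F) := by
    rw [IsScalarTower.algebraMap_eq A K F]
    exact (algebraMap K F).injective.comp (IsFractionRing.injective A K)
  have hfrac : ∀ x : F, ∃ (a : A) (u v : B), a ≠ 0 ∧ j v ≠ 0 ∧ algebraMap A F a * x * j v = j u := by
    intro x
    obtain ⟨num, den, hden, rfl⟩ := IsFractionRing.div_surjective (A := K ⊗[A] B) x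
    obtain ⟨a, u, ha, hu⟩ := exists_smul_eq_tmul num
    obtain ⟨b, v, hb, hv⟩ := exists_smul_eq_tmul den
    have hu' : algebraMap A F a * π num = j u := by
      rw [← Algebra.smul_def]; exact (map_smul (π.restrictScalars A) a num).symm.trans (congrArg π hu)
    have hv' : algebraMap A F b * π den = j v := by
      rw [← Algebra.smul_def]; exact (map_smul (π.restrictScalars A) b den).symm.trans (congrArg π hv)
    have hd : π den ≠ 0 := (map_ne_zero_iff _ hπ).2 (nonZeroDivisors.ne_zero hden)
    refine ⟨a, b • u, v, ha, ?_, ?_⟩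
    · rw [← hv']
      exact mul_ne_zero ((map_ne_zero_iff _ halg).2 hb) hd
    · rw [map_smul, Algebra.smul_def, ← hu', ← hv']
      show algebraMap A F a * (π num / π den) * (algebraMap A F b * π den) = _
      calc algebraMap A F a * (π num / π den) * (algebraMap A F b * π den)
          = algebraMap A F b * (algebraMap A F a * (π num / π den * π den)) := by ring
        _ = _ := by rw [div_mul_cancel₀ _ hd]
  exact exists_isDomain_of_field j hj0 hfrac

end Groth.Agent.GeomLoci
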