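import Groth.Agent.GeomLoci.ConnDvr
import Groth.Agent.GeomLoci.NearPoint
import Groth.Agent.S4646
import Groth.Agent.Triage.CMBC
import Groth.Agent.NagataLib.IntClosure

/-!
# Irreducibility of the generic fibre of a flat proper scheme with integral special fibre
-/

set_option autoImplicit false
set_option linter.style.haveILetI false
set_option linter.unusedSectionVars false
set_option backward.isDefEq.respectTransparency false
set_option backward.isDefEq.respectTransparency.types false

universe u

open AlgebraicGeometry CategoryTheory CategoryTheory.Limits Topology IsLocalRing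

namespace Groth.Agent.GeomLoci

/-- A Noetherian local ring with a regular element generating a prime ideal is a domain. -/
theorem isDomain_of_prime_span {S : Type u} [CommRing S] [IsNoetherianRing S] [IsLocalRing S] {t : S}
    (hreg : ∀ a, t * a = 0 → a = 0) (hp : (Ideal.span {t}).IsPrime) : IsDomain S := by
  classical
  have hle : Ideal.span {t} ≤ maximalIdeal S := IsLocalRing.le_maximalIdeal hp.ne_top
  have hInf := Ideal.iInf_pow_eq_bot_of_isLocalRing (Ideal.span {t}) hp.ne_top
  have hdec : ∀ a : S, a ≠ 0 → ∃ (n : ℕ) (a' : S), a = t ^ n * a' ∧ a' ∉ Ideal.span {t} := by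
    intro a ha
    have hex : ∃ n, a ∉ Ideal.span {t} ^ n := by
      by_contra! hall
      exact ha (by rw [← Ideal.mem_bot, ← hInf]; exact Ideal.mem_iInf.2 hall)
    have h0 : Nat.find hex ≠ 0 := fun e => by
      have := Nat.find_spec hex
      rw [e, pow_zero, Ideal.one_eq_top] at this
      exact this trivial
    obtain ⟨m, hm⟩ := Nat.exists_eq_succ_of_ne_zero h0
    have hmem : a ∈ Ideal.span {t} ^ m := not_not.1 (Nat.find_min hex (by omega))
    rw [Ideal.span_singleton_pow, Ideal.mem_span_singleton'] at hmem
    obtain ⟨a', ha'⟩ := hmem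
    refine ⟨m, a', by rw [← ha', mul_comm], fun hin => Nat.find_spec hex ?_⟩
    rw [hm, Ideal.span_singleton_pow, pow_succ]
    obtain ⟨b, rfl⟩ := Ideal.mem_span_singleton'.1 hin
    exact Ideal.mem_span_singleton'.2 ⟨b, by rw [← ha']; ring⟩
  have hpow : ∀ (n : ℕ) (a : S), t ^ n * a = 0 → a = 0 := by
    intro n
    induction n with
    | zero => simp
    | succ n ih => exact fun a h => hreg a (ih _ (by rw [← h]; ring))
  refine @NoZeroDivisors.to_isDomain S _ ⟨⟨0, 1, fun e => hp.ne_top (Ideal.eq_top_iff_one _ |>.2 (by rw [← e]; exact zero_mem _))⟩⟩ ⟨?_⟩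
  intro a b hab
  by_contra! h
  obtain ⟨n, a', rfl, ha'⟩ := hdec a h.1
  obtain ⟨m, b', rfl, hb'⟩ := hdec b h.2
  have h0 : a' * b' = 0 := hpow (n + m) _ (by rw [← hab]; ring)
  rcases hp.mem_or_mem (show a' * b' ∈ Ideal.span {t} by rw [h0]; exact zero_mem _) with h' | h'
  · exact ha' h'
  · exact hb' h'

theorem encard_irreducibleComponents_congr {T T' : Type u} [TopologicalSpace T] [TopologicalSpace T'] (H : T ≃ₜ T') :
    (irreducibleComponents T).encard = (irreducibleComponents T').encard :=
  (Set.encard_congr (irreducibleComponentsEquivOfIsPreirreducibleFiber H H.continuous H.isOpenMap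
    (fun z => Set.Subsingleton.isPreirreducible ((Set.subsingleton_singleton).preimage H.injective))
    H.surjective).toEquiv).symm

/-- A surjection under which every component has irreducible preimage preserves their number. -/
theorem encard_irreducibleComponents_of_preimage {Z W : Type u} [TopologicalSpace Z] [TopologicalSpace W]
    [TopologicalSpace.NoetherianSpace Z] (p : W → Z) (hc : Continuous p) (hs : Function.Surjective p)
    (h : ∀ C ∈ irreducibleComponents Z, IsIrreducible (p ⁻¹' C)) :
    (irreducibleComponents W).encard = (irreducibleComponents Z).encard := by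
  have hfin : (irreducibleComponents Z).Finite := TopologicalSpace.NoetherianSpace.finite_irreducibleComponents
  have hinj : Set.InjOn (Set.preimage p) (irreducibleComponents Z) := fun a _ b _ e => hs.preimage_injective e
  have himg : irreducibleComponents W = Set.preimage p '' irreducibleComponents Z := by
    have hin : ∀ C : Set W, IsIrreducible C → ∃ c ∈ irreducibleComponents Z, C ⊆ p ⁻¹' c := by
      intro C hC
      obtain ⟨c, hc', hsub⟩ := exists_mem_irreducibleComponents_subset_of_isIrreducible (p '' C)
        (hC.image p hc.continuousOn)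
      exact ⟨c, hc', Set.image_subset_iff.1 hsub⟩
    ext C
    constructor
    · intro hC
      obtain ⟨c, hc', hsub⟩ := hin C hC.1
      exact ⟨c, hc', (hC.2 (h c hc') hsub).antisymm hsub⟩
    · rintro ⟨c, hc', rfl⟩
      refine ⟨h c hc', fun D hD hsub => ?_⟩
      obtain ⟨c', hc'', hsub'⟩ := hin D hD
      have h1 : c ⊆ c' := (Set.preimage_subset_preimage_iff (by rw [hs.range_eq]; exact Set.subset_univ c)).1 (hsub.trans hsub')
      rwa [(hc'.2 hc''.1 h1).antisymm h1 ] at hsub'
  rw [himg, hinj.encard_image]

variable {A : Type u} [CommRing A] [IsDomain A] [IsDiscreteValuationRing A] {X : Scheme.{u}}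
  (q : X ⟶ Spec (CommRingCat.of A))

theorem encard_generic_eq_one [IsProper q] [Flat q]
    [IsIntegral (q.fiber (closedPoint A : Spec (CommRingCat.of A)))] :
    (irreducibleComponents ↥(q ⁻¹' {genPt A})).encard = 1 := by
  haveI : IsLocallyNoetherian X := LocallyOfFiniteType.isLocallyNoetherian q
  let c : Spec (CommRingCat.of A) := closedPoint A
  have hdom : ∀ v, q v = c → IsDomain (X.presheaf.stalk v) := by
    intro v hv
    obtain ⟨w, rfl⟩ : v ∈ Set.range (q.fiberι c) := by rw [Scheme.Hom.range_fiberι]; exact hv
    obtain ⟨_, _⟩ := FlatDvr.isDvr_stalk hv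
    let O := (Spec (CommRingCat.of A)).presheaf.stalk (q (q.fiberι c w))
    let φ : O →+* X.presheaf.stalk (q.fiberι c w) := (q.stalkMap (q.fiberι c w)).hom
    obtain ⟨π, hπ⟩ := IsDiscreteValuationRing.exists_irreducible O
    have hm := (IsDiscreteValuationRing.irreducible_iff_uniformizer π).1 hπ
    have hker : RingHom.ker ((q.fiberι c).stalkMap w).hom = Ideal.span {φ π} := by
      rw [FlatDvr.ker_stalkMap_fiberι]
      show (maximalIdeal O).map φ = _
      rw [hm, Ideal.map_span, Set.image_singleton]
    refine isDomain_of_prime_span (t := φ π) (fun a ha => ?_) ?_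
    · letI := φ.toAlgebra
      haveI : Module.Flat O (X.presheaf.stalk (q.fiberι c w)) := Flat.stalkMap q (q.fiberι c w)
      exact Module.Flat.isSMulRegular_of_nonZeroDivisors (M := X.presheaf.stalk (q.fiberι c w))
        (mem_nonZeroDivisors_of_ne_zero hπ.ne_zero)
        (show π • a = π • 0 by rw [smul_zero, Algebra.smul_def]; exact ha)
    · haveI : IsDomain ((q.fiber c).presheaf.stalk w) := inferInstance
      rw [← hker]
      exact RingHom.ker_isPrime _
  have hge : ∀ v, q v = c → ∃ ζ, q ζ = genPt A ∧ ζ ⤳ v ∧ ∀ z, z ⤳ v → ζ ⤳ z := by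
    intro v hv
    haveI := hdom v hv
    let p₀ : PrimeSpectrum (X.presheaf.stalk v) := ⟨⊥, Ideal.isPrime_bot⟩
    let ζ := X.fromSpecStalk v p₀
    have hle : ∀ z, z ⤳ v → ζ ⤳ z := by
      intro z hz
      obtain ⟨p, rfl⟩ : z ∈ Set.range (X.fromSpecStalk v) := by rw [Scheme.range_fromSpecStalk]; exact hz
      exact ((PrimeSpectrum.le_iff_specializes p₀ p).1 bot_le).map (X.fromSpecStalk v).continuous
    have hζv : ζ ⤳ v := by
      have h1 : ζ ∈ Set.range (X.fromSpecStalk v) := Set.mem_range_self _
      rwa [Scheme.range_fromSpecStalk] at h1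
    refine ⟨ζ, ?_, hζv, hle⟩
    obtain ⟨z, hz, hzq⟩ := FlatDvr.exists_generization_of_isOpenAt q (x := v)
      (fun U hU => q.isOpenMap.image_mem_nhds hU) (show genPt A ⤳ q v by rw [hv]; exact genPt_specializes)
    rcases eq_genPt_or q ζ with h | h
    · exact h
    · exfalso
      have h2 : q ζ ⤳ genPt A := hzq ▸ (hle z hz).map q.continuous
      rw [h] at h2
      exact genPt_ne (genPt_specializes.antisymm h2).eq
  obtain ⟨v₀, hv₀⟩ : ∃ v, q v = c := by
    obtain ⟨w⟩ := (inferInstance : Nonempty ↥(q.fiber c))
    exact ⟨_, FlatDvr.fiberι_apply_eq q w⟩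
  haveI : IrreducibleSpace ↥(q.fiber c) := inferInstance
  obtain ⟨ζ, hζq, hζv, hζ⟩ := hge (q.fiberι c (genericPoint ↥(q.fiber c))) (FlatDvr.fiberι_apply_eq q _)
  have key : ∀ z, q z = genPt A → ζ ⤳ z := by
    intro z hz
    obtain ⟨v, hzv, hv⟩ := q.isClosedMap.specializingMap (a := z) (IsLocalRing.specializes_closedPoint (q z))
    obtain ⟨w, rfl⟩ : v ∈ Set.range (q.fiberι c) := by rw [Scheme.Hom.range_fiberι]; exact hv
    obtain ⟨ζ', hζ'q, hζ'w, hζ'⟩ := hge (q.fiberι c w) (FlatDvr.fiberι_apply_eq q w)
    have h1 : ζ' ⤳ ζ := hζ' ζ (hζv.trans ((genericPoint_specializes w).map (q.fiberι c).continuous))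
    have h2 : ζ ⤳ ζ' := hζ ζ' (h1.trans hζv)
    exact h2.trans (hζ' z hzv)
  haveI : IrreducibleSpace ↥(q ⁻¹' {genPt A}) := by
    refine (irreducibleSpace_def _).2 ?_
    have e : (Set.univ : Set ↥(q ⁻¹' {genPt A})) = closure {⟨ζ, hζq⟩} := by
      refine (Set.eq_univ_of_forall fun z => ?_).symm
      exact specializes_iff_mem_closure.1 ((subtype_specializes_iff _ _).2 (key z.1 z.2))
    show IsIrreducible (Set.univ : Set _)
    rw [e]; exact isIrreducible_singleton.closure
  exact encard_of_irreducibleSpace

/-- A finite extension of the fraction field over which all components of the generic fibre are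
geometrically irreducible, with a discrete valuation ring in it. -/
theorem exists_dvr_splitting_irred [LocallyOfFiniteType q] [QuasiCompact q] :
    ∃ (A' : Type u) (_ : CommRing A') (_ : IsDomain A') (_ : IsDiscreteValuationRing A')
      (π : Spec (CommRingCat.of A') ⟶ Spec (CommRingCat.of A)),
      π (closedPoint A') = closedPoint A ∧ π (genPt A') = genPt A ∧
      (irreducibleComponents ↥((pullback.snd q π) ⁻¹' {genPt A'})).encard =
        MoreMor.nGeomIrredComp q (genPt A) := by
  classical
  let K := FractionRing A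
  let qK := pullback.snd q (Spec.map (CommRingCat.ofHom (algebraMap A K)))
  haveI : IsLocallyNoetherian (pullback q (Spec.map (CommRingCat.ofHom (algebraMap A K)))) :=
    LocallyOfFiniteType.isLocallyNoetherian qK
  haveI : CompactSpace ↥(pullback q (Spec.map (CommRingCat.ofHom (algebraMap A K)))) :=
    QuasiCompact.compactSpace_of_compactSpace qK
  haveI : IsNoetherian (pullback q (Spec.map (CommRingCat.ofHom (algebraMap A K)))) := { }
  haveI : Finite ↥(irreducibleComponents ↥(pullback q (Spec.map (CommRingCat.ofHom (algebraMap A K))))) :=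
    TopologicalSpace.NoetherianSpace.finite_irreducibleComponents.to_subtype
  have hx : ∀ (Z : Set ↥(pullback q (Spec.map (CommRingCat.ofHom (algebraMap A K)))))
      (hZ : Z ∈ irreducibleComponents ↥(pullback q (Spec.map (CommRingCat.ofHom (algebraMap A K))))),
      FBase.ResidueFieldProp qK hZ.1.genericPoint (fun L _ _ => FiniteDimensional K (separableClosure K L)) := by
    intro Z hZ
    let x := hZ.1.genericPoint
    let t := qK x
    let ψ := Spec.preimage ((Spec (CommRingCat.of K)).fromSpecResidueField t)
    let φ := ψ ≫ qK.residueFieldMap x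
    refine ⟨φ.hom, ?_, ?_⟩
    · show Spec.map (ψ ≫ qK.residueFieldMap x) = _
      rw [Spec.map_comp, Spec.map_preimage, Scheme.Hom.SpecMap_residueFieldMap_fromSpecResidueField]
    · haveI : IsClosedImmersion (Spec.map ψ) := by
        rw [Spec.map_preimage]
        refine isClosed_singleton_iff_isClosedImmersion.1 ?_
        haveI : Subsingleton ↥(Spec (CommRingCat.of K)) := inferInstanceAs (Subsingleton (PrimeSpectrum K))
        rw [Set.subsingleton_univ.eq_singleton_of_mem (Set.mem_univ t) |>.symm]
        exact isClosed_univ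
      have hψ : RingHom.FiniteType ψ.hom :=
        (HasRingHomProperty.Spec_iff (P := @LocallyOfFiniteType)).1 inferInstance
      have hφ : φ.hom.EssFiniteType :=
        (RingHom.FiniteType.essFiniteType hψ).comp
          (Triage.CMBC.essFiniteType_residueFieldMap qK x)
      letI := φ.hom.toAlgebra
      haveI : Algebra.EssFiniteType K
          ((pullback q (Spec.map (CommRingCat.ofHom (algebraMap A K)))).residueField x) := hφ
      exact NagataLib.finiteDimensional_of_isAlgebraic _
  obtain ⟨F, _, _, _, _, hconn⟩ := S4646.result qK hx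
  letI : Algebra A F := ((algebraMap K F).comp (algebraMap A K)).toAlgebra
  haveI : IsScalarTower A K F := IsScalarTower.of_algebraMap_eq fun _ => rfl
  let B := integralClosure A F
  haveI : IsIntegralClosure B A F := inferInstance
  haveI : IsDedekindDomain B := IsIntegralClosure.isDedekindDomain A K F B
  haveI : IsFractionRing B F := IsIntegralClosure.isFractionRing_of_finite_extension A K F B
  have hAF : Function.Injective (algebraMap A F) :=
    (algebraMap K F).injective.comp (IsFractionRing.injective A K)
  have hAB : Function.Injective (algebraMap A B) := fun a b h => hAF (congrArg Subtype.val h)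
  haveI : Algebra.IsIntegral A B := ⟨fun b => IsIntegralClosure.isIntegral A F b⟩
  have hBf : ¬ IsField B := fun hf =>
    IsDiscreteValuationRing.not_isField A (isField_of_isIntegral_of_isField hAB hf)
  obtain ⟨P, hP⟩ := Ideal.exists_maximal B
  haveI := hP
  have hPne : P ≠ ⊥ := fun h => hBf ⟨exists_pair_ne B, mul_comm, fun {a} ha => by
    obtain ⟨c, i, hi, hc⟩ := hP.exists_inv (x := a) (by rw [h]; exact fun e => ha (Ideal.mem_bot.1 e))
    rw [h, Ideal.mem_bot] at hi
    exact ⟨c, by rw [mul_comm, ← hc, hi, add_zero]⟩⟩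
  let A' := Localization.subalgebra.ofField F P.primeCompl P.primeCompl_le_nonZeroDivisors
  haveI : IsLocalization.AtPrime A' P := Localization.subalgebra.isLocalization_ofField F P.primeCompl _
  haveI : IsDiscreteValuationRing A' :=
    IsLocalization.AtPrime.isDiscreteValuationRing_of_dedekind_domain B hPne A'
  haveI : IsFractionRing A' F := inferInstance
  let φ : A →+* A' := (algebraMap B A').comp (algebraMap A B)
  let π : Spec (CommRingCat.of A') ⟶ Spec (CommRingCat.of A) := Spec.map (CommRingCat.ofHom φ)
  have hπc : π (closedPoint A') = closedPoint A := by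
    refine PrimeSpectrum.ext ?_
    show Ideal.comap φ (maximalIdeal A') = maximalIdeal A
    rw [← Ideal.comap_comap]
    rw [show Ideal.comap (algebraMap B A') (maximalIdeal A') = P from IsLocalization.AtPrime.under_maximalIdeal A' P]
    exact IsLocalRing.eq_maximalIdeal (Ideal.isMaximal_comap_of_isIntegral_of_isMaximal P)
  have hφF : (algebraMap A' F).comp φ = algebraMap A F := rfl
  have hπη : π (genPt A') = genPt A := PrimeSpectrum.ext (by
    show Ideal.comap φ ⊥ = ⊥
    rw [← RingHom.ker_eq_comap_bot, ← RingHom.injective_iff_ker_eq_bot]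
    exact fun a b h => hAF (by rw [← hφF]; exact congrArg (algebraMap A' F) h))
  refine ⟨A', inferInstance, inferInstance, inferInstance, π, hπc, hπη, ?_⟩
  let j : Spec (CommRingCat.of F) ⟶ Spec (CommRingCat.of A') := Spec.map (CommRingCat.ofHom (algebraMap A' F))
  haveI : IsPreimmersion j := IsPreimmersion.of_isLocalization (nonZeroDivisors A')
  have hrange : Set.range (pullback.fst (pullback.snd q π) j) = (pullback.snd q π) ⁻¹' {genPt A'} := by
    rw [Scheme.Pullback.range_fst]
    congr 1
    refine Set.eq_singleton_iff_unique_mem.2 ⟨⟨closedPoint F, ?_⟩, ?_⟩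
    · refine PrimeSpectrum.ext ?_
      show Ideal.comap (algebraMap A' F) (maximalIdeal F) = ⊥
      rw [IsLocalRing.maximalIdeal_eq_bot, ← RingHom.ker_eq_comap_bot,
        (RingHom.injective_iff_ker_eq_bot _).1 (IsFractionRing.injective A' F)]
    · rintro _ ⟨w, rfl⟩
      refine PrimeSpectrum.ext ?_
      show Ideal.comap (algebraMap A' F) (w : PrimeSpectrum F).asIdeal = ⊥
      rw [(Ideal.eq_bot_or_top (w : PrimeSpectrum F).asIdeal).resolve_right (w : PrimeSpectrum F).isPrime.ne_top,
        ← RingHom.ker_eq_comap_bot, (RingHom.injective_iff_ker_eq_bot _).1 (IsFractionRing.injective A' F)]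
  rw [← encard_irreducibleComponents_congr
    ((pullback.fst (pullback.snd q π) j).isEmbedding.toHomeomorph.trans (Homeomorph.setCongr hrange))]
  let iK : Spec (CommRingCat.of F) ⟶ Spec (CommRingCat.of K) := Spec.map (CommRingCat.ofHom (algebraMap K F))
  have hjπ : j ≫ π = iK ≫ Spec.map (CommRingCat.ofHom (algebraMap A K)) := by
    simp only [j, π, iK, ← Spec.map_comp, ← CommRingCat.ofHom_comp]
    rfl
  have sqZ : IsPullback (FBase.bcπ qK F ≫ pullback.fst q _) (FBase.bcStr qK F) q
      (iK ≫ Spec.map (CommRingCat.ofHom (algebraMap A K))) :=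
    (IsPullback.of_hasPullback qK iK).paste_horiz (IsPullback.of_hasPullback q _)
  have sqj : IsPullback (pullback.fst (pullback.snd q π) j ≫ pullback.fst q π) (pullback.snd (pullback.snd q π) j) q
      (iK ≫ Spec.map (CommRingCat.ofHom (algebraMap A K))) := by
    rw [← hjπ]
    exact (IsPullback.of_hasPullback _ j).paste_horiz (IsPullback.of_hasPullback q π)
  rw [encard_irreducibleComponents_congr (sqj.isoIsPullback _ _ sqZ).hom.homeomorph]
  haveI : LocallyOfFiniteType (FBase.bcStr qK F) := MorphismProperty.pullback_snd _ _ inferInstance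
  haveI : QuasiCompact (FBase.bcStr qK F) := MorphismProperty.pullback_snd _ _ inferInstance
  haveI : IsLocallyNoetherian (FBase.bc qK F) := LocallyOfFiniteType.isLocallyNoetherian (FBase.bcStr qK F)
  haveI : CompactSpace ↥(FBase.bc qK F) := QuasiCompact.compactSpace_of_compactSpace (FBase.bcStr qK F)
  haveI : IsNoetherian (FBase.bc qK F) := { }
  let Ω := SeparableClosure F
  let iΩ : Spec (CommRingCat.of Ω) ⟶ Spec (CommRingCat.of F) := Spec.map (CommRingCat.ofHom (algebraMap F Ω))
  let s := iΩ ≫ iK ≫ Spec.map (CommRingCat.ofHom (algebraMap A K))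
  have hs : s (closedPoint Ω) = genPt A := by
    refine PrimeSpectrum.ext ?_
    show Ideal.comap (algebraMap A K) (Ideal.comap (algebraMap K F) (Ideal.comap (algebraMap F Ω) (maximalIdeal Ω))) = ⊥
    rw [IsLocalRing.maximalIdeal_eq_bot, Ideal.comap_comap, Ideal.comap_comap, ← RingHom.ker_eq_comap_bot,
      ← RingHom.injective_iff_ker_eq_bot]
    exact ((algebraMap F Ω).injective.comp hAF)
  rw [← hs, (nGeom_eq_counts q s (closedPoint Ω)).1]
  have sqW : IsPullback (FBase.bcπ (FBase.bcStr qK F) Ω ≫ FBase.bcπ qK F ≫ pullback.fst q _)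
      (FBase.bcStr (FBase.bcStr qK F) Ω) q s :=
    (IsPullback.of_hasPullback (FBase.bcStr qK F) iΩ).paste_horiz sqZ
  rw [← encard_irreducibleComponents_congr sqW.isoPullback.hom.homeomorph]
  haveI : Surjective (FBase.bcπ (FBase.bcStr qK F) Ω) := by
    haveI : Surjective iΩ := GrpSchLib.surjective_spec_map_field _
    exact MorphismProperty.pullback_fst _ _ inferInstance
  exact (encard_irreducibleComponents_of_preimage _ (FBase.bcπ (FBase.bcStr qK F) Ω).continuous
    (FBase.bcπ (FBase.bcStr qK F) Ω).surjective fun C hC => hconn Ω C hC).symm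

end Groth.Agent.GeomLoci
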