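import Groth.Agent.GeomLoci.IrredDvr
import Groth.Agent.GeomLoci.ConnFlat
import Groth.Agent.GeomRedFlat5.Nhd
import Groth.Agent.FlatMisc.GeomRedOpen

/-!
# Geometric integrality of the fibres of a proper flat morphism
-/

set_option autoImplicit false
set_option linter.style.haveILetI false
set_option linter.unusedSectionVars false
set_option backward.isDefEq.respectTransparency false
set_option backward.isDefEq.respectTransparency.types false

universe u

open AlgebraicGeometry CategoryTheory CategoryTheory.Limits Topology IsLocalRing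

namespace Groth.Agent.GeomLoci

variable {X Y : Scheme.{u}} (f : X ⟶ Y) [IsProper f] [Flat f] [IsLocallyNoetherian Y] {y y' : Y}

theorem nGeomIrredComp_generization_eq_one (hy : y' ⤳ y)
    (hint : GeometricallyIntegral (f.fiberToSpecResidueField y)) :
    MoreMor.nGeomIrredComp f y' = 1 := by
  by_cases hne : y = y'
  · subst hne
    haveI := hint
    exact nGeomIrredComp_eq_one f y
  obtain ⟨A, _, _, _, τ, hτc, hτη⟩ := UnivOpen.exists_dvr_lift hy hne
  obtain ⟨A', _, _, _, π, hπc, hπη, hsplit⟩ := exists_dvr_splitting_irred (pullback.snd f τ)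
  let τ' := π ≫ τ
  have hc : τ' (closedPoint A') = y := by rw [Scheme.Hom.comp_apply, hπc, hτc]
  let f₁ := pullback.snd f τ
  let q := pullback.snd f₁ π
  let p := pullback.fst f₁ π ≫ pullback.fst f τ
  have sq : IsPullback p q f τ' :=
    (IsPullback.of_hasPullback f₁ π).paste_horiz (IsPullback.of_hasPullback f τ)
  haveI : IsProper q := MorphismProperty.of_isPullback sq inferInstance
  haveI : Flat q := MorphismProperty.of_isPullback sq inferInstance
  haveI : IsIntegral (q.fiber (closedPoint A' : Spec (CommRingCat.of A'))) := by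
    let φ : Y.residueField y ⟶ (Spec (CommRingCat.of A')).residueField (closedPoint A') :=
      (Y.residueFieldCongr hc).inv ≫ τ'.residueFieldMap _
    have hφ : Spec.map φ ≫ Y.fromSpecResidueField y =
        (Spec (CommRingCat.of A')).fromSpecResidueField (closedPoint A') ≫ τ' := by
      simp only [φ, Spec.map_comp, Category.assoc, Scheme.residueFieldCongr_inv,
        Scheme.residueFieldCongr_fromSpecResidueField, Scheme.Hom.SpecMap_residueFieldMap_fromSpecResidueField]
    have sq₂ : IsPullback (q.fiberι (closedPoint A') ≫ p) (q.fiberToSpecResidueField (closedPoint A')) f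
        (Spec.map φ ≫ Y.fromSpecResidueField y) := by
      rw [hφ]
      exact (IsPullback.of_hasPullback q _).paste_horiz sq
    exact hint.geometrically_isIntegral (Spec.map φ) _ _ (IsPullback.of_right' sq₂
      (IsPullback.of_hasPullback f (Y.fromSpecResidueField y)))
  rw [← hτη _ genPt_ne, ← (Triage.GeomCount.nGeom_baseChange f f₁ (pullback.fst f τ) τ
    (IsPullback.of_hasPullback f τ) _).1, ← hsplit]
  exact encard_generic_eq_one q

theorem geometricallyIntegral_fiber_iff {X Y : Scheme.{u}} (f : X ⟶ Y) [LocallyOfFiniteType f] [QuasiCompact f] (z : Y) :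
    GeometricallyIntegral (f.fiberToSpecResidueField z) ↔
      GeometricallyReduced (f.fiberToSpecResidueField z) ∧ MoreMor.nGeomIrredComp f z = 1 := by
  constructor
  · intro h
    haveI := h
    exact ⟨inferInstance, nGeomIrredComp_eq_one f z⟩
  · rintro ⟨h1, h2⟩
    haveI := h1
    haveI : GeometricallyIrreducible (f.fiberToSpecResidueField z) :=
      geometricallyIrreducible_of_nGeom _ fun s => by
        rw [(Triage.GeomCount.nGeom_baseChange f (f.fiberToSpecResidueField z) (f.fiberι z)
          (Y.fromSpecResidueField z) (IsPullback.of_hasPullback f _) s).1]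
        rw [show (Y.fromSpecResidueField z) s = z from Scheme.fromSpecResidueField_apply _ s]
        exact h2
    exact GeometricallyIntegral.of_geometricallyReduced_of_geometricallyIrreducible _

theorem geometricallyIntegral_nhds (hint : GeometricallyIntegral (f.fiberToSpecResidueField y)) :
    ∃ V ∈ nhds y, ∀ z ∈ V, GeometricallyIntegral (f.fiberToSpecResidueField z) := by
  haveI : LocallyOfFinitePresentation f := GeomRedFlat5.lfp_of_noetherian f
  have h1 : {z : Y | MoreMor.nGeomIrredComp f z = 1} ∈ nhds y :=
    FibDim.mem_nhds_of_generizations (isLocallyConstructible_counts f _).1 fun z hz =>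
      nGeomIrredComp_generization_eq_one f hz hint
  have hred : y ∈ {z : Y | GeometricallyReduced (f.fiberToSpecResidueField z)} := by
    haveI := hint
    show GeometricallyReduced _
    infer_instance
  exact ⟨_, Filter.inter_mem h1 ((FlatMisc.GeomRedOpen.isOpen_locus f).mem_nhds hred),
    fun z ⟨hz1, hz2⟩ => (geometricallyIntegral_fiber_iff f z).2 ⟨hz2, hz1⟩⟩

theorem isOpen_geometricallyIntegral {X Y : Scheme.{u}} (f : X ⟶ Y) [IsProper f] [Flat f]
    [LocallyOfFinitePresentation f] :
    IsOpen {y : Y | GeometricallyIntegral (f.fiberToSpecResidueField y)} := by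
  refine isOpen_iff_mem_nhds.2 fun y hy => ?_
  obtain ⟨V, hV, hyV, -⟩ := exists_isAffineOpen_mem_and_subset (x := y) (U := ⊤) trivial
  haveI : IsAffine (V : Scheme.{u}) := hV
  obtain ⟨S₀, X₀, f₀, q, π, _, _, _, hq⟩ := exists_proper_flat_model (pullback.snd f V.ι)
  have h1 := S9735.result f V.ι _ _ (IsPullback.of_hasPullback f V.ι)
  have h2 := S9735.result f₀ π _ q hq
  have key : ∀ v : (V : Scheme.{u}), GeometricallyIntegral (f.fiberToSpecResidueField (V.ι v)) ↔
      GeometricallyIntegral (f₀.fiberToSpecResidueField (π v)) := fun v => by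
    rw [geometricallyIntegral_fiber_iff f, geometricallyIntegral_fiber_iff f₀,
      ← (Triage.GeomCount.nGeom_baseChange f _ _ V.ι (IsPullback.of_hasPullback f V.ι) v).1,
      (Triage.GeomCount.nGeom_baseChange f₀ _ q π hq v).1]
    refine and_congr_left' (Iff.trans ?_ (Set.ext_iff.1 h2 v))
    exact (Set.ext_iff.1 h1 v).symm
  let v : (V : Scheme.{u}) := ⟨y, hyV⟩
  obtain ⟨W, hW, hWI⟩ := geometricallyIntegral_nhds f₀ (y := π v) ((key v).1 hy)
  refine Filter.mem_of_superset
    (V.ι.isOpenEmbedding.isOpenMap.image_mem_nhds (π.continuous.continuousAt.preimage_mem_nhds (hW : W ∈ nhds (π v)))) ?_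
  rintro _ ⟨w, hw, rfl⟩
  exact (key w).2 (hWI _ hw)

end Groth.Agent.GeomLoci
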