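import Mathlib

/-!
# Irreducibility of a monic polynomial spreads out

A monic polynomial over `A[t]` which is irreducible over `K[t]`, for `K` an algebraically closed
fraction field of the domain `A`, stays irreducible over `L[t]` for every field point `A → L`
outside a proper closed subset.
-/

set_option autoImplicit false
set_option linter.style.haveILetI false

universe u

open Polynomial TensorProduct

namespace Groth.Agent.GeomLoci

theorem exists_smul_eq_zero {A : Type u} [CommRing A] [IsDomain A] (K : Type u) [Field K] [Algebra A K]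
    [IsFractionRing A K] (M : Type u) [AddCommGroup M] [Module A M] (x : M) (h : (1 : K) ⊗ₜ[A] x = 0) :
    ∃ a : A, a ≠ 0 ∧ a • x = 0 := by
  obtain ⟨c, hc⟩ := (IsLocalizedModule.eq_zero_iff (nonZeroDivisors A) (TensorProduct.mk A K M 1)).1 h
  exact ⟨c, nonZeroDivisors.coe_ne_zero c, hc⟩

/-- The total degree of a coefficient is bounded by that of the whole polynomial. -/
theorem exists_degree_bound {A : Type u} [CommRing A] {σ : Type} (P : Polynomial (MvPolynomial σ A)) :
    ∃ D : ℕ, ∀ (L : Type u) [Field L] (φ : A →+* L) (q r : Polynomial (MvPolynomial σ L)),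
      q * r = P.map (MvPolynomial.map φ) → r ≠ 0 → q ≠ 0 → ∀ k, (q.coeff k).totalDegree ≤ D := by
  classical
  refine ⟨((MvPolynomial.optionEquivLeft A σ).symm P).totalDegree, fun L _ φ q r h hr hq k => ?_⟩
  let e := MvPolynomial.optionEquivLeft L σ
  have hP : e (MvPolynomial.map φ ((MvPolynomial.optionEquivLeft A σ).symm P)) = P.map (MvPolynomial.map φ) := by
    refine Polynomial.ext fun i => MvPolynomial.ext _ _ fun m => ?_
    rw [Polynomial.coeff_map, MvPolynomial.coeff_map]
    have h2 : MvPolynomial.coeff m (P.coeff i) =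
        MvPolynomial.coeff (m.optionElim i) ((MvPolynomial.optionEquivLeft A σ).symm P) := by
      rw [← MvPolynomial.optionEquivLeft_coeff_coeff, AlgEquiv.apply_symm_apply]
    rw [MvPolynomial.optionEquivLeft_coeff_coeff, MvPolynomial.coeff_map, h2]
  by_cases hk : q.coeff k = 0
  · simp [hk]
  have h3 : (e.symm q * e.symm r).totalDegree ≤
      ((MvPolynomial.optionEquivLeft A σ).symm P).totalDegree := by
    rw [← map_mul, h, ← hP, AlgEquiv.symm_apply_apply]
    exact Finset.sup_mono (MvPolynomial.support_map_subset _ _)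
  rw [MvPolynomial.totalDegree_mul_of_isDomain ((map_ne_zero_iff _ e.symm.injective).2 hq)
    ((map_ne_zero_iff _ e.symm.injective).2 hr)] at h3
  have h4 := MvPolynomial.totalDegree_coeff_optionEquivLeft_le (R := L) (S₁ := σ) (e.symm q) k
  rw [AlgEquiv.apply_symm_apply] at h4
  omega

variable {A : Type u} [CommRing A] [IsDomain A] {σ : Type} [Fintype σ] [DecidableEq σ]

/-- The exponent of an element of the box. -/
noncomputable def expo {D : ℕ} (e : σ → Fin (D + 1)) : σ →₀ ℕ := Finsupp.equivFunOnFinite.symm fun i => (e i : ℕ)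

theorem exists_box {L : Type u} [CommRing L] {D : ℕ} {c : MvPolynomial σ L} (hc : c.totalDegree ≤ D) :
    ∑ e : σ → Fin (D + 1), MvPolynomial.monomial (expo e) (c.coeff (expo e)) = c := by
  classical
  refine MvPolynomial.ext _ _ fun m => ?_
  rw [MvPolynomial.coeff_sum]
  simp only [MvPolynomial.coeff_monomial]
  by_cases hm : ∀ i, m i ≤ D
  · let e₀ : σ → Fin (D + 1) := fun i => ⟨m i, by have := hm i; omega⟩
    have he : expo e₀ = m := Finsupp.ext fun i => by simp [expo, e₀]
    rw [Finset.sum_eq_single e₀]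
    · simp [he]
    · intro e _ hne
      rw [if_neg]
      intro h
      exact hne (funext fun i => Fin.ext (by
        have := DFunLike.congr_fun (h.trans he.symm) i
        simpa [expo] using this))
    · simp
  · push Not at hm
    obtain ⟨i, hi⟩ := hm
    have h0 : c.coeff m = 0 := by
      by_contra h
      have h1 := MvPolynomial.le_totalDegree (MvPolynomial.mem_support_iff.2 h)
      have h2 : m i ≤ m.sum fun _ e => e := by
        rw [Finsupp.sum_fintype _ _ (fun _ => rfl)]
        exact Finset.single_le_sum (fun _ _ => Nat.zero_le _) (Finset.mem_univ i)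
      omega
    rw [h0]
    refine Finset.sum_eq_zero fun e _ => if_neg fun h => ?_
    have := (e i).2
    have h' := DFunLike.congr_fun h i
    simp [expo] at h'
    omega

/-- The universal monic polynomial of degree `m` with coefficients in the box. -/
noncomputable def univPoly (R : Type u) [CommRing R] (σ : Type) [Fintype σ] [DecidableEq σ] (m D : ℕ)
    (c : Fin m × (σ → Fin (D + 1)) → R) : Polynomial (MvPolynomial σ R) :=
  X ^ m + ∑ j : Fin m, C (∑ e : σ → Fin (D + 1), MvPolynomial.monomial (expo e) (c (j, e))) * X ^ (j : ℕ)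

theorem map_univPoly {R R' : Type u} [CommRing R] [CommRing R'] (ψ : R →+* R') {m D : ℕ}
    (c : Fin m × (σ → Fin (D + 1)) → R) :
    (univPoly R σ m D c).map (MvPolynomial.map ψ) = univPoly R' σ m D (ψ ∘ c) := by
  classical
  simp [univPoly, Polynomial.map_sum, map_sum, MvPolynomial.map_monomial]

theorem monic_univPoly {R : Type u} [CommRing R] {m D : ℕ} (c : Fin m × (σ → Fin (D + 1)) → R) :
    (univPoly R σ m D c).Monic := by
  classical
  refine Polynomial.monic_X_pow_add ?_
  exact Polynomial.degree_sum_fin_lt fun j => ∑ e : σ → Fin (D + 1), MvPolynomial.monomial (expo e) (c (j, e))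

theorem natDegree_univPoly {R : Type u} [CommRing R] [Nontrivial R] {m D : ℕ}
    (c : Fin m × (σ → Fin (D + 1)) → R) : (univPoly R σ m D c).natDegree = m := by
  classical
  refine Polynomial.natDegree_eq_of_degree_eq_some ?_
  rw [univPoly, Polynomial.degree_add_eq_left_of_degree_lt, Polynomial.degree_X_pow]
  rw [Polynomial.degree_X_pow]
  exact Polynomial.degree_sum_fin_lt fun j => ∑ e : σ → Fin (D + 1), MvPolynomial.monomial (expo e) (c (j, e))

theorem eq_univPoly {L : Type u} [CommRing L] {m D : ℕ} {q : Polynomial (MvPolynomial σ L)}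
    (hq : q.Monic) (hm : q.natDegree = m) (hD : ∀ k, (q.coeff k).totalDegree ≤ D) :
    univPoly L σ m D (fun je => (q.coeff je.1).coeff (expo je.2)) = q := by
  classical
  conv_rhs => rw [hq.as_sum, hm]
  simp only [univPoly]
  rw [Finset.sum_range fun i => C (q.coeff i) * X ^ i]
  simp [exists_box (hD _)]

variable {K : Type u} [Field K] [IsAlgClosed K] [Algebra A K] [IsFractionRing A K]

omit [IsDomain A] [Algebra A K] [IsFractionRing A K] in
theorem exists_algHom_of_nontrivial (T : Type u) [CommRing T] [Algebra K T] [Algebra.FiniteType K T]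
    [Nontrivial T] : Nonempty (T →ₐ[K] K) := by
  obtain ⟨M, hM⟩ := Ideal.exists_maximal T
  letI := Ideal.Quotient.field M
  haveI : Algebra.FiniteType K (T ⧸ M) := (inferInstance : Algebra.FiniteType K T).trans inferInstance
  haveI : Module.Finite K (T ⧸ M) := finite_of_finite_type_of_isJacobsonRing _ _
  exact ⟨(IsAlgClosed.lift : (T ⧸ M) →ₐ[K] K).comp (Ideal.Quotient.mkₐ K M)⟩

/-- A finite type algebra over a domain has a point in the algebraically closed fraction field,
unless its structure map kills a nonzero element. -/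
theorem exists_point_or (R : Type u) [CommRing R] [Algebra A R] [Algebra.FiniteType A R] :
    Nonempty (R →ₐ[A] K) ∨ ∃ g : A, g ≠ 0 ∧ algebraMap A R g = 0 := by
  by_cases hT : Nontrivial (K ⊗[A] R)
  · left
    obtain ⟨β⟩ := exists_algHom_of_nontrivial (K := K) (K ⊗[A] R)
    exact ⟨(β.restrictScalars A).comp Algebra.TensorProduct.includeRight⟩
  · right
    rw [not_nontrivial_iff_subsingleton] at hT
    obtain ⟨g, hg, hg1⟩ := exists_smul_eq_zero (A := A) K R 1 (Subsingleton.elim _ _)
    exact ⟨g, hg, by rwa [Algebra.smul_def, mul_one] at hg1⟩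

/-- No factorisation of a given shape. -/
theorem exists_forall_no_factor (P : Polynomial (MvPolynomial σ A)) (hP : P.Monic) (D m : ℕ) (hm : 1 ≤ m)
    (hmn : m < P.natDegree) (hirr : Irreducible (P.map (MvPolynomial.map (algebraMap A K)))) :
    ∃ g : A, g ≠ 0 ∧ ∀ (L : Type u) [Field L] (φ : A →+* L), φ g ≠ 0 → ∀ (c₁ : Fin m × (σ → Fin (D + 1)) → L)
      (c₂ : Fin (P.natDegree - m) × (σ → Fin (D + 1)) → L),
      univPoly L σ m D c₁ * univPoly L σ (P.natDegree - m) D c₂ ≠ P.map (MvPolynomial.map φ) := by
  classical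
  let n := P.natDegree
  let ι := (Fin m × (σ → Fin (D + 1))) ⊕ (Fin (n - m) × (σ → Fin (D + 1)))
  let U := MvPolynomial ι A
  let d : Polynomial (MvPolynomial σ U) :=
    univPoly U σ m D (fun x => MvPolynomial.X (Sum.inl x)) *
      univPoly U σ (n - m) D (fun x => MvPolynomial.X (Sum.inr x)) - P.map (MvPolynomial.map MvPolynomial.C)
  let J : Ideal U := Ideal.span {a | ∃ k e, (d.coeff k).coeff e = a}
  have key : ∀ (L : Type u) [Field L] [Algebra A L] (ψ : U →ₐ[A] L),
      J ≤ RingHom.ker ψ.toRingHom ↔
        univPoly L σ m D (fun x => ψ (MvPolynomial.X (Sum.inl x))) *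
          univPoly L σ (n - m) D (fun x => ψ (MvPolynomial.X (Sum.inr x))) =
            P.map (MvPolynomial.map (algebraMap A L)) := by
    intro L _ _ ψ
    have hd : d.map (MvPolynomial.map ψ.toRingHom) =
        univPoly L σ m D (fun x => ψ (MvPolynomial.X (Sum.inl x))) *
          univPoly L σ (n - m) D (fun x => ψ (MvPolynomial.X (Sum.inr x))) -
            P.map (MvPolynomial.map (algebraMap A L)) := by
      have hC : (MvPolynomial.map ψ.toRingHom).comp (MvPolynomial.map (MvPolynomial.C : A →+* U)) =
          MvPolynomial.map (σ := σ) (algebraMap A L) := by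
        refine MvPolynomial.ringHom_ext (fun a => ?_) fun i => ?_
        · simp only [RingHom.comp_apply, MvPolynomial.map_C]
          exact congrArg MvPolynomial.C (ψ.commutes a)
        · simp
      rw [Polynomial.map_sub, Polynomial.map_mul, map_univPoly, map_univPoly, Polynomial.map_map, hC]
      rfl
    rw [Ideal.span_le]
    constructor
    · intro h
      rw [← sub_eq_zero, ← hd]
      refine Polynomial.ext fun k => MvPolynomial.ext _ _ fun e => ?_
      rw [Polynomial.coeff_map, MvPolynomial.coeff_map, Polynomial.coeff_zero, MvPolynomial.coeff_zero]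
      exact h ⟨k, e, rfl⟩
    · rintro h _ ⟨k, e, rfl⟩
      have := congrArg (fun p => MvPolynomial.coeff e (Polynomial.coeff p k)) (hd.trans (sub_eq_zero.2 h))
      simpa [Polynomial.coeff_map, MvPolynomial.coeff_map] using this
  rcases exists_point_or (A := A) (K := K) (U ⧸ J) with ⟨⟨χ⟩⟩ | ⟨g, hg, hg1⟩
  · exfalso
    let ψ : U →ₐ[A] K := χ.comp (Ideal.Quotient.mkₐ A J)
    have hJ : J ≤ RingHom.ker ψ.toRingHom := fun a ha => by
      show χ (Ideal.Quotient.mk J a) = 0
      rw [Ideal.Quotient.eq_zero_iff_mem.2 ha, map_zero]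
    have h := (key K ψ).1 hJ
    rcases hirr.isUnit_or_isUnit h.symm with h1 | h1
    · have := (monic_univPoly _).eq_one_of_isUnit h1
      have h2 := natDegree_univPoly (R := K) (σ := σ) (D := D) (fun x => ψ (MvPolynomial.X (Sum.inl x)))
      rw [this, natDegree_one] at h2
      omega
    · have := (monic_univPoly _).eq_one_of_isUnit h1
      have h2 := natDegree_univPoly (R := K) (σ := σ) (D := D) (fun x => ψ (MvPolynomial.X (Sum.inr x)))
      rw [this, natDegree_one] at h2
      omega
  · refine ⟨g, hg, fun L _ φ hφ c₁ c₂ h => ?_⟩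
    letI := φ.toAlgebra
    let ψ : U →ₐ[A] L := MvPolynomial.aeval (Sum.elim c₁ c₂)
    have e₁ : (fun x => ψ (MvPolynomial.X (Sum.inl x))) = c₁ :=
      funext fun x => MvPolynomial.aeval_X _ _
    have e₂ : (fun x => ψ (MvPolynomial.X (Sum.inr x))) = c₂ :=
      funext fun x => MvPolynomial.aeval_X _ _
    have hJ : J ≤ RingHom.ker ψ.toRingHom := (key L ψ).2 (by rw [e₁, e₂]; exact h)
    have hgJ : (MvPolynomial.C g : U) ∈ J := by
      rw [← Ideal.Quotient.eq_zero_iff_mem, ← MvPolynomial.algebraMap_eq, Ideal.Quotient.mk_algebraMap]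
      exact hg1
    exact hφ ((MvPolynomial.aeval_C _ g).symm.trans (hJ hgJ))

/-- Irreducibility spreads out. -/
theorem exists_irreducible_map (P : Polynomial (MvPolynomial σ A)) (hP : P.Monic)
    (hirr : Irreducible (P.map (MvPolynomial.map (algebraMap A K)))) :
    ∃ g : A, g ≠ 0 ∧ ∀ (L : Type u) [Field L] (φ : A →+* L), φ g ≠ 0 →
      Irreducible (P.map (MvPolynomial.map φ)) := by
  classical
  obtain ⟨D, hD⟩ := exists_degree_bound P
  have hn : 1 ≤ P.natDegree := by
    rcases Nat.eq_zero_or_pos P.natDegree with h | h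
    · exact absurd hirr (by rw [hP.natDegree_eq_zero.1 h]; simp)
    · exact h
  have H : ∀ m : Fin P.natDegree, ∃ g : A, g ≠ 0 ∧ (1 ≤ (m : ℕ) → ∀ (L : Type u) [Field L] (φ : A →+* L),
      φ g ≠ 0 → ∀ (c₁ : Fin m × (σ → Fin (D + 1)) → L) (c₂ : Fin (P.natDegree - m) × (σ → Fin (D + 1)) → L),
      univPoly L σ m D c₁ * univPoly L σ (P.natDegree - m) D c₂ ≠ P.map (MvPolynomial.map φ)) := fun m => by
    by_cases hm : 1 ≤ (m : ℕ)
    · obtain ⟨g, hg, hg'⟩ := exists_forall_no_factor P hP D m hm m.2 hirr
      exact ⟨g, hg, fun _ => hg'⟩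
    · exact ⟨1, one_ne_zero, fun h => absurd h hm⟩
  choose g hg hg' using H
  refine ⟨∏ m, g m, Finset.prod_ne_zero_iff.2 fun m _ => hg m, fun L _ φ hφ => ?_⟩
  rw [map_prod, Finset.prod_ne_zero_iff] at hφ
  have hPL := hP.map (MvPolynomial.map (σ := σ) φ)
  have hdeg : (P.map (MvPolynomial.map φ)).natDegree = P.natDegree := hP.natDegree_map _
  rw [hPL.irreducible_iff_natDegree', hdeg]
  refine ⟨fun h => by rw [h, natDegree_one] at hdeg; omega, fun q r hq hr hqr hmem => ?_⟩
  rw [Finset.mem_Ioc] at hmem
  have hsum : q.natDegree + r.natDegree = P.natDegree := by rw [← hdeg, ← hqr, hq.natDegree_mul hr]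
  refine hg' ⟨q.natDegree, by omega⟩ (by show 1 ≤ q.natDegree; omega) L φ (hφ _ (Finset.mem_univ _))
    (fun je => (q.coeff je.1).coeff (expo je.2)) (fun je => (r.coeff je.1).coeff (expo je.2)) ?_
  rw [eq_univPoly hq rfl (hD L φ q r hqr hr.ne_zero hq.ne_zero),
    eq_univPoly hr (show r.natDegree = P.natDegree - q.natDegree by omega)
      (hD L φ r q (by rw [mul_comm]; exact hqr) hq.ne_zero hr.ne_zero), hqr]

end Groth.Agent.GeomLoci
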