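import Groth.Agent.GeomLoci.IrredSpread
import Groth.Agent.GenFreeRed.Main

/-!
# Non-zero-divisors and vanishing over nearby points
-/

set_option autoImplicit false
set_option linter.style.haveILetI false

universe u

open TensorProduct

namespace Groth.Agent.GeomLoci

variable {A : Type u} [CommRing A] [IsDomain A] (K : Type u) [Field K] [Algebra A K] [IsFractionRing A K]
  {B : Type u} [CommRing B] [Algebra A B] [Algebra.FiniteType A B]

omit [IsDomain A] in
theorem eq_zero_of_smul {R : Type*} [CommRing R] [IsDomain R] {M : Type*} [AddCommGroup M] [Module R M]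
    [Module.Free R M] {r : R} {m : M} (hr : r ≠ 0) (h : r • m = 0) : m = 0 := by
  let b := Module.Free.chooseBasis R M
  refine b.repr.injective ?_
  have h1 := congrArg b.repr h
  rw [map_smul, map_zero] at h1
  rw [map_zero]
  refine Finsupp.ext fun i => ?_
  have h2 := DFunLike.congr_fun h1 i
  rw [Finsupp.smul_apply, smul_eq_mul, Finsupp.zero_apply] at h2
  exact (mul_eq_zero.1 h2).resolve_left hr

/-- Elements vanishing over the generic point vanish over nearby points. -/
theorem exists_vanishing : ∃ g : A, g ≠ 0 ∧ ∀ (L : Type u) [Field L] [Algebra A L], algebraMap A L g ≠ 0 →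
    ∀ b : B, (1 : K) ⊗ₜ[A] b = 0 → (1 : L) ⊗ₜ[A] b = 0 := by
  obtain ⟨c, hc, hfree, -⟩ := GenFreeRed.exists_isGood A B B 1 one_ne_zero
  refine ⟨1 * c, hc, fun L _ _ hL b hb => ?_⟩
  obtain ⟨a, ha, hab⟩ := exists_smul_eq_zero K B b hb
  haveI : IsDomain (Localization.Away (1 * c)) :=
    IsLocalization.isDomain_localization (powers_le_nonZeroDivisors_of_noZeroDivisors hc)
  have hne : algebraMap A (Localization.Away (1 * c)) a ≠ 0 := fun h =>
    ha (IsLocalization.injective (Localization.Away (1 * c))
      (powers_le_nonZeroDivisors_of_noZeroDivisors hc) (by rw [h, map_zero]))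
  haveI := hfree
  have h0 : LocalizedModule.mkLinearMap (Submonoid.powers (1 * c)) B b = 0 := by
    have h1 : algebraMap A (Localization.Away (1 * c)) a •
        LocalizedModule.mkLinearMap (Submonoid.powers (1 * c)) B b = 0 := by
      rw [algebraMap_smul, ← map_smul, hab, map_zero]
    exact eq_zero_of_smul hne h1
  obtain ⟨⟨_, n, rfl⟩, hn⟩ := (IsLocalizedModule.eq_zero_iff (Submonoid.powers (1 * c))
    (LocalizedModule.mkLinearMap (Submonoid.powers (1 * c)) B)).1 h0
  have h2 : (algebraMap A L ((1 * c) ^ n)) • ((1 : L) ⊗ₜ[A] b) = 0 := by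
    rw [algebraMap_smul, ← TensorProduct.tmul_smul]
    rw [show (1 * c) ^ n • b = 0 from hn, TensorProduct.tmul_zero]
  exact (smul_eq_zero.1 h2).resolve_left (by rw [map_pow]; exact pow_ne_zero n hL)

/-- An element which is not a zero divisor over the generic point stays so over nearby points. -/
theorem exists_nzd (s : B) (hs : ∀ x : B, (1 : K) ⊗ₜ[A] (s * x) = 0 → (1 : K) ⊗ₜ[A] x = 0) :
    ∃ g : A, g ≠ 0 ∧ ∀ (L : Type u) [Field L] [Algebra A L], algebraMap A L g ≠ 0 →
    ∀ x : L ⊗[A] B, ((1 : L) ⊗ₜ[A] s) * x = 0 → x = 0 := by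
  obtain ⟨c, hc, hQ, hB, -⟩ := GenFreeRed.exists_isGood A B (B ⧸ Ideal.span {s}) 1 one_ne_zero
  let S := Submonoid.powers (1 * c)
  let Bf := LocalizedModule S B
  let Qf := LocalizedModule S (B ⧸ Ideal.span {s})
  haveI : Module.Free (Localization S) Bf := hB
  haveI : Module.Free (Localization S) Qf := hQ
  let μ : B →ₗ[A] B := LinearMap.mulLeft A s
  let q : B →ₗ[A] (B ⧸ Ideal.span {s}) := (Ideal.Quotient.mkₐ A (Ideal.span {s})).toLinearMap
  have hex : Function.Exact μ q := fun x => by
    show Ideal.Quotient.mk _ x = 0 ↔ ∃ y, s * y = x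
    rw [Ideal.Quotient.eq_zero_iff_mem, Ideal.mem_span_singleton]
    exact ⟨fun ⟨y, hy⟩ => ⟨y, hy.symm⟩, fun ⟨y, hy⟩ => ⟨y, hy.symm⟩⟩
  let μf := LocalizedModule.map S μ
  let qf := LocalizedModule.map S q
  have hexf : Function.Exact μf qf := LocalizedModule.map_exact S μ q hex
  have hqf : Function.Surjective qf := LocalizedModule.map_surjective S q Ideal.Quotient.mk_surjective
  haveI : IsDomain (Localization S) :=
    IsLocalization.isDomain_localization (powers_le_nonZeroDivisors_of_noZeroDivisors hc)
  have hμf : Function.Injective μf := by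
    rw [injective_iff_map_eq_zero]
    intro z hz
    induction z using LocalizedModule.induction_on with
    | h x t =>
      rw [LocalizedModule.map_mk, ← LocalizedModule.zero_mk t, LocalizedModule.mk_eq] at hz
      obtain ⟨u', hu'⟩ := hz
      let t' : S := u' * t
      have ht' : (t' : A) • (μ x) = 0 := by
        rw [smul_zero, smul_zero] at hu'
        show ((u' : A) * (t : A)) • μ x = 0
        rw [mul_smul]; exact hu'
      have h1 : (1 : K) ⊗ₜ[A] (s * ((t' : A) • x)) = 0 := by
        rw [mul_smul_comm]
        rw [show (t' : A) • (s * x) = 0 from ht', TensorProduct.tmul_zero]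
      obtain ⟨a, ha, hax⟩ := exists_smul_eq_zero K B _ (hs _ h1)
      have hat : a * (t' : A) ≠ 0 := mul_ne_zero ha
        (nonZeroDivisors.ne_zero (powers_le_nonZeroDivisors_of_noZeroDivisors hc t'.2))
      have hne : algebraMap A (Localization S) (a * (t' : A)) ≠ 0 := fun h =>
        hat (IsLocalization.injective (Localization S)
          (powers_le_nonZeroDivisors_of_noZeroDivisors hc) (by rw [h, map_zero]))
      have h2 : algebraMap A (Localization S) (a * (t' : A)) • LocalizedModule.mk x t = 0 := by
        rw [algebraMap_smul, LocalizedModule.smul'_mk, mul_smul, hax, LocalizedModule.zero_mk]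
      exact eq_zero_of_smul hne h2
  obtain ⟨σ, hσ⟩ := Module.projective_lifting_property qf LinearMap.id hqf
  let p : Bf →ₗ[Localization S] Bf := LinearMap.id - σ.comp qf
  have hp : ∀ z, p z ∈ LinearMap.range μf := fun z => (hexf _).1 (by
    show qf (z - σ (qf z)) = 0
    rw [map_sub, show qf (σ (qf z)) = qf z from LinearMap.congr_fun hσ (qf z), sub_self])
  let r : Bf →ₗ[Localization S] Bf := (LinearEquiv.ofInjective μf hμf).symm.toLinearMap.comp (p.codRestrict _ hp)
  have hr : ∀ z, r (μf z) = z := fun z => by
    have : p (μf z) = μf z := by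
      show μf z - σ (qf (μf z)) = μf z
      rw [(hexf _).2 ⟨z, rfl⟩, map_zero, sub_zero]
    apply hμf
    show μf ((LinearEquiv.ofInjective μf hμf).symm _) = μf z
    exact (congrArg Subtype.val ((LinearEquiv.ofInjective μf hμf).apply_symm_apply _)).trans this
  refine ⟨1 * c, hc, fun L _ _ hL x hx => ?_⟩
  let mk := LocalizedModule.mkLinearMap S B
  let r' : B →ₗ[A] Bf := (r.restrictScalars A).comp mk
  have hr' : r'.comp μ = mk := LinearMap.ext fun b => by
    show r (LocalizedModule.mk (s * b) 1) = LocalizedModule.mk b 1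
    have : μf (LocalizedModule.mk b 1) = LocalizedModule.mk (s * b) 1 := LocalizedModule.map_mk S μ b 1
    rw [← this, hr]
  have hmk : Function.Injective (mk.lTensor L) := by
    have hunit : ∀ t : S, IsUnit (algebraMap A (Module.End A (L ⊗[A] B)) t) := by
      rintro ⟨_, n, rfl⟩
      refine (Module.End.isUnit_iff _).2 ?_
      have hu : algebraMap A L ((1 * c) ^ n) ≠ 0 := by rw [map_pow]; exact pow_ne_zero n hL
      have : (fun y : L ⊗[A] B => ((1 * c) ^ n) • y) = fun y => algebraMap A L ((1 * c) ^ n) • y :=
        funext fun y => (algebraMap_smul L _ y).symm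
      show Function.Bijective fun y : L ⊗[A] B => ((1 * c) ^ n) • y
      rw [this]
      exact (Units.mk0 _ hu).isUnit.smul_bijective
    let lift : Bf →ₗ[A] L ⊗[A] B := IsLocalizedModule.lift S mk (TensorProduct.mk A L B 1) hunit
    have hl : ∀ b, lift (mk b) = (1 : L) ⊗ₜ[A] b := fun b => IsLocalizedModule.lift_apply S mk _ hunit b
    let back : L ⊗[A] Bf →ₗ[A] L ⊗[A] B := TensorProduct.lift
      (LinearMap.mk₂ A (fun l z => l • lift z) (fun _ _ _ => add_smul _ _ _) (fun _ _ _ => smul_assoc _ _ _)
        (fun l z z' => by rw [map_add, smul_add]) (fun r l z => by rw [map_smul, smul_comm]))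
    refine Function.LeftInverse.injective (g := back) fun y => ?_
    induction y using TensorProduct.induction_on with
    | zero => simp
    | tmul l b => simp [back, hl, TensorProduct.smul_tmul']
    | add a b ha hb => simp [map_add, ha, hb]
  apply hmk
  rw [map_zero, ← hr', LinearMap.lTensor_comp, LinearMap.comp_apply]
  have : ∀ x : L ⊗[A] B, μ.lTensor L x = ((1 : L) ⊗ₜ[A] s) * x := fun x => by
    induction x using TensorProduct.induction_on with
    | zero => simp
    | tmul l b => simp [μ]
    | add a b ha hb => simp [map_add, mul_add, ha, hb]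
  rw [this, hx, map_zero]

end Groth.Agent.GeomLoci
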