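import Groth.Agent.GeomLoci.IntegralSpread

/-!
# Properties of the generic fibre which spread out, ring level
-/

set_option autoImplicit false
set_option linter.style.haveILetI false
set_option linter.unusedSectionVars false

universe u

open TensorProduct

namespace Groth.Agent.GeomLoci

/-- `P` holds at every field point of some non-empty basic open of `Spec A`. -/
def SpreadsOut (A : Type u) [CommRing A] (P : ∀ (L : Type u) [Field L] [Algebra A L], Prop) : Prop :=
  ∃ g : A, g ≠ 0 ∧ ∀ (L : Type u) [Field L] [Algebra A L], algebraMap A L g ≠ 0 → P L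

namespace SpreadsOut

variable {A : Type u} [CommRing A] [IsDomain A]

theorem and {P Q : ∀ (L : Type u) [Field L] [Algebra A L], Prop} (hP : SpreadsOut A P) (hQ : SpreadsOut A Q) :
    SpreadsOut A fun L _ _ => P L ∧ Q L := by
  obtain ⟨g, hg, h⟩ := hP
  obtain ⟨g', hg', h'⟩ := hQ
  refine ⟨g * g', mul_ne_zero hg hg', fun L _ _ hL => ?_⟩
  rw [map_mul, mul_ne_zero_iff] at hL
  exact ⟨h L hL.1, h' L hL.2⟩

theorem forall_finite {ι : Type*} [Finite ι] {P : ι → ∀ (L : Type u) [Field L] [Algebra A L], Prop}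
    (h : ∀ i, SpreadsOut A (P i)) : SpreadsOut A fun L _ _ => ∀ i, P i L := by
  classical
  haveI := Fintype.ofFinite ι
  choose g hg hP using h
  refine ⟨∏ i, g i, Finset.prod_ne_zero_iff.2 fun i _ => hg i, fun L _ _ hL i => hP i L ?_⟩
  rw [map_prod, Finset.prod_ne_zero_iff] at hL
  exact hL i (Finset.mem_univ i)

theorem mono {P Q : ∀ (L : Type u) [Field L] [Algebra A L], Prop} (hP : SpreadsOut A P)
    (h : ∀ (L : Type u) [Field L] [Algebra A L], P L → Q L) : SpreadsOut A Q := by
  obtain ⟨g, hg, hg'⟩ := hP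
  exact ⟨g, hg, fun L _ _ hL => h L (hg' L hL)⟩

theorem of_forall {P : ∀ (L : Type u) [Field L] [Algebra A L], Prop}
    (h : ∀ (L : Type u) [Field L] [Algebra A L], P L) : SpreadsOut A P :=
  ⟨1, one_ne_zero, fun L _ _ _ => h L⟩

end SpreadsOut

variable {A : Type u} [CommRing A] [IsDomain A] {K : Type u} [Field K] [Algebra A K] [IsFractionRing A K]
  {B : Type u} [CommRing B] [Algebra A B]

theorem isDomain_tensor_of_injective [IsDomain B] (h : Function.Injective (algebraMap A B)) :
    IsDomain (K ⊗[A] B) := by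
  have h0 : ∀ u : B, (1 : K) ⊗ₜ[A] u = 0 → u = 0 := fun u hu => by
    obtain ⟨a, ha, hau⟩ := exists_smul_eq_zero K B u hu
    rw [Algebra.smul_def] at hau
    exact (mul_eq_zero.1 hau).resolve_left ((map_ne_zero_iff _ h).2 ha)
  have hcancel : ∀ (a : A) (z : K ⊗[A] B), a ≠ 0 → a • z = 0 → z = 0 := fun a z ha hz => by
    rw [← algebraMap_smul K a z] at hz
    exact (smul_eq_zero.1 hz).resolve_left ((map_ne_zero_iff _ (IsFractionRing.injective A K)).2 ha)
  haveI : Nontrivial (K ⊗[A] B) :=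
    ⟨⟨(1 : K) ⊗ₜ[A] (1 : B), 0, fun h1 => one_ne_zero (h0 1 h1)⟩⟩
  haveI : NoZeroDivisors (K ⊗[A] B) := ⟨fun {z z'} hz => by
    obtain ⟨a, u, ha, hu⟩ := exists_smul_eq_tmul z
    obtain ⟨a', u', ha', hu'⟩ := exists_smul_eq_tmul z'
    have h1 : (1 : K) ⊗ₜ[A] (u * u') = 0 := by
      rw [← one_mul (1 : K), ← Algebra.TensorProduct.tmul_mul_tmul, ← hu, ← hu', smul_mul_smul_comm, hz,
        smul_zero]
    refine (mul_eq_zero.1 (h0 _ h1)).imp (fun h => hcancel a z ha ?_) fun h => hcancel a' z' ha' ?_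
    · rw [hu, h, TensorProduct.tmul_zero]
    · rw [hu', h, TensorProduct.tmul_zero]⟩
  exact NoZeroDivisors.to_isDomain _

/-- The map of spectra attached to a field point. -/
abbrev pointMap (A : Type u) [CommRing A] (L : Type u) [Field L] [Algebra A L] (B : Type u) [CommRing B] [Algebra A B] :
    PrimeSpectrum (L ⊗[A] B) → PrimeSpectrum B :=
  PrimeSpectrum.comap (Algebra.TensorProduct.includeRight : B →ₐ[A] L ⊗[A] B).toRingHom

variable [Algebra.FiniteType A B]

/-- An inclusion of closed subsets valid in the generic fibre is valid nearby. -/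
theorem spreadsOut_subset (W W' : Ideal B)
    (h : pointMap A K B ⁻¹' PrimeSpectrum.zeroLocus (W : Set B) ⊆
      pointMap A K B ⁻¹' PrimeSpectrum.zeroLocus (W' : Set B)) :
    SpreadsOut A fun L _ _ => pointMap A L B ⁻¹' PrimeSpectrum.zeroLocus (W : Set B) ⊆
      pointMap A L B ⁻¹' PrimeSpectrum.zeroLocus (W' : Set B) := by
  let π : B →ₐ[A] B ⧸ W := Ideal.Quotient.mkₐ A W
  haveI : Algebra.FiniteType A (B ⧸ W) := Algebra.FiniteType.of_surjective π Ideal.Quotient.mk_surjective
  let πK : K ⊗[A] B →ₐ[A] K ⊗[A] (B ⧸ W) := Algebra.TensorProduct.map (AlgHom.id A K) π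
  haveI : IsNoetherianRing (K ⊗[A] (B ⧸ W)) := Algebra.FiniteType.isNoetherianRing K _
  obtain ⟨N, hN⟩ := IsNoetherianRing.isNilpotent_nilradical (K ⊗[A] (B ⧸ W))
  have hnil : ∀ x ∈ W', ((1 : K) ⊗ₜ[A] π x) ^ N = 0 := fun x hx => by
    have hmem : (1 : K) ⊗ₜ[A] π x ∈ nilradical (K ⊗[A] (B ⧸ W)) := by
      rw [nilradical_eq_sInf, Ideal.mem_sInf]
      intro P hP
      haveI : P.IsPrime := hP
      let P' : PrimeSpectrum (K ⊗[A] B) := PrimeSpectrum.comap πK.toRingHom ⟨P, ‹_›⟩
      have hP' : pointMap A K B P' ∈ PrimeSpectrum.zeroLocus (W : Set B) := fun w hw => by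
        show πK ((1 : K) ⊗ₜ[A] w) ∈ P
        rw [Algebra.TensorProduct.map_tmul, show π w = 0 from Ideal.Quotient.eq_zero_iff_mem.2 hw,
          TensorProduct.tmul_zero]
        exact P.zero_mem
      have := h hP' hx
      change πK ((1 : K) ⊗ₜ[A] x) ∈ P at this
      rwa [Algebra.TensorProduct.map_tmul] at this
    exact le_of_eq hN (Ideal.pow_mem_pow hmem N)
  obtain ⟨g, hg, hvan⟩ := exists_vanishing K (B := B ⧸ W) (A := A)
  refine ⟨g, hg, fun L _ _ hL P hP x hx => ?_⟩
  have hx' : (1 : L) ⊗ₜ[A] π (x ^ N) = 0 := by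
    refine hvan L hL _ ?_
    rw [map_pow, ← one_pow (M := K) N, ← Algebra.TensorProduct.tmul_pow]
    exact hnil x hx
  have hmem : (1 : L) ⊗ₜ[A] (x ^ N) ∈ P.asIdeal := by
    have hker : RingHom.ker (Algebra.TensorProduct.map (AlgHom.id A L) π) ≤ P.asIdeal := by
      rw [Algebra.TensorProduct.lTensor_ker π Ideal.Quotient.mk_surjective,
        Ideal.map_le_iff_le_comap]
      intro w hw
      exact hP (Ideal.Quotient.eq_zero_iff_mem.1 hw)
    refine hker ?_
    rw [RingHom.mem_ker, Algebra.TensorProduct.map_tmul, AlgHom.id_apply]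
    exact hx'
  rw [← one_pow (M := L) N, ← Algebra.TensorProduct.tmul_pow] at hmem
  exact P.2.mem_of_pow_mem N hmem

/-- The closure of a point of the generic fibre has irreducible trace on nearby geometric fibres. -/
theorem spreadsOut_irreducible [IsAlgClosed K] (p : Ideal B) [p.IsPrime]
    (hp : ∀ a : A, algebraMap A B a ∈ p → a = 0) :
    SpreadsOut A fun L _ _ => IsIrreducible (pointMap A L B ⁻¹' PrimeSpectrum.zeroLocus (p : Set B)) := by
  let π : B →ₐ[A] B ⧸ p := Ideal.Quotient.mkₐ A p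
  haveI : Algebra.FiniteType A (B ⧸ p) := Algebra.FiniteType.of_surjective π Ideal.Quotient.mk_surjective
  haveI : IsDomain (K ⊗[A] (B ⧸ p)) := isDomain_tensor_of_injective
    ((injective_iff_map_eq_zero _).2 fun a ha => hp a (Ideal.Quotient.eq_zero_iff_mem.1 ha))
  obtain ⟨g, hg, hdom⟩ := exists_isDomain_baseChange (A := A) (K := K) (B := B ⧸ p)
  refine ⟨g, hg, fun L _ _ hL => ?_⟩
  haveI := hdom L hL
  let πL := Algebra.TensorProduct.map (AlgHom.id A L) π
  have hsurj : Function.Surjective πL :=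
    Algebra.TensorProduct.map_surjective _ _ Function.surjective_id Ideal.Quotient.mk_surjective
  have heq : pointMap A L B ⁻¹' PrimeSpectrum.zeroLocus (p : Set B) =
      Set.range (PrimeSpectrum.comap πL.toRingHom) := by
    rw [_root_.range_comap_of_surjective _ _ hsurj, PrimeSpectrum.preimage_comap_zeroLocus]
    show _ = PrimeSpectrum.zeroLocus
      ((RingHom.ker (Algebra.TensorProduct.map (AlgHom.id A L) π) : Ideal _) : Set (L ⊗[A] B))
    rw [Algebra.TensorProduct.lTensor_ker π Ideal.Quotient.mk_surjective]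
    have hk : RingHom.ker π = p := Ideal.mk_ker
    rw [hk, Ideal.map, PrimeSpectrum.zeroLocus_span]
    rfl
  show IsIrreducible _
  rw [heq]
  haveI : IrreducibleSpace (PrimeSpectrum (L ⊗[A] (B ⧸ p))) := inferInstance
  rw [← Set.image_univ]
  exact (IrreducibleSpace.isIrreducible_univ _).image _ (PrimeSpectrum.continuous_comap _).continuousOn

end Groth.Agent.GeomLoci
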