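import Groth.Agent.GeomLoci.RingSpread

/-!
# Properties of the generic fibre which spread out, scheme level
-/

set_option autoImplicit false
set_option linter.style.haveILetI false
set_option linter.unusedSectionVars false
set_option backward.isDefEq.respectTransparency false

universe u

open AlgebraicGeometry CategoryTheory CategoryTheory.Limits Topology TensorProduct

namespace Groth.Agent.GeomLoci

variable {A : Type u} [CommRing A] {X : Scheme.{u}}

/-- The point of `Spec A` given by a field point. -/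
noncomputable abbrev geomPt (A : Type u) [CommRing A] (L : Type u) [Field L] [Algebra A L] :
    Spec (CommRingCat.of L) ⟶ Spec (CommRingCat.of A) :=
  Spec.map (CommRingCat.ofHom (algebraMap A L))

/-- The projection from the base change to a field point. -/
noncomputable abbrev baseProj (f : X ⟶ Spec (CommRingCat.of A)) (L : Type u) [Field L] [Algebra A L] :
    pullback f (geomPt A L) ⟶ X :=
  pullback.fst f (geomPt A L)

theorem exists_chart (f : X ⟶ Spec (CommRingCat.of A)) (L : Type u) [Field L] [Algebra A L]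
    {B : Type u} [CommRing B] [Algebra A B] (j : Spec (CommRingCat.of B) ⟶ X) [IsOpenImmersion j]
    (hj : j ≫ f = Spec.map (CommRingCat.ofHom (algebraMap A B))) :
    ∃ e : PrimeSpectrum (L ⊗[A] B) → ↥(pullback f (geomPt A L)), IsOpenEmbedding e ∧
      Set.range e = baseProj f L ⁻¹' Set.range j ∧
      ∀ P, baseProj f L (e P) = j (pointMap A L B P) := by
  let i₁ : pullback j (baseProj f L) ≅ pullback (geomPt A L) (Spec.map (CommRingCat.ofHom (algebraMap A B))) :=
    pullbackRightPullbackFstIso f (geomPt A L) j ≪≫ pullback.congrHom hj rfl ≪≫ pullbackSymmetry _ _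
  let i : pullback j (baseProj f L) ≅ Spec (CommRingCat.of (L ⊗[A] B)) := i₁ ≪≫ pullbackSpecIso A L B
  have hi : i.inv ≫ pullback.fst j (baseProj f L) =
      Spec.map (CommRingCat.ofHom (Algebra.TensorProduct.includeRight : B →ₐ[A] L ⊗[A] B).toRingHom) := by
    refine Eq.trans ?_ (pullbackSpecIso_inv_snd A L B)
    simp only [i, i₁, Iso.trans_inv, Category.assoc]
    simp
  let e := i.inv ≫ pullback.snd j (baseProj f L)
  haveI : IsOpenImmersion e := inferInstance
  refine ⟨e, e.isOpenEmbedding, ?_, fun P => ?_⟩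
  · have h1 : Function.Surjective i.inv := i.inv.homeomorph.surjective
    show Set.range (e : Spec (CommRingCat.of (L ⊗[A] B)) → _) = _
    rw [show ⇑e = pullback.snd j (baseProj f L) ∘ i.inv from funext fun _ => Scheme.Hom.comp_apply _ _ _,
      Set.range_comp, h1.range_eq, Set.image_univ, Scheme.Pullback.range_snd]
  · have h2 : e ≫ baseProj f L = Spec.map (CommRingCat.ofHom
        (Algebra.TensorProduct.includeRight : B →ₐ[A] L ⊗[A] B).toRingHom) ≫ j := by
      rw [← hi, Category.assoc, Category.assoc, pullback.condition]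
    exact congrArg (fun m : Spec (CommRingCat.of (L ⊗[A] B)) ⟶ X => m P) h2

/-- Affine charts of a scheme locally of finite type over `Spec A`. -/
theorem exists_algebra (f : X ⟶ Spec (CommRingCat.of A)) [LocallyOfFiniteType f] {U : X.Opens}
    (hU : IsAffineOpen U) : ∃ (_ : Algebra A Γ(X, U)) (_ : Algebra.FiniteType A Γ(X, U)),
      hU.fromSpec ≫ f = Spec.map (CommRingCat.ofHom (algebraMap A Γ(X, U))) := by
  letI alg := (Spec.preimage (hU.fromSpec ≫ f)).hom.toAlgebra
  have heq : hU.fromSpec ≫ f = Spec.map (CommRingCat.ofHom (algebraMap A Γ(X, U))) :=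
    (Spec.map_preimage (hU.fromSpec ≫ f)).symm
  refine ⟨alg, ?_, heq⟩
  have h : LocallyOfFiniteType (Spec.map (CommRingCat.ofHom (algebraMap A Γ(X, U)))) := by
    rw [← heq]
    infer_instance
  exact HasRingHomProperty.Spec_iff.1 h

variable [IsDomain A] (K : Type u) [Field K] [Algebra A K] [IsFractionRing A K]
  (f : X ⟶ Spec (CommRingCat.of A)) [LocallyOfFiniteType f] [QuasiCompact f]

/-- An inclusion of closed subsets valid in the generic fibre is valid nearby. -/
theorem spreadsOut_subset_scheme {W W' : Set X} (hW : IsClosed W) (hW' : IsClosed W')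
    (h : baseProj f K ⁻¹' W ⊆ baseProj f K ⁻¹' W') :
    SpreadsOut A fun L _ _ => baseProj f L ⁻¹' W ⊆ baseProj f L ⁻¹' W' := by
  haveI : CompactSpace X := QuasiCompact.compactSpace_of_compactSpace f
  let 𝒰 := X.affineCover.finiteSubcover
  have key : ∀ i : 𝒰.I₀, SpreadsOut A fun L _ _ =>
      baseProj f L ⁻¹' (W ∩ Set.range (𝒰.f i)) ⊆ baseProj f L ⁻¹' W' := by
    intro i
    haveI : IsAffine (𝒰.X i) := by dsimp [𝒰]; infer_instance
    have hU : IsAffineOpen (𝒰.f i).opensRange := isAffineOpen_opensRange _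
    obtain ⟨alg, hft, hj⟩ := exists_algebra f hU
    obtain ⟨I, hI⟩ := (PrimeSpectrum.isClosed_iff_zeroLocus_ideal _).1 (hW.preimage hU.fromSpec.continuous)
    obtain ⟨I', hI'⟩ := (PrimeSpectrum.isClosed_iff_zeroLocus_ideal _).1 (hW'.preimage hU.fromSpec.continuous)
    obtain ⟨eK, -, -, hK⟩ := exists_chart f K hU.fromSpec hj
    refine (spreadsOut_subset (K := K) I I' fun P hP => ?_).mono fun L _ _ hL => ?_
    · have h1 : pointMap A K Γ(X, (𝒰.f i).opensRange) P ∈ hU.fromSpec ⁻¹' W := by rw [hI]; exact hP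
      have h2 : eK P ∈ baseProj f K ⁻¹' W' := h (by
        show baseProj f K (eK P) ∈ W
        rw [hK]; exact h1)
      have h3 : pointMap A K Γ(X, (𝒰.f i).opensRange) P ∈ hU.fromSpec ⁻¹' W' := by
        show hU.fromSpec _ ∈ W'
        rw [← hK]; exact h2
      rw [hI'] at h3
      exact h3
    · obtain ⟨eL, -, hrange, hL'⟩ := exists_chart f L hU.fromSpec hj
      rintro x ⟨hxW, hxU⟩
      have hxe : x ∈ Set.range eL := by
        rw [hrange, Set.mem_preimage, hU.range_fromSpec]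
        exact hxU
      obtain ⟨P, rfl⟩ := hxe
      show baseProj f L (eL P) ∈ W'
      rw [hL']
      rw [hL'] at hxW
      have h1 : pointMap A L Γ(X, (𝒰.f i).opensRange) P ∈ hU.fromSpec ⁻¹' W := hxW
      rw [hI] at h1
      have h3 := hL h1
      rw [Set.mem_preimage, ← hI'] at h3
      exact h3
  refine (SpreadsOut.forall_finite key).mono fun L _ _ hall x hx => ?_
  obtain ⟨i, hi⟩ : ∃ i, baseProj f L x ∈ Set.range (𝒰.f i) := ⟨_, 𝒰.covers (baseProj f L x)⟩
  exact hall i ⟨hx, hi⟩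

variable [IsAlgClosed K]

theorem spreadsOut_irreducible_affine (x : ↥(pullback f (geomPt A K))) {U : X.Opens} (hU : IsAffineOpen U)
    (hx : baseProj f K x ∈ U) :
    SpreadsOut A fun L _ _ => IsIrreducible (baseProj f L ⁻¹' (closure {baseProj f K x} ∩ (U : Set X))) := by
  obtain ⟨alg, hft, hj⟩ := exists_algebra f hU
  obtain ⟨eK, -, hrange, hK⟩ := exists_chart f K hU.fromSpec hj
  obtain ⟨P, hP⟩ : x ∈ Set.range eK := by rw [hrange, Set.mem_preimage, hU.range_fromSpec]; exact hx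
  let b := pointMap A K Γ(X, U) P
  refine (spreadsOut_irreducible (K := K) b.asIdeal fun a ha => ?_).mono fun L _ _ hirr => ?_
  · by_contra hne
    change (1 : K) ⊗ₜ[A] algebraMap A Γ(X, U) a ∈ P.asIdeal at ha
    rw [Algebra.algebraMap_eq_smul_one, TensorProduct.tmul_smul, ← algebraMap_smul K a,
      Algebra.smul_def] at ha
    refine (P.2.mem_or_mem ha).elim (fun h => P.2.ne_top (Ideal.eq_top_of_isUnit_mem _ h ?_))
      fun h => P.2.ne_top ((Ideal.eq_top_iff_one _).2 h)
    exact ((map_ne_zero_iff _ (IsFractionRing.injective A K)).2 hne).isUnit.map _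
  · obtain ⟨eL, heL, hrangeL, hL⟩ := exists_chart f L hU.fromSpec hj
    have heq : baseProj f L ⁻¹' (closure {baseProj f K x} ∩ (U : Set X)) =
        eL '' (pointMap A L Γ(X, U) ⁻¹' PrimeSpectrum.zeroLocus (b.asIdeal : Set Γ(X, U))) := by
      have hcl : PrimeSpectrum.zeroLocus (b.asIdeal : Set Γ(X, U)) = hU.fromSpec ⁻¹' closure {baseProj f K x} := by
        rw [← PrimeSpectrum.closure_singleton]
        refine (hU.fromSpec.isOpenEmbedding.isInducing.closure_eq_preimage_closure_image _).trans ?_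
        rw [Set.image_singleton, ← hP, hK]
      rw [hcl, ← Set.preimage_comp]
      have : hU.fromSpec ∘ pointMap A L Γ(X, U) = baseProj f L ∘ eL := funext fun Q => (hL Q).symm
      rw [this, Set.preimage_comp, Set.image_preimage_eq_inter_range, hrangeL, hU.range_fromSpec,
        Set.preimage_inter]
    show IsIrreducible _
    rw [heq]
    exact hirr.image eL heL.continuous.continuousOn

theorem spreadsOut_nonempty (x : ↥(pullback f (geomPt A K))) {U : Set X} (hU : IsOpen U)
    (hx : baseProj f K x ∈ U) :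
    SpreadsOut A fun L _ _ => (baseProj f L ⁻¹' (closure {baseProj f K x} ∩ U)).Nonempty := by
  obtain ⟨V, hV, hxV, hVU⟩ := X.isBasis_affineOpens.exists_subset_of_mem_open hx hU
  obtain ⟨V, hVaff, rfl⟩ := hV
  exact (spreadsOut_irreducible_affine K f x hVaff hxV).mono fun L _ _ h =>
    h.nonempty.mono (Set.preimage_mono (Set.inter_subset_inter_right _ hVU))

theorem isPreirreducible_of_cover {T : Type*} [TopologicalSpace T] {Z : Set T} {ι : Type*} (O : ι → Set T)
    (hO : ∀ i, IsOpen (O i)) (hcov : Z ⊆ ⋃ i, O i) (hirr : ∀ i, IsPreirreducible (Z ∩ O i))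
    (hmeet : ∀ i k, (Z ∩ O i).Nonempty → (Z ∩ O k).Nonempty → (Z ∩ (O i ∩ O k)).Nonempty) :
    IsPreirreducible Z := by
  rintro u v hu hv ⟨a, haZ, hau⟩ ⟨b, hbZ, hbv⟩
  obtain ⟨i, hai⟩ := Set.mem_iUnion.1 (hcov haZ)
  obtain ⟨k, hbk⟩ := Set.mem_iUnion.1 (hcov hbZ)
  obtain ⟨c, hcZ, hci, hck⟩ := hmeet i k ⟨a, haZ, hai⟩ ⟨b, hbZ, hbk⟩
  obtain ⟨d, ⟨hdZ, hdi⟩, hdu, hdk⟩ := hirr i u (O k) hu (hO k) ⟨a, ⟨haZ, hai⟩, hau⟩ ⟨c, ⟨hcZ, hci⟩, hck⟩
  obtain ⟨e, ⟨heZ, hek⟩, ⟨heu, -⟩, hev⟩ := hirr k (u ∩ O i) v (hu.inter (hO i)) hv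
    ⟨d, ⟨hdZ, hdk⟩, hdu, hdi⟩ ⟨b, ⟨hbZ, hbk⟩, hbv⟩
  exact ⟨e, heZ, heu, hev⟩

/-- The closure of a point of the generic fibre has irreducible trace on nearby geometric fibres. -/
theorem spreadsOut_irreducible_scheme (x : ↥(pullback f (geomPt A K))) :
    SpreadsOut A fun L _ _ => IsIrreducible (baseProj f L ⁻¹' closure {baseProj f K x}) := by
  haveI : CompactSpace X := QuasiCompact.compactSpace_of_compactSpace f
  let 𝒰 := X.affineCover.finiteSubcover
  let ξ := baseProj f K x
  let J := {i : 𝒰.I₀ // ξ ∈ Set.range (𝒰.f i)}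
  have hJ : ∀ i : J, SpreadsOut A fun L _ _ =>
      IsIrreducible (baseProj f L ⁻¹' (closure {ξ} ∩ Set.range (𝒰.f i.1))) := by
    intro i
    haveI : IsAffine (𝒰.X i.1) := by dsimp [𝒰]; infer_instance
    exact spreadsOut_irreducible_affine K f x (isAffineOpen_opensRange (𝒰.f i.1)) i.2
  have hJJ : ∀ p : J × J, SpreadsOut A fun L _ _ => (baseProj f L ⁻¹'
      (closure {ξ} ∩ (Set.range (𝒰.f p.1.1) ∩ Set.range (𝒰.f p.2.1)))).Nonempty := fun p =>
    spreadsOut_nonempty K f x ((𝒰.f p.1.1).isOpenEmbedding.isOpen_range.inter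
      (𝒰.f p.2.1).isOpenEmbedding.isOpen_range) ⟨p.1.2, p.2.2⟩
  refine ((SpreadsOut.forall_finite hJ).and (SpreadsOut.forall_finite hJJ)).mono fun L _ _ h => ?_
  obtain ⟨h1, h2⟩ := h
  obtain ⟨i₀, hi₀⟩ : ∃ i, ξ ∈ Set.range (𝒰.f i) := ⟨_, 𝒰.covers ξ⟩
  have hmem : ∀ {y : X} {i : 𝒰.I₀}, y ∈ closure {ξ} → y ∈ Set.range (𝒰.f i) → ξ ∈ Set.range (𝒰.f i) := by
    intro y i hy hyi
    obtain ⟨z, hz, hz'⟩ := mem_closure_iff.1 hy _ (𝒰.f i).isOpenEmbedding.isOpen_range hyi
    exact hz' ▸ hz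
  refine ⟨(h1 ⟨i₀, hi₀⟩).nonempty.mono (Set.preimage_mono Set.inter_subset_left), ?_⟩
  refine isPreirreducible_of_cover (fun i : J => baseProj f L ⁻¹' Set.range (𝒰.f i.1))
    (fun i => (𝒰.f i.1).isOpenEmbedding.isOpen_range.preimage (baseProj f L).continuous) ?_
    (fun i => by rw [← Set.preimage_inter]; exact (h1 i).2) fun i k _ _ => by
      rw [← Set.preimage_inter, ← Set.preimage_inter]; exact h2 (i, k)
  intro y hy
  obtain ⟨i, hi⟩ : ∃ i, baseProj f L y ∈ Set.range (𝒰.f i) := ⟨_, 𝒰.covers (baseProj f L y)⟩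
  exact Set.mem_iUnion.2 ⟨⟨i, hmem hy hi⟩, hi⟩

end Groth.Agent.GeomLoci
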