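import Groth.Agent.GeomLoci.NearPoint
import Groth.Agent.S1324

/-!
# The section components are open and closed near a point of the base, within its closure
-/

set_option autoImplicit false
set_option linter.style.haveILetI false
set_option linter.unusedSectionVars false
set_option backward.isDefEq.respectTransparency false
set_option synthInstance.maxHeartbeats 200000

universe u

open AlgebraicGeometry CategoryTheory CategoryTheory.Limits Topology

namespace Groth.Agent.GeomLoci

variable {A : Type u} [CommRing A] {X : Scheme.{u}}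

/-- The trace of a closed subscheme on a base change. -/
theorem range_closed_baseChange (f : X ⟶ Spec (CommRingCat.of A)) (L : Type u) [Field L] [Algebra A L]
    {W : Scheme.{u}} (j : W ⟶ X) [IsClosedImmersion j] :
    ∃ e : ↥(pullback (j ≫ f) (geomPt A L)) → ↥(pullback f (geomPt A L)), IsClosedEmbedding e ∧
      Set.range e = baseProj f L ⁻¹' Set.range j := by
  let i := pullbackRightPullbackFstIso f (geomPt A L) j
  let e := i.inv ≫ pullback.snd j (baseProj f L)
  refine ⟨e, e.isClosedEmbedding, ?_⟩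
  rw [show ⇑e = pullback.snd j (baseProj f L) ∘ i.inv from funext fun _ => Scheme.Hom.comp_apply _ _ _,
    Set.range_comp, i.inv.surjective.range_eq, Set.image_univ, Scheme.Pullback.range_snd]

theorem range_baseProj (f : X ⟶ Spec (CommRingCat.of A)) (L : Type u) [Field L] [Algebra A L]
    (P : Spec (CommRingCat.of A)) (hP : P.asIdeal = RingHom.ker (algebraMap A L)) :
    Set.range (baseProj f L) = f ⁻¹' {P} := by
  rw [Scheme.Pullback.range_fst]
  congr 1
  refine Set.eq_singleton_iff_unique_mem.2 ⟨⟨⟨⊥, Ideal.isPrime_bot⟩, ?_⟩, ?_⟩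
  · exact PrimeSpectrum.ext hP.symm
  · rintro _ ⟨z, rfl⟩
    have hz : z = ⟨⊥, Ideal.isPrime_bot⟩ := Subsingleton.elim (α := PrimeSpectrum L) _ _
    rw [hz]
    exact PrimeSpectrum.ext hP.symm

theorem isClopen_connectedComponent_of_finite {T : Type*} [TopologicalSpace T]
    [Finite (irreducibleComponents T)] (x : T) : IsClopen (connectedComponent x) := by
  have h : (connectedComponent x)ᶜ = ⋃ c ∈ {c ∈ irreducibleComponents T | ¬ c ⊆ connectedComponent x}, c := by
    ext y
    simp only [Set.mem_compl_iff, Set.mem_iUnion, Set.mem_ofPred_eq, exists_prop]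
    refine ⟨fun hy => ?_, fun ⟨c, ⟨hc, hcx⟩, hyc⟩ hy => hcx ?_⟩
    · obtain ⟨c, hc, hyc⟩ := exists_mem_irreducibleComponents_subset_of_isIrreducible {y} isIrreducible_singleton
      exact ⟨c, ⟨hc, fun hsub => hy (hsub (hyc rfl))⟩, hyc rfl⟩
    · rw [connectedComponent_eq hy]
      exact hc.1.isConnected.isPreconnected.subset_connectedComponent hyc
  refine ⟨isClosed_connectedComponent, isClosed_compl_iff.1 ?_⟩
  rw [h]
  exact (Set.Finite.subset (Set.toFinite (irreducibleComponents T)) fun c hc => hc.1).isClosed_biUnion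
    fun c hc => isClosed_of_mem_irreducibleComponents c hc.1

variable [IsDomain A] (K : Type u) [Field K] [Algebra A K]
  [IsFractionRing A K] [IsAlgClosed K] (f : X ⟶ Spec (CommRingCat.of A)) [LocallyOfFiniteType f] [QuasiCompact f]

/-- The closure of a connected closed piece of the generic fibre stays connected. -/
theorem spreadsOut_connected {C : Set ↥(pullback f (geomPt A K))} (hC : IsClosed C) (hconn : _root_.IsConnected C) :
    SpreadsOut A fun L _ _ => _root_.IsConnected (baseProj f L ⁻¹' closure (baseProj f K '' C)) := by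
  let Z : TopologicalSpace.Closeds X := ⟨closure (baseProj f K '' C), isClosed_closure⟩
  let j := (Scheme.IdealSheafData.vanishingIdeal Z).subschemeι
  have hj : Set.range j = (Z : Set X) := by
    rw [Scheme.IdealSheafData.range_subschemeι, Scheme.IdealSheafData.coe_support_vanishingIdeal]
  have hK : baseProj f K ⁻¹' (Z : Set X) = C := by
    show baseProj f K ⁻¹' closure (baseProj f K '' C) = C
    rw [← (isInducing_baseProj K f).closure_eq_preimage_closure_image, hC.closure_eq]
  obtain ⟨eK, heK, hrK⟩ := range_closed_baseChange f K j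
  rw [hj, hK] at hrK
  haveI : ConnectedSpace ↥(pullback (j ≫ f) (geomPt A K)) := by
    rw [connectedSpace_iff_univ]
    refine ⟨?_, ?_⟩
    · obtain ⟨c, hc⟩ := hconn.nonempty
      rw [← hrK] at hc
      obtain ⟨w, -⟩ := hc
      exact ⟨w, trivial⟩
    · rw [← heK.isInducing.isPreconnected_image, Set.image_univ, hrK]
      exact hconn.isPreconnected
  refine (spreadsOut_counts K (j ≫ f)).mono fun L _ _ h => ?_
  obtain ⟨-, h⟩ := h
  haveI : ConnectedSpace ↥(pullback (j ≫ f) (geomPt A L)) :=
    connectedSpace_of_card (h.trans card_of_connectedSpace)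
  obtain ⟨eL, heL, hrL⟩ := range_closed_baseChange f L j
  rw [hj] at hrL
  show _root_.IsConnected (baseProj f L ⁻¹' (Z : Set X))
  rw [← hrL]
  exact isConnected_range heL.continuous

include K in
/-- Over a domain with algebraically closed fraction field, the section components are cut out by two
closed sets near the generic point. -/
theorem exists_sectionComponents_pieces (s : Spec (CommRingCat.of A) ⟶ X) (hs : s ≫ f = 𝟙 _) :
    ∃ g : A, g ≠ 0 ∧ ∃ Zp Zm : Set X, IsClosed Zp ∧ IsClosed Zm ∧ ∀ x : X, g ∉ (f x).asIdeal →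
      (x ∈ MoreMor.sectionComponents f s ↔ x ∈ Zp) ∧ (x ∈ Zp ↔ x ∉ Zm) := by
  let XK := pullback f (geomPt A K)
  haveI : IsLocallyNoetherian XK := LocallyOfFiniteType.isLocallyNoetherian (pullback.snd f (geomPt A K))
  haveI : CompactSpace ↥XK := QuasiCompact.compactSpace_of_compactSpace (pullback.snd f (geomPt A K))
  haveI : IsNoetherian XK := {}
  let ptK : Spec (CommRingCat.of K) := ⟨⊥, Ideal.isPrime_bot⟩
  let sK : Spec (CommRingCat.of K) ⟶ XK := pullback.lift (geomPt A K ≫ s) (𝟙 _)
    (by rw [Category.assoc, hs, Category.comp_id, Category.id_comp])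
  let C := connectedComponent (sK ptK)
  haveI : Finite (irreducibleComponents ↥XK) :=
    TopologicalSpace.NoetherianSpace.finite_irreducibleComponents.to_subtype
  have hCcl : IsClopen C := isClopen_connectedComponent_of_finite _
  let Zp := closure (baseProj f K '' C)
  let Zm := closure (baseProj f K '' Cᶜ)
  have hKp : baseProj f K ⁻¹' Zp = C := by
    rw [← (isInducing_baseProj K f).closure_eq_preimage_closure_image, hCcl.isClosed.closure_eq]
  have hKm : baseProj f K ⁻¹' Zm = Cᶜ := by
    rw [← (isInducing_baseProj K f).closure_eq_preimage_closure_image, hCcl.compl.isClosed.closure_eq]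
  have hsZ : ∀ P : Spec (CommRingCat.of A), s P ∈ Zp := by
    intro P
    have h0 : geomPt A K ptK ⤳ P := by
      rw [← PrimeSpectrum.le_iff_specializes]
      intro a ha
      have h1 : algebraMap A K a = 0 := ha
      rw [IsFractionRing.injective A K (h1.trans (map_zero _).symm)]
      exact P.asIdeal.zero_mem
    have h2 : s (geomPt A K ptK) ∈ Zp := by
      refine subset_closure ⟨sK ptK, mem_connectedComponent, ?_⟩
      show (sK ≫ pullback.fst f (geomPt A K)) ptK = (geomPt A K ≫ s) ptK
      rw [pullback.lift_fst]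
    exact (h0.map s.continuous).mem_closed isClosed_closure h2
  have h1 := spreadsOut_connected K f hCcl.isClosed isConnected_connectedComponent
  have h2 : SpreadsOut A fun L _ _ => baseProj f L ⁻¹' (Zp ∩ Zm) ⊆ baseProj f L ⁻¹' ∅ :=
    spreadsOut_subset_scheme K f (isClosed_closure.inter isClosed_closure) isClosed_empty
      (by rw [Set.preimage_inter, hKp, hKm, Set.inter_compl_self]; exact Set.empty_subset _)
  have h3 : SpreadsOut A fun L _ _ => baseProj f L ⁻¹' Set.univ ⊆ baseProj f L ⁻¹' (Zp ∪ Zm) :=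
    spreadsOut_subset_scheme K f isClosed_univ (isClosed_closure.union isClosed_closure)
      (by rw [Set.preimage_union, hKp, hKm, Set.union_compl_self]; exact Set.subset_univ _)
  obtain ⟨g, hg, h⟩ := (h1.and h2).and h3
  refine ⟨g, hg, Zp, Zm, isClosed_closure, isClosed_closure, fun x hx => ?_⟩
  let L := AlgebraicClosure (f x).asIdeal.ResidueField
  have hker : (f x).asIdeal = RingHom.ker (algebraMap A L) := by
    rw [IsScalarTower.algebraMap_eq A (f x).asIdeal.ResidueField L,
      RingHom.ker_comp_of_injective _ (algebraMap (f x).asIdeal.ResidueField L).injective]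
    exact (Ideal.ker_algebraMap_residueField _).symm
  obtain ⟨⟨hconn, hdis⟩, hcov⟩ := h L (fun h0 => hx (hker.symm ▸ h0))
  obtain ⟨v, hv⟩ : x ∈ Set.range (baseProj f L) := by rw [range_baseProj f L (f x) hker]; rfl
  let ptL : Spec (CommRingCat.of L) := ⟨⊥, Ideal.isPrime_bot⟩
  let sL : Spec (CommRingCat.of L) ⟶ pullback f (geomPt A L) := pullback.lift (geomPt A L ≫ s) (𝟙 _)
    (by rw [Category.assoc, hs, Category.comp_id, Category.id_comp])
  have hsL : sL ≫ pullback.fst f (geomPt A L) = geomPt A L ≫ s := pullback.lift_fst _ _ _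
  have hbc := S1324.result f s hs (pullback.snd f (geomPt A L)) (baseProj f L) (geomPt A L)
    (IsPullback.of_hasPullback f (geomPt A L)) sL (pullback.lift_snd _ _ _) hsL
  have hone : MoreMor.sectionComponents (pullback.snd f (geomPt A L)) sL = connectedComponent (sL ptL) := by
    ext w
    have hu : ⇑(pullback.snd f (geomPt A L)) ⁻¹' {pullback.snd f (geomPt A L) w} = Set.univ :=
      Set.eq_univ_of_forall fun _ => Subsingleton.elim (α := PrimeSpectrum L) _ _
    show w ∈ connectedComponentIn _ _ ↔ _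
    rw [hu, connectedComponentIn_univ, Subsingleton.elim (α := PrimeSpectrum L)
      (pullback.snd f (geomPt A L) w) ptL]
  have hmemP : sL ptL ∈ baseProj f L ⁻¹' Zp := by
    show (sL ≫ pullback.fst f (geomPt A L)) ptL ∈ Zp
    rw [hsL, Scheme.Hom.comp_apply]
    exact hsZ _
  have hcompl : baseProj f L ⁻¹' Zp = (baseProj f L ⁻¹' Zm)ᶜ := Set.ext fun w =>
    ⟨fun hp hm => hdis ⟨hp, hm⟩, fun hm => (hcov (Set.mem_univ (baseProj f L w))).resolve_right hm⟩
  have hclopen : IsClopen (baseProj f L ⁻¹' Zp) :=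
    ⟨isClosed_closure.preimage (baseProj f L).continuous,
      hcompl ▸ (isClosed_closure.preimage (baseProj f L).continuous).isOpen_compl⟩
  have hC' : connectedComponent (sL ptL) = baseProj f L ⁻¹' Zp :=
    (hclopen.connectedComponent_subset hmemP).antisymm (hconn.subset_connectedComponent hmemP)
  rw [← hv]
  refine ⟨?_, Set.ext_iff.1 hcompl v⟩
  show v ∈ baseProj f L ⁻¹' MoreMor.sectionComponents f s ↔ v ∈ baseProj f L ⁻¹' Zp
  rw [← hbc, hone, hC']

theorem exists_sectionComponents_clopen {A : Type u} [CommRing A] [IsDomain A] {X : Scheme.{u}}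
    (f : X ⟶ Spec (CommRingCat.of A)) [LocallyOfFiniteType f] [QuasiCompact f]
    (s : Spec (CommRingCat.of A) ⟶ X) (hs : s ≫ f = 𝟙 _) :
    ∃ a : A, a ≠ 0 ∧ ∃ Zp Zm : Set X, IsClosed Zp ∧ IsClosed Zm ∧ ∀ x : X, a ∉ (f x).asIdeal →
      (x ∈ MoreMor.sectionComponents f s ↔ x ∈ Zp) ∧ (x ∈ Zp ↔ x ∉ Zm) := by
  let F := FractionRing A
  let K := AlgebraicClosure F
  haveI : Algebra.IsAlgebraic A F := IsLocalization.isAlgebraic F (nonZeroDivisors A)
  haveI : Algebra.IsAlgebraic A K := Algebra.IsAlgebraic.trans A F K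
  have hinj : Function.Injective (algebraMap A K) := by
    rw [IsScalarTower.algebraMap_eq A F K]
    exact (algebraMap F K).injective.comp (IsFractionRing.injective A F)
  let Ā := integralClosure A K
  haveI : IsFractionRing Ā K :=
    integralClosure.isFractionRing_of_algebraic fun x hx => hinj (by rw [hx, map_zero])
  haveI : Algebra.IsIntegral A Ā := ⟨fun x => integralClosure.isIntegral x⟩
  have hA : Function.Injective (algebraMap A Ā) := fun x y h => hinj (congrArg Subtype.val h)
  let π : Spec (CommRingCat.of Ā) ⟶ Spec (CommRingCat.of A) := Spec.map (CommRingCat.ofHom (algebraMap A Ā))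
  haveI : IsIntegralHom π := (IsIntegralHom.SpecMap_iff).2 (algebraMap_isIntegral_iff.2 inferInstance)
  haveI : Surjective π := ⟨fun P => by
    obtain ⟨q, hq, hqP⟩ := Ideal.exists_ideal_over_prime_of_isIntegral_of_isDomain (S := Ā) P.asIdeal
      (by rw [(RingHom.injective_iff_ker_eq_bot _).1 hA]; exact bot_le)
    exact ⟨⟨q, hq⟩, PrimeSpectrum.ext hqP⟩⟩
  let f' := pullback.snd f π
  let p := pullback.fst f π
  let s' : Spec (CommRingCat.of Ā) ⟶ pullback f π := pullback.lift (π ≫ s) (𝟙 _)
    (by rw [Category.assoc, hs, Category.comp_id, Category.id_comp])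
  obtain ⟨g, hg, Zp, Zm, hZp, hZm, h⟩ := exists_sectionComponents_pieces K f' s' (pullback.lift_snd _ _ _)
  have hne : (Ideal.span {g}).comap (algebraMap A Ā) ≠ ⊥ :=
    Ideal.comap_ne_bot_of_integral_mem hg (Ideal.mem_span_singleton_self g) (Algebra.IsIntegral.isIntegral g)
  obtain ⟨a, ha, ha0⟩ := Submodule.exists_mem_ne_zero_of_ne_bot hne
  have hbc := S1324.result f s hs f' p π (IsPullback.of_hasPullback f π) s' (pullback.lift_snd _ _ _)
    (pullback.lift_fst _ _ _)
  refine ⟨a, ha0, p '' Zp, p '' Zm, p.isClosedMap _ hZp, p.isClosedMap _ hZm, fun x hx => ?_⟩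
  have hlift : ∀ w, p w = x → g ∉ (f' w).asIdeal := fun w hw hgw => by
    refine hx ?_
    have h1 : π (f' w) = f x := by
      rw [← Scheme.Hom.comp_apply, show f' ≫ π = p ≫ f from pullback.condition.symm, Scheme.Hom.comp_apply, hw]
    rw [← h1]
    show algebraMap A Ā a ∈ (f' w).asIdeal
    exact (Ideal.span_singleton_le_iff_mem _).2 hgw ha
  obtain ⟨w, hw⟩ := p.surjective x
  have hiff : ∀ v, p v = x → (v ∈ Zp ↔ x ∈ MoreMor.sectionComponents f s) := fun v hv => by
    rw [← (h v (hlift v hv)).1, hbc, Set.mem_preimage, hv]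
  have hmem : x ∈ p '' Zp ↔ x ∈ MoreMor.sectionComponents f s :=
    ⟨fun ⟨v, hv, hvx⟩ => (hiff v hvx).1 hv, fun hS => ⟨w, (hiff w hw).2 hS, hw⟩⟩
  refine ⟨hmem.symm, fun hp ⟨v, hv, hvx⟩ => (h v (hlift v hvx)).2.1 ((hiff v hvx).2 (hmem.1 hp)) hv, fun hm => ?_⟩
  exact ⟨w, (h w (hlift w hw)).2.2 fun hwm => hm ⟨w, hwm, hw⟩, hw⟩

theorem exists_sectionComponents_clopen_nhds {X Y : Scheme.{u}} (f : X ⟶ Y) (s : Y ⟶ X) (hs : s ≫ f = 𝟙 Y)
    [LocallyOfFiniteType f] [QuasiCompact f] (y : Y) :
    ∃ V : Set Y, IsOpen V ∧ y ∈ V ∧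
      IsClopen (Subtype.val ⁻¹' MoreMor.sectionComponents f s : Set ↑(f ⁻¹' (closure {y} ∩ V))) := by
  obtain ⟨_, ⟨U, hU, rfl⟩, hyU, -⟩ := Y.isBasis_affineOpens.exists_subset_of_mem_open (Set.mem_univ y) isOpen_univ
  obtain ⟨b, rfl⟩ : y ∈ Set.range hU.fromSpec := by rw [hU.range_fromSpec]; exact hyU
  haveI : b.asIdeal.IsPrime := b.2
  let R := Γ(Y, U)
  let A := R ⧸ b.asIdeal
  let q : Spec (CommRingCat.of A) ⟶ Spec (CommRingCat.of R) :=
    Spec.map (CommRingCat.ofHom (Ideal.Quotient.mk b.asIdeal))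
  haveI : IsClosedImmersion q := IsClosedImmersion.spec_of_surjective _ Ideal.Quotient.mk_surjective
  let i : Spec (CommRingCat.of A) ⟶ Y := q ≫ hU.fromSpec
  let f' := pullback.snd f i
  let p := pullback.fst f i
  let s' : Spec (CommRingCat.of A) ⟶ pullback f i := pullback.lift (i ≫ s) (𝟙 _)
    (by rw [Category.assoc, hs, Category.comp_id, Category.id_comp])
  obtain ⟨a, ha, Zp, Zm, hZp, hZm, h⟩ := exists_sectionComponents_clopen f' s' (pullback.lift_snd _ _ _)
  obtain ⟨r, rfl⟩ := Ideal.Quotient.mk_surjective a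
  have hbc := S1324.result f s hs f' p i (IsPullback.of_hasPullback f i) s' (pullback.lift_snd _ _ _)
    (pullback.lift_fst _ _ _)
  refine ⟨hU.fromSpec '' (PrimeSpectrum.basicOpen r : Set (PrimeSpectrum R)),
    hU.fromSpec.isOpenEmbedding.isOpenMap _ (PrimeSpectrum.basicOpen r).isOpen,
    ⟨b, fun h => ha (Ideal.Quotient.eq_zero_iff_mem.2 h), rfl⟩, ?_⟩
  have hlift : ∀ x : X, f x ∈ closure {hU.fromSpec b} ∩ hU.fromSpec '' (PrimeSpectrum.basicOpen r : Set (PrimeSpectrum R)) →
      ∃ w, p w = x ∧ Ideal.Quotient.mk b.asIdeal r ∉ (f' w).asIdeal := by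
    rintro x ⟨hcl, c, hc, hcx⟩
    have hbc' : c ∈ closure {b} := by
      rw [hU.fromSpec.isOpenEmbedding.isInducing.closure_eq_preimage_closure_image, Set.image_singleton,
        Set.mem_preimage, hcx]
      exact hcl
    rw [PrimeSpectrum.closure_singleton] at hbc'
    haveI : c.asIdeal.IsPrime := c.2
    let P : Spec (CommRingCat.of A) := ⟨c.asIdeal.map (Ideal.Quotient.mk b.asIdeal),
      Ideal.map_isPrime_of_surjective Ideal.Quotient.mk_surjective (by rw [Ideal.mk_ker]; exact hbc')⟩
    have hcomap : Ideal.comap (Ideal.Quotient.mk b.asIdeal) P.asIdeal = c.asIdeal :=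
      (Ideal.comap_map_of_surjective' _ Ideal.Quotient.mk_surjective _).trans
        (by rw [Ideal.mk_ker, sup_eq_left.2 hbc'])
    have hPc : i P = f x := by
      rw [← hcx, Scheme.Hom.comp_apply]
      exact congrArg hU.fromSpec (PrimeSpectrum.ext hcomap)
    obtain ⟨w, hw, hw'⟩ := Scheme.Pullback.exists_preimage_pullback x P hPc.symm
    exact ⟨w, hw, fun hmem => hc (hcomap.le (hw' ▸ hmem))⟩
  obtain ⟨Wp, hWp, hWp'⟩ := p.isEmbedding.isInducing.isClosed_iff.1 hZp
  obtain ⟨Wm, hWm, hWm'⟩ := p.isEmbedding.isInducing.isClosed_iff.1 hZm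
  have key : ∀ x : ↑(f ⁻¹' (closure {hU.fromSpec b} ∩ hU.fromSpec '' (PrimeSpectrum.basicOpen r : Set (PrimeSpectrum R)))),
      ((x : X) ∈ MoreMor.sectionComponents f s ↔ (x : X) ∈ Wp) ∧ ((x : X) ∈ Wp ↔ (x : X) ∉ Wm) := by
    rintro ⟨x, hx⟩
    obtain ⟨w, rfl, hw⟩ := hlift x hx
    obtain ⟨h1, h2⟩ := h w hw
    rw [hbc] at h1
    rw [← hWp', ← hWm'] at h2
    rw [← hWp'] at h1
    exact ⟨h1, h2⟩
  refine ⟨?_, ?_⟩
  · convert hWp.preimage continuous_subtype_val using 1
    exact Set.ext fun x => (key x).1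
  · convert (hWm.preimage continuous_subtype_val).isOpen_compl using 1
    exact Set.ext fun x => (key x).1.trans (key x).2

end Groth.Agent.GeomLoci
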