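import Groth.Agent.GeomLoci.SectGeneric
import Groth.Agent.GeomLoci.Constructible
import Groth.Agent.FibDim.Comp
import Groth.Agent.FlatDvrVC5.SchemePoint

/-!
# Neighbourhoods of the components of the fibres along a section
-/

set_option autoImplicit false
set_option linter.style.haveILetI false
set_option linter.unusedSectionVars false
set_option backward.isDefEq.respectTransparency false
set_option backward.isDefEq.respectTransparency.types false

open AlgebraicGeometry CategoryTheory Limits Topology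

universe u

namespace Groth.Agent.GeomLoci

variable {X Y : Scheme.{u}} (f : X ⟶ Y)

theorem isOpenAt_comp_isOpenImmersion {W : Scheme.{u}} (m : W ⟶ X) [IsOpenImmersion m] {v : W}
    (h : EGA43.IsOpenAt f.base (m v)) : EGA43.IsOpenAt (m ≫ f).base v := by
  intro U hU
  have hmU : m '' U ∈ nhds (m v) := m.isOpenEmbedding.isOpenMap.image_mem_nhds hU
  rw [show ((m ≫ f).base '' U) = f.base '' (m '' U) by
    rw [← Set.image_comp]; rfl]
  exact h _ hmU

/-- Goodness at a point passes to open subschemes over open subschemes of the base. -/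
theorem goodAt_of_isOpenImmersion {X' Y' : Scheme.{u}} (f' : X' ⟶ Y') (j : X' ⟶ X) [IsOpenImmersion j]
    (i : Y' ⟶ Y) [Mono i] (hw : f' ≫ i = j ≫ f) {x : X'} (h : GoodAt f (j x)) : GoodAt f' x := by
  intro T τ c w hw'
  let m : pullback f' τ ⟶ pullback f (τ ≫ i) := pullback.lift (pullback.fst f' τ ≫ j) (pullback.snd f' τ)
    (by rw [Category.assoc, ← hw, reassoc_of% pullback.condition])
  have hm₂ : m ≫ pullback.snd f (τ ≫ i) = pullback.snd f' τ := pullback.lift_snd _ _ _
  have hsq : IsPullback m (pullback.fst f' τ) (pullback.fst f (τ ≫ i)) j := by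
    refine IsPullback.of_right ?_ (pullback.lift_fst _ _ _) (IsPullback.of_hasPullback f (τ ≫ i)).flip
    rw [hm₂, ← hw]
    exact (FlatDvrVC5.isPullback_comp_mono i (IsPullback.of_hasPullback f' τ)).flip
  haveI : IsOpenImmersion m := MorphismProperty.of_isPullback (P := @IsOpenImmersion) hsq.flip inferInstance
  let q := pullback.snd f (τ ≫ i)
  let q' := pullback.snd f' τ
  -- the fibre of the open piece is an open piece of the fibre
  let i₁ : pullback m (q.fiberι c) ≅ pullback (m ≫ q) (T.fromSpecResidueField c) :=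
    pullbackRightPullbackFstIso q (T.fromSpecResidueField c) m
  let i₂ : q'.fiber c ≅ pullback m (q.fiberι c) := pullback.congrHom hm₂.symm rfl ≪≫ i₁.symm
  let e : q'.fiber c ⟶ q.fiber c := i₂.hom ≫ pullback.snd m (q.fiberι c)
  haveI : IsOpenImmersion e := inferInstance
  have he : e ≫ q.fiberι c = q'.fiberι c ≫ m := by
    have h1 : i₂.hom ≫ pullback.fst m (q.fiberι c) = q'.fiberι c := by
      simp [i₂, i₁, Scheme.Hom.fiberι, q', q]
    rw [← h1, Category.assoc, Category.assoc, pullback.condition]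
  have hpt : q.fiberι c (e w) = m (q'.fiberι c w) := by
    rw [← Scheme.Hom.comp_apply, he, Scheme.Hom.comp_apply]
  obtain ⟨hop, hred⟩ := h T (τ ≫ i) c (e w) (by
    rw [hpt, ← Scheme.Hom.comp_apply m, pullback.lift_fst, Scheme.Hom.comp_apply, hw'])
  refine ⟨?_, ?_⟩
  · have h2 := isOpenAt_comp_isOpenImmersion q m (v := q'.fiberι c w) (hpt ▸ hop)
    rwa [hm₂] at h2
  · haveI := hred
    exact isReduced_of_injective (CategoryTheory.inv (e.stalkMap w)).hom
      (ConcreteCategory.bijective_of_isIso (CategoryTheory.inv (e.stalkMap w))).1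

variable [LocallyOfFiniteType f] (g : Y ⟶ X) (hg : g ≫ f = 𝟙 Y)

include hg in
/-- A point of the component is joined to the section inside a quasi-compact open. -/
theorem exists_compact_open {y : Y} {V : Y.Opens} (hyV : y ∈ V) {x : X}
    (hx : x ∈ connectedComponentIn (f.base ⁻¹' {y}) (g.base y)) :
    ∃ U : X.Opens, IsCompact (U : Set X) ∧ U ≤ f ⁻¹ᵁ V ∧ g y ∈ U ∧
      x ∈ connectedComponentIn ((U : Set X) ∩ f ⁻¹' {y}) (g y) := by
  have hgy : f (g y) = y := by rw [← Scheme.Hom.comp_apply, hg]; rfl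
  have haff : ∀ v : X, f v = y → ∃ W : X.Opens, IsCompact (W : Set X) ∧ W ≤ f ⁻¹ᵁ V ∧ v ∈ W := fun v hv => by
    obtain ⟨W, hW, hvW, hWV⟩ := exists_isAffineOpen_mem_and_subset (x := v) (U := f ⁻¹ᵁ V)
      (show f v ∈ V by rw [hv]; exact hyV)
    exact ⟨W, hW.isCompact, hWV, hvW⟩
  let Ω : Set ↥(f.fiber y) := {w | ∃ U : X.Opens, IsCompact (U : Set X) ∧ U ≤ f ⁻¹ᵁ V ∧ g y ∈ U ∧
    f.fiberι y w ∈ connectedComponentIn ((U : Set X) ∩ f ⁻¹' {y}) (g y)}
  have hfw : ∀ w, f (f.fiberι y w) = y := fun w => FlatDvr.fiberι_apply_eq f w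
  have hΩ : ∀ a b, a ⤳ b → (a ∈ Ω ↔ b ∈ Ω) := by
    intro a b hab
    have h' := hab.map (f.fiberι y).continuous
    obtain ⟨W, hW, hWV, hbW⟩ := haff _ (hfw b)
    have haW : f.fiberι y a ∈ W := h'.mem_open W.isOpen hbW
    have hpre : ∀ U : X.Opens, _root_.IsPreconnected ({f.fiberι y a, f.fiberι y b} : Set X) ∧
        ({f.fiberι y a, f.fiberι y b} : Set X) ⊆ ((U ⊔ W : X.Opens) : Set X) ∩ f ⁻¹' {y} := fun U =>
      ⟨isPreconnected_singleton.subset_closure (s := {f.fiberι y a}) (by simp)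
        (Set.insert_subset_iff.2 ⟨subset_closure rfl,
          Set.singleton_subset_iff.2 (specializes_iff_mem_closure.1 h')⟩),
       Set.insert_subset_iff.2 ⟨⟨Or.inr haW, hfw a⟩, Set.singleton_subset_iff.2 ⟨Or.inr hbW, hfw b⟩⟩⟩
    constructor
    · rintro ⟨U, hU, hUV, hgU, hmem⟩
      refine ⟨U ⊔ W, by rw [TopologicalSpace.Opens.coe_sup]; exact hU.union hW, sup_le hUV hWV, Or.inl hgU, ?_⟩
      have hmem' := connectedComponentIn_mono (g y)
        (Set.inter_subset_inter_left _ (show (U : Set X) ⊆ (U ⊔ W : X.Opens) from fun v hv => Or.inl hv)) hmem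
      rw [connectedComponentIn_eq hmem']
      exact (hpre U).1.subset_connectedComponentIn (by simp) (hpre U).2 (by simp)
    · rintro ⟨U, hU, hUV, hgU, hmem⟩
      refine ⟨U ⊔ W, by rw [TopologicalSpace.Opens.coe_sup]; exact hU.union hW, sup_le hUV hWV, Or.inl hgU, ?_⟩
      have hmem' := connectedComponentIn_mono (g y)
        (Set.inter_subset_inter_left _ (show (U : Set X) ⊆ (U ⊔ W : X.Opens) from fun v hv => Or.inl hv)) hmem
      rw [connectedComponentIn_eq hmem']
      exact (hpre U).1.subset_connectedComponentIn (by simp) (hpre U).2 (by simp)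
  haveI : IsLocallyNoetherian (f.fiber y) :=
    LocallyOfFiniteType.isLocallyNoetherian (f.fiberToSpecResidueField y)
  have hclopen : IsClopen Ω := ⟨isOpen_compl_iff.1
    (isOpen_of_specializes_iff Ωᶜ fun a b h => (hΩ a b h).not), isOpen_of_specializes_iff Ω hΩ⟩
  obtain ⟨w₀, hw₀⟩ : g y ∈ Set.range (f.fiberι y) := by rw [Scheme.Hom.range_fiberι]; exact hgy
  obtain ⟨w, hw⟩ : x ∈ Set.range (f.fiberι y) := by
    rw [Scheme.Hom.range_fiberι]; exact connectedComponentIn_subset (f.base ⁻¹' {y}) (g.base y) hx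
  have hC : _root_.IsPreconnected (f.fiberι y ⁻¹' connectedComponentIn (f.base ⁻¹' {y}) (g.base y)) := by
    rw [← (f.fiberι y).isEmbedding.isInducing.isPreconnected_image, Set.image_preimage_eq_of_subset
      (by rw [Scheme.Hom.range_fiberι]; exact connectedComponentIn_subset _ _)]
    exact isPreconnected_connectedComponentIn
  have h0 : w₀ ∈ Ω := by
    obtain ⟨W, hW, hWV, hgW⟩ := haff _ hgy
    exact ⟨W, hW, hWV, hgW, by rw [hw₀]; exact mem_connectedComponentIn ⟨hgW, hgy⟩⟩
  obtain ⟨U, hU, hUV, hgU, hmem⟩ : w ∈ Ω := hC.subset_isClopen hclopen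
    ⟨w₀, by show f.fiberι y w₀ ∈ connectedComponentIn (f.base ⁻¹' {y}) (g.base y); rw [hw₀]; exact mem_connectedComponentIn hgy, h0⟩
    (show f.fiberι y w ∈ connectedComponentIn (f.base ⁻¹' {y}) (g.base y) by rw [hw]; exact hx)
  exact ⟨U, hU, hUV, hgU, hw ▸ hmem⟩

/-- A piece of the morphism around a point of a component. -/
structure Piece (y : Y) (x : X) where
  X' : Scheme.{u}
  Y' : Scheme.{u}
  f' : X' ⟶ Y'
  g' : Y' ⟶ X'
  hg' : g' ≫ f' = 𝟙 Y'
  j : X' ⟶ X
  i : Y' ⟶ Y
  [open_j : IsOpenImmersion j]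
  [open_i : IsOpenImmersion i]
  [affine : IsAffine Y']
  [qc : QuasiCompact f']
  [lft : LocallyOfFiniteType f']
  [qs : QuasiSeparatedSpace X']
  hw : f' ≫ i = j ≫ f
  hgw : g' ≫ j = i ≫ g
  x' : X'
  hx' : j x' = x
  hmem : x' ∈ connectedComponentIn (f' ⁻¹' {f' x'}) (g' (f' x'))
  hfx : i (f' x') = y

include hg in
theorem exists_piece (hqs : ∀ V : Y.Opens, IsAffineOpen V → IsQuasiSeparated ((f ⁻¹ᵁ V : X.Opens) : Set X))
    {y : Y} {x : X}
    (hx : x ∈ connectedComponentIn (f.base ⁻¹' {y}) (g.base y)) : Nonempty (Piece f g y x) := by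
  have hfx : f x = y := connectedComponentIn_subset (f.base ⁻¹' {y}) (g.base y) hx
  have hgz : ∀ z, f (g z) = z := fun z => by rw [← Scheme.Hom.comp_apply, hg]; rfl
  obtain ⟨V, hV, hyV, -⟩ := exists_isAffineOpen_mem_and_subset (x := y) (U := ⊤) trivial
  obtain ⟨U, hU, hUV, hgU, hxU⟩ := exists_compact_open f g hg hyV hx
  obtain ⟨V', hV', hyV', hV'le⟩ := exists_isAffineOpen_mem_and_subset (x := y) (U := V ⊓ g ⁻¹ᵁ U) ⟨hyV, hgU⟩
  let U' : X.Opens := U ⊓ f ⁻¹ᵁ V'
  have hgV' : V' ≤ g ⁻¹ᵁ U' := fun z hz => ⟨(hV'le hz).2, by show f (g z) ∈ V'; rw [hgz]; exact hz⟩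
  haveI : IsAffine (V' : Scheme.{u}) := hV'
  haveI : IsAffine (V : Scheme.{u}) := hV
  let f' : (U' : Scheme.{u}) ⟶ V' := f.resLE V' U' inf_le_right
  let g' : (V' : Scheme.{u}) ⟶ U' := g.resLE U' V' hgV'
  have hw : f' ≫ V'.ι = U'.ι ≫ f := f.resLE_comp_ι _
  have hgw : g' ≫ U'.ι = V'.ι ≫ g := g.resLE_comp_ι _
  have hg' : g' ≫ f' = 𝟙 _ := by
    rw [← cancel_mono V'.ι, Category.assoc, hw, reassoc_of% hgw, hg, Category.comp_id, Category.id_comp]
  haveI : QuasiCompact f' := by
    have hK : IsCompact ((U' : X.Opens) : Set X) := by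
      haveI : CompactSpace ↥(U : Scheme.{u}) := isCompact_iff_compactSpace.1 hU
      haveI : QuasiSeparatedSpace ↥(U : Scheme.{u}) :=
        (isQuasiSeparated_iff_quasiSeparatedSpace _ U.isOpen).1 ((hqs V hV).of_subset hUV)
      let fU : (U : Scheme.{u}) ⟶ V := f.resLE V U hUV
      haveI : QuasiCompact fU := quasiCompact_of_compactSpace fU
      have h1 : IsCompact ((fU ⁻¹ᵁ V.ι ⁻¹ᵁ V') : Set ↥(U : Scheme.{u})) :=
        fU.isCompact_preimage (hV'.preimage_of_isOpenImmersion V.ι (by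
          rw [Scheme.Opens.opensRange_ι]; exact hV'le.trans inf_le_left)).isCompact
      have h2 := h1.image U.ι.continuous
      convert h2 using 1
      ext z
      constructor
      · rintro ⟨hzU, hzV⟩
        refine ⟨⟨z, hzU⟩, ?_, rfl⟩
        show V.ι (fU ⟨z, hzU⟩) ∈ V'
        rw [← Scheme.Hom.comp_apply, f.resLE_comp_ι, Scheme.Hom.comp_apply]
        exact hzV
      · rintro ⟨w, hw, rfl⟩
        refine ⟨w.2, ?_⟩
        have hw' : V.ι (fU w) ∈ V' := hw
        rw [← Scheme.Hom.comp_apply, f.resLE_comp_ι, Scheme.Hom.comp_apply] at hw'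
        exact hw'
    haveI : CompactSpace ↥(U' : Scheme.{u}) := isCompact_iff_compactSpace.1 hK
    exact quasiCompact_of_compactSpace f'
  haveI : LocallyOfFiniteType f' := by
    have : LocallyOfFiniteType (f' ≫ V'.ι) := by rw [hw]; infer_instance
    exact locallyOfFiniteType_of_comp f' V'.ι
  haveI : QuasiSeparatedSpace ↥(U' : Scheme.{u}) :=
    (isQuasiSeparated_iff_quasiSeparatedSpace _ U'.isOpen).1 ((hqs V' hV').of_subset inf_le_right)
  have hxU' : x ∈ U' := ⟨(connectedComponentIn_subset _ _ hxU).1, by show f x ∈ V'; rw [hfx]; exact hyV'⟩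
  obtain ⟨x', hx'⟩ : x ∈ Set.range U'.ι := by rw [Scheme.Opens.range_ι]; exact hxU'
  have hif : V'.ι (f' x') = y := by rw [← Scheme.Hom.comp_apply, hw, Scheme.Hom.comp_apply, hx', hfx]
  refine ⟨{ X' := U', Y' := V', f' := f', g' := g', hg' := hg', j := U'.ι, i := V'.ι, hw := hw, hgw := hgw
            x' := x', hx' := hx', hfx := hif, hmem := ?_ }⟩
  have hgy : U'.ι (g' (f' x')) = g y := by rw [← Scheme.Hom.comp_apply, hgw, Scheme.Hom.comp_apply, hif]
  have hsub : connectedComponentIn ((U : Set X) ∩ f ⁻¹' {y}) (g y) ⊆ (U' : Set X) := fun z hz => by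
    obtain ⟨h1, h2⟩ := connectedComponentIn_subset _ _ hz
    exact ⟨h1, by show f z ∈ V'; rw [show f z = y from h2]; exact hyV'⟩
  have hpre : _root_.IsPreconnected (U'.ι ⁻¹' connectedComponentIn ((U : Set X) ∩ f ⁻¹' {y}) (g y)) := by
    rw [← U'.ι.isOpenEmbedding.isInducing.isPreconnected_image,
      Set.image_preimage_eq_of_subset (by rw [Scheme.Opens.range_ι]; exact hsub)]
    exact isPreconnected_connectedComponentIn
  refine hpre.subset_connectedComponentIn ?_ ?_ (show U'.ι x' ∈ connectedComponentIn ((U : Set X) ∩ f ⁻¹' {y}) (g y) by rw [hx']; exact hxU)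
  · show U'.ι (g' (f' x')) ∈ connectedComponentIn ((U : Set X) ∩ f ⁻¹' {y}) (g y)
    rw [hgy]
    exact mem_connectedComponentIn ⟨hgU, hgz y⟩
  · intro w hw'
    show f' w = f' x'
    refine V'.ι.isOpenEmbedding.injective ?_
    rw [hif, ← Scheme.Hom.comp_apply, hw, Scheme.Hom.comp_apply]
    exact (connectedComponentIn_subset _ _ hw').2

theorem image_sectionComponents_subset {X' Y' : Scheme.{u}} (f' : X' ⟶ Y') (g' : Y' ⟶ X') (hg' : g' ≫ f' = 𝟙 Y')
    (j : X' ⟶ X) (i : Y' ⟶ Y) (hw : f' ≫ i = j ≫ f) (hgw : g' ≫ j = i ≫ g) :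
    j '' MoreMor.sectionComponents f' g' ⊆ MoreMor.sectionComponents f g := by
  rintro _ ⟨v, hv, rfl⟩
  have hfj : ∀ w, f (j w) = i (f' w) := fun w => by rw [← Scheme.Hom.comp_apply, ← hw, Scheme.Hom.comp_apply]
  have hgj : j (g' (f' v)) = g (i (f' v)) := by rw [← Scheme.Hom.comp_apply, hgw, Scheme.Hom.comp_apply]
  show j v ∈ connectedComponentIn (f ⁻¹' {f (j v)}) (g (f (j v)))
  rw [hfj, ← hgj]
  refine (isPreconnected_connectedComponentIn.image j j.continuous.continuousOn).subset_connectedComponentIn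
    ⟨_, mem_connectedComponentIn (show f' (g' (f' v)) ∈ ({f' v} : Set _) from ?_), rfl⟩ ?_ ⟨v, hv, rfl⟩
  · rw [← Scheme.Hom.comp_apply, hg']; rfl
  · rintro _ ⟨w, hw', rfl⟩
    show f (j w) = i (f' v)
    rw [hfj]
    exact congrArg i (connectedComponentIn_subset (f' ⁻¹' {f' v}) (g' (f' v)) hw')

/-- EGA IV 15.6.5: the section components are a neighbourhood of a good component. -/
theorem subset_interior_sectionComponents [IsLocallyNoetherian Y] (hg : g ≫ f = 𝟙 Y) {y : Y}
    (h : ∀ x ∈ connectedComponentIn (f.base ⁻¹' {y}) (g.base y), GoodAt f x) :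
    connectedComponentIn (f.base ⁻¹' {y}) (g.base y) ⊆ interior (MoreMor.sectionComponents f g) := by
  haveI : IsLocallyNoetherian X := LocallyOfFiniteType.isLocallyNoetherian f
  intro x hx
  obtain ⟨P⟩ := exists_piece f g hg (fun _ _ => IsQuasiSeparated.of_quasiSeparatedSpace _) hx
  haveI := P.open_j; haveI := P.open_i; haveI := P.affine; haveI := P.qc; haveI := P.lft
  haveI : IsLocallyNoetherian P.Y' := isLocallyNoetherian_of_isOpenImmersion P.i
  haveI : IsNoetherian P.Y' := {}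
  have hC : ∀ v ∈ connectedComponentIn (P.f'.base ⁻¹' {P.f' P.x'}) (P.g'.base (P.f' P.x')), GoodAt P.f' v := by
    intro v hv
    refine goodAt_of_isOpenImmersion f P.f' P.j P.i P.hw (h _ ?_)
    have h1 : v ∈ MoreMor.sectionComponents P.f' P.g' := by
      show v ∈ connectedComponentIn (P.f' ⁻¹' {P.f' v}) (P.g' (P.f' v))
      rw [show P.f' v = P.f' P.x' from connectedComponentIn_subset (P.f'.base ⁻¹' {P.f' P.x'}) (P.g'.base (P.f' P.x')) hv]
      exact hv
    have h2 := image_sectionComponents_subset f g P.f' P.g' P.hg' P.j P.i P.hw P.hgw ⟨v, h1, rfl⟩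
    change P.j v ∈ connectedComponentIn (f ⁻¹' {f (P.j v)}) (g (f (P.j v))) at h2
    rwa [← Scheme.Hom.comp_apply, ← P.hw, Scheme.Hom.comp_apply,
      show P.f' v = P.f' P.x' from connectedComponentIn_subset (P.f'.base ⁻¹' {P.f' P.x'}) (P.g'.base (P.f' P.x')) hv, P.hfx] at h2
  have hnhds : MoreMor.sectionComponents P.f' P.g' ∈ nhds P.x' :=
    FibDim.mem_nhds_of_generizations (isConstructible_sectionComponents P.f' P.g' P.hg').isLocallyConstructible
      fun v hv => mem_sectionComponents_of_generization P.f' P.g' P.hg' hC P.hmem hv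
  rw [mem_interior_iff_mem_nhds, ← P.hx']
  exact Filter.mem_of_superset (P.j.isOpenEmbedding.isOpenMap.image_mem_nhds hnhds)
    (image_sectionComponents_subset f g P.f' P.g' P.hg' P.j P.i P.hw P.hgw)

end Groth.Agent.GeomLoci
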