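import Groth.Agent.HensCouple7.ProperPair
import Groth.Agent.GeomLoci.ConnGen
import Groth.Agent.S0537
import Groth.Agent.S0539
import Groth.Agent.S0540
import Groth.Agent.S2135
import Groth.Agent.Hensel.HenselizationDescent
import Groth.Agent.FlatMisc.GenerizeNear
import Groth.Agent.GrpSchLib.FieldSmooth

/-!
# Lower semicontinuity of the number of geometric components over a geometrically unibranch point
-/

set_option autoImplicit false
set_option linter.style.haveILetI false
set_option linter.unusedSectionVars false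
set_option backward.isDefEq.respectTransparency false
set_option backward.isDefEq.respectTransparency.types false

universe u

open AlgebraicGeometry CategoryTheory CategoryTheory.Limits Topology IsLocalRing

namespace Groth.Agent.GeomLoci

open HensCouple7 (Lifts)

theorem card_connectedComponents_le {W : Type u} [TopologicalSpace W] {Z T : Set W} (hZ : Lifts Z)
    [Finite (_root_.ConnectedComponents ↥Z)] (h : ∀ U : Set W, IsClopen U → U.Nonempty → (U ∩ T).Nonempty) :
    ENat.card (_root_.ConnectedComponents ↥Z) ≤ ENat.card (_root_.ConnectedComponents ↥T) := by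
  classical
  have hc : ∀ a : _root_.ConnectedComponents ↥Z, IsClopen ((ConnectedComponents.mk : ↥Z → _) ⁻¹' {a}) :=
    fun a => (isClopen_discrete {a}).preimage ConnectedComponents.continuous_coe
  choose U hU huniq using fun a => hZ _ (hc a)
  have hne : ∀ a, (U a).Nonempty := fun a => by
    obtain ⟨z, hz⟩ := ConnectedComponents.surjective_coe a
    have h1 : z ∈ Subtype.val ⁻¹' U a := by rw [(hU a).2]; exact hz
    exact ⟨z.1, h1⟩
  choose t ht using fun a => h (U a) (hU a).1 (hne a)
  refine ENat.card_le_card_of_injective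
    (f := fun a => ((⟨t a, (ht a).2⟩ : ↥T) : _root_.ConnectedComponents ↥T)) fun a b hab => ?_
  have h1 : (⟨t a, (ht a).2⟩ : ↥T) ∈ connectedComponent (⟨t b, (ht b).2⟩ : ↥T) :=
    ConnectedComponents.coe_eq_coe'.1 hab
  have h2 : (t a) ∈ U b :=
    ((hU b).1.preimage continuous_subtype_val).connectedComponent_subset (x := (⟨t b, (ht b).2⟩ : ↥T))
      (ht b).1 h1
  by_contra hne
  have hI : IsClopen (U a ∩ U b) := (hU a).1.inter (hU b).1
  have hd : Disjoint Z (U a ∩ U b) := by
    refine Set.disjoint_left.2 fun z hz ⟨hza, hzb⟩ => hne ?_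
    have ha : (⟨z, hz⟩ : ↥Z) ∈ Subtype.val ⁻¹' U a := hza
    have hb : (⟨z, hz⟩ : ↥Z) ∈ Subtype.val ⁻¹' U b := hzb
    rw [(hU a).2] at ha; rw [(hU b).2] at hb
    exact ha.symm.trans hb
  have hempty : (U a ∩ U b) = ∅ := by
    obtain ⟨E, -, hE⟩ := hZ ∅ isClopen_empty
    refine (hE _ ⟨hI, ?_⟩).trans (hE ∅ ⟨isClopen_empty, Set.preimage_empty⟩).symm
    exact Set.eq_empty_iff_forall_notMem.2 fun z hz => Set.disjoint_left.1 hd z.2 hz
  exact Set.eq_empty_iff_forall_notMem.1 hempty (t a) ⟨(ht a).1, h2⟩

theorem nGeomConnComp_le_of_dominant {X Y : Scheme.{u}} [IrreducibleSpace Y] [IsLocallyNoetherian Y]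
    (f : X ⟶ Y) [IsProper f]
    (hdom : ∀ Z ∈ irreducibleComponents (X : Type u), closure (f.base '' Z) = Set.univ) {y₀ z : Y}
    (hy : CAlg2.IsGeomUnibranch (Y.presheaf.stalk y₀)) (hz : z ⤳ y₀) :
    MoreMor.nGeomConnComp f y₀ ≤ MoreMor.nGeomConnComp f z := by
  let R := Y.presheaf.stalk y₀
  obtain ⟨S, _, _, _, _, hS⟩ := S0537.result R
  haveI := hS
  haveI : IsNoetherianRing S := (S0540.result R S).1 inferInstance
  haveI : Module.FaithfullyFlat R S := S0539.result R S
  haveI : HenselianLocalRing S := hS.henselian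
  haveI : IsSepClosed (IsLocalRing.ResidueField S) := hS.isSepClosure.sep_closed
  obtain ⟨q₀, hq₀, hq₀u⟩ := (S2135.result (A := R) (Ash := S)).1 hy
  haveI := hq₀.1.1
  let ηS : Spec (CommRingCat.of S) := (⟨q₀, hq₀.1.1⟩ : PrimeSpectrum S)
  let φ : Spec (CommRingCat.of S) ⟶ Spec R := Spec.map (CommRingCat.ofHom (algebraMap R S))
  let τ : Spec (CommRingCat.of S) ⟶ Y := φ ≫ Y.fromSpecStalk y₀
  haveI : Flat φ := (HasRingHomProperty.Spec_iff (P := @Flat)).2 (RingHom.flat_algebraMap_iff.2 inferInstance)
  haveI : Flat (Y.fromSpecStalk y₀) := GrpSchLib.flat_fromSpecStalk y₀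
  haveI : Flat τ := inferInstance
  let q := pullback.snd f τ
  let p := pullback.fst f τ
  haveI : IsLocallyNoetherian (pullback f τ) := LocallyOfFiniteType.isLocallyNoetherian q
  haveI : CompactSpace ↥(pullback f τ) := QuasiCompact.compactSpace_of_compactSpace q
  haveI : IsNoetherian (pullback f τ) := { }
  let η := genericPoint Y
  have hφc : φ (closedPoint S) = closedPoint R := IsLocalRing.comap_closedPoint (algebraMap R S)
  have hτc : τ (closedPoint S) = y₀ := by
    rw [Scheme.Hom.comp_apply, hφc, Scheme.fromSpecStalk_closedPoint]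
  have hηS : ∀ s : Spec (CommRingCat.of S), ηS ⤳ s := fun s => by
    refine (PrimeSpectrum.le_iff_specializes (⟨q₀, hq₀.1.1⟩ : PrimeSpectrum S) (s : PrimeSpectrum S)).1 ?_
    obtain ⟨m, hm, hms⟩ := Ideal.exists_minimalPrimes_le (J := (s : PrimeSpectrum S).asIdeal) bot_le
    exact (hq₀u m hm) ▸ hms
  have hsurj : ∀ z : Y, z ⤳ y₀ → ∃ s : Spec (CommRingCat.of S), τ s = z := fun z hz => by
    obtain ⟨r, rfl⟩ : z ∈ Set.range (Y.fromSpecStalk y₀) := by rw [Scheme.range_fromSpecStalk]; exact hz
    obtain ⟨s, hs⟩ := PrimeSpectrum.comap_surjective_of_faithfullyFlat (B := S) (r : PrimeSpectrum R)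
    exact ⟨s, by rw [Scheme.Hom.comp_apply]; exact congrArg _ hs⟩
  have hτη : ∀ s : Spec (CommRingCat.of S), τ s = η → s = ηS := fun s hs => by
    have h1 : φ ηS ⤳ φ s := (hηS s).map φ.continuous
    have h4 : τ ηS ⤳ τ s := h1.map (Y.fromSpecStalk y₀).continuous
    rw [hs] at h4
    have h2 : τ ηS = η := ((genericPoint_specializes (τ ηS)).antisymm h4).eq.symm
    have h3 : φ ηS = φ s := (Y.fromSpecStalk y₀).isEmbedding.injective (h2.trans hs.symm)
    refine PrimeSpectrum.ext ((Hensel.isHenzLike_of_isStrictHenselization (R := R) (S := S)).eq_of_le_of_comap_eq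
      ((PrimeSpectrum.le_iff_specializes (ηS : PrimeSpectrum S) (s : PrimeSpectrum S)).2 (hηS s)) ?_).symm
    exact congrArg PrimeSpectrum.asIdeal h3
  obtain ⟨z', hz'⟩ := hsurj z hz
  let Zc : Set ↥(pullback f τ) := q ⁻¹' {(closedPoint S : Spec (CommRingCat.of S))}
  let T : Set ↥(pullback f τ) := q ⁻¹' {z'}
  have hzero : (closedPoint S : PrimeSpectrum S) = ⟨maximalIdeal S, inferInstance⟩ := rfl
  have hZ : Lifts Zc := by
    haveI : HenselianRing S (maximalIdeal S) := inferInstance
    have := HensCouple7.lifts_proper (maximalIdeal S) q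
    convert this using 1
    show q ⁻¹' {(closedPoint S : PrimeSpectrum S)} = _
    congr 1
    ext s
    rw [Set.mem_singleton_iff, PrimeSpectrum.mem_zeroLocus, SetLike.coe_subset_coe]
    exact ⟨fun h => h ▸ le_rfl, fun h => PrimeSpectrum.ext
      (((IsLocalRing.maximalIdeal.isMaximal S).eq_of_le s.isPrime.ne_top h).symm)⟩
  have hmeet : ∀ U : Set ↥(pullback f τ), IsClopen U → U.Nonempty → (U ∩ T).Nonempty := by
    rintro U hU ⟨x, hx⟩
    obtain ⟨C, hC, hxC⟩ : ∃ C ∈ irreducibleComponents ↥(pullback f τ), x ∈ C :=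
      ⟨irreducibleComponent x, irreducibleComponent_mem_irreducibleComponents x, mem_irreducibleComponent⟩
    have hCc := isClosed_of_mem_irreducibleComponents C hC
    let g := hC.1.genericPoint
    have hgcl : closure {g} = C := hC.1.closure_genericPoint hCc
    have hgx : g ⤳ x := specializes_iff_mem_closure.2 (hgcl.symm ▸ hxC)
    have hgU : g ∈ U := hgx.mem_open hU.isOpen hx
    have hfg : f (p g) = η := by
      obtain ⟨Z, hZ, hpZ⟩ : ∃ Z ∈ irreducibleComponents (X : Type u), p g ∈ Z :=
        ⟨irreducibleComponent (p g), irreducibleComponent_mem_irreducibleComponents _, mem_irreducibleComponent⟩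
      have hZc := isClosed_of_mem_irreducibleComponents Z hZ
      let ξ := hZ.1.genericPoint
      have hξcl : closure {ξ} = Z := hZ.1.closure_genericPoint hZc
      have hfξ : f ξ = η := by
        have h1 : closure (f.base '' Z) ⊆ closure {f ξ} := by
          refine closure_minimal ?_ isClosed_closure
          rw [← hξcl]
          exact (image_closure_subset_closure_image f.continuous).trans (by rw [Set.image_singleton])
        rw [hdom Z hZ] at h1
        exact ((genericPoint_specializes (f ξ)).antisymm (specializes_iff_mem_closure.2 (h1 trivial))).eq.symm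
      haveI : Flat p := MorphismProperty.pullback_fst _ _ ‹Flat τ›
      obtain ⟨g', hg', hg'p⟩ := Flat.generalizingMap p (show ξ ⤳ p g from specializes_iff_mem_closure.2 (hξcl.symm ▸ hpZ))
      have hmax : closure {g'} ⊆ C := hC.2 isIrreducible_singleton.closure
        (by rw [← hgcl]; exact specializes_iff_closure_subset.1 hg')
      have hgg' : g ⤳ g' := specializes_iff_mem_closure.2 (hgcl.symm ▸ hmax (subset_closure rfl))
      have : g' = g := (hg'.antisymm hgg').eq
      rw [← this, hg'p, hfξ]
    have hτg : τ (q g) = η := by rw [← hfg, ← Scheme.Hom.comp_apply, ← Scheme.Hom.comp_apply, pullback.condition]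
    obtain ⟨w, hw, hwq⟩ := q.isClosedMap.specializingMap (a := g) (show q g ⤳ z' from (hτη _ hτg).symm ▸ hηS z')
    exact ⟨w, hgU |> fun h => hw.mem_closed hU.isClosed h, hwq⟩
  have hclosed : MoreMor.nGeomConnComp f y₀ = ENat.card (_root_.ConnectedComponents ↥Zc) := by
    let s₀ : Spec (CommRingCat.of (ResidueField S)) ⟶ Spec (CommRingCat.of S) :=
      Spec.map (CommRingCat.ofHom (IsLocalRing.residue S))
    have hs₀ : s₀ (closedPoint (ResidueField S)) = closedPoint S := IsLocalRing.comap_closedPoint (IsLocalRing.residue S)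
    rw [← hτc, ← (Triage.GeomCount.nGeom_baseChange f q p τ (IsPullback.of_hasPullback f τ) _).2, ← hs₀,
      (nGeom_eq_counts q s₀ _).2]
    haveI : IsClosedImmersion s₀ := IsClosedImmersion.spec_of_surjective _ Ideal.Quotient.mk_surjective
    have hr : Set.range (pullback.fst q s₀) = Zc := by
      rw [Scheme.Pullback.range_fst]
      show q ⁻¹' Set.range s₀ = q ⁻¹' _
      congr 1
      refine Set.eq_singleton_iff_unique_mem.2 ⟨⟨closedPoint _, hs₀⟩, ?_⟩
      rintro _ ⟨w, rfl⟩
      haveI : Subsingleton ↥(Spec (CommRingCat.of (ResidueField S))) :=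
        inferInstanceAs (Subsingleton (PrimeSpectrum (ResidueField S)))
      rw [Subsingleton.elim w (closedPoint _)]; exact hs₀
    let H := (pullback.fst q s₀).isEmbedding.toHomeomorph.trans (Homeomorph.setCongr hr)
    exact Triage.GeomCount.card_connectedComponents_eq H H.continuous H.surjective fun v => by
      rw [H.isPreconnected_preimage]; exact isPreconnected_connectedComponent
  have hfin : Finite (_root_.ConnectedComponents ↥Zc) := by
    refine ENat.card_lt_top.1 ?_
    rw [← hclosed]
    exact lt_top_iff_ne_top.2 (nGeomConnComp_ne_top f y₀)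
  rw [hclosed, ← hz', ← (Triage.GeomCount.nGeom_baseChange f q p τ (IsPullback.of_hasPullback f τ) _).2]
  exact (card_connectedComponents_le hZ hmeet).trans (card_fibre_le_nGeom q z')

theorem nGeomConnComp_lsc_of_dominant {X Y : Scheme.{u}} [IrreducibleSpace Y] [IsLocallyNoetherian Y]
    (f : X ⟶ Y) [IsProper f]
    (hdom : ∀ Z ∈ irreducibleComponents (X : Type u), closure (f.base '' Z) = Set.univ) (y₀ : Y)
    (hy : CAlg2.IsGeomUnibranch (Y.presheaf.stalk y₀)) :
    ∃ V ∈ nhds y₀, ∀ z ∈ V, MoreMor.nGeomConnComp f y₀ ≤ MoreMor.nGeomConnComp f z := by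
  haveI : LocallyOfFinitePresentation f := GeomRedFlat5.lfp_of_noetherian f
  obtain ⟨n, hn⟩ := ENat.ne_top_iff_exists.1 (nGeomConnComp_ne_top f y₀)
  refine ⟨{z : Y | MoreMor.nGeomConnComp f y₀ ≤ MoreMor.nGeomConnComp f z},
    FibDim.mem_nhds_of_generizations ?_ fun z hz => nGeomConnComp_le_of_dominant f hdom hy hz,
    fun z hz => hz⟩
  have e : {z : Y | MoreMor.nGeomConnComp f y₀ ≤ MoreMor.nGeomConnComp f z} =
      ⋂ m ∈ Finset.range n, {z : Y | MoreMor.nGeomConnComp f z = (m : ℕ∞)}ᶜ := by
    ext z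
    simp only [Set.mem_ofPred_eq, Set.mem_iInter, Finset.mem_range, Set.mem_compl_iff, ← hn]
    constructor
    · intro h m hm e
      rw [e, Nat.cast_le] at h
      exact absurd h (Nat.not_le.2 hm)
    · intro h
      obtain ⟨m, hm⟩ := ENat.ne_top_iff_exists.1 (nGeomConnComp_ne_top f z)
      rw [← hm, Nat.cast_le]
      by_contra hc
      exact h m (Nat.not_le.1 hc) hm.symm
  rw [e]
  induction Finset.range n using Finset.induction with
  | empty => simp
  | insert a s ha ih =>
    rw [Finset.set_biInter_insert]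
    exact IsLocallyConstructible.inter (fun x => let ⟨U, h1, h2, h3⟩ := (isLocallyConstructible_counts f (a : ℕ∞)).2 x; ⟨U, h1, h2, by rw [Set.preimage_compl]; exact h3.compl⟩) ih

end Groth.Agent.GeomLoci
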